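import Groth.Prelude.Def_AlgSt
import Groth.Agent.AlgSt.K734.FibFp

set_option autoImplicit false
set_option backward.isDefEq.respectTransparency false
set_option backward.isDefEq.respectTransparency.types false
universe w' w v₃ u₃ v₂ u₂ v u

open CategoryTheory Opposite K734.Fib

namespace K747.OfPsh

variable {C : Type u} [Category.{v} C]
variable {P : Cᵒᵖ ⥤ Type w} {Q : Cᵒᵖ ⥤ Type w} {R : Cᵒᵖ ⥤ Type w}

theorem elt_ext {a b : Stk.EltObj P} (h : a.base = b.base) (hs : P.map (eqToHom h).op b.sec = a.sec) : a = b := by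
  obtain ⟨a, s⟩ := a
  obtain ⟨b, t⟩ := b
  dsimp at h
  subst h
  dsimp at hs
  rw [P.map_id] at hs
  simp only [types_id_apply] at hs
  rw [hs]

/-- vertical morphisms of `ofPsh P` are identities -/
theorem eq_of_vert {a b : Stk.EltObj P} (f : a ⟶ b) (hf : IsVert (Stk.ofPsh P) f) : a = b := by
  obtain ⟨h, e⟩ := isVert_iff.1 hf
  refine elt_ext h ?_
  have e' : f.hom = eqToHom h := e
  rw [← e']
  exact f.map_sec

theorem hom_eq {a b : Stk.EltObj P} (f g : a ⟶ b) (h : (Stk.ofPsh P).p.map f = (Stk.ofPsh P).p.map g) : f = g :=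
  Stk.EltObj.hom_ext h

theorem functor_ext {𝒳 : BasedCategory.{v₂, u₂} C} {Φ Ψ : 𝒳 ⥤ᵇ Stk.ofPsh P} (h : ∀ x, Φ.obj x = Ψ.obj x) :
    Φ = Ψ := by
  obtain ⟨Φ, hΦ⟩ := Φ
  obtain ⟨Ψ, hΨ⟩ := Ψ
  have : Φ = Ψ := by
    refine CategoryTheory.Functor.ext h ?_
    intro x y f
    refine hom_eq _ _ ?_
    have h1 := Functor.congr_hom hΦ f
    have h2 := Functor.congr_hom hΨ f
    dsimp only [Functor.comp_map] at h1 h2
    rw [h1, Functor.map_comp, Functor.map_comp, h2, eqToHom_map, eqToHom_map]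
    simp
  subst this
  rfl

theorem functor_eq_of_iso {𝒳 : BasedCategory.{v₂, u₂} C} {Φ Ψ : 𝒳 ⥤ᵇ Stk.ofPsh P} (e : Φ ≅ Ψ) : Φ = Ψ :=
  functor_ext fun x => eq_of_vert _ (app_vert e x)

/-- the map of presheaves underlying a functor over `C` -/
noncomputable def toMap (Φ : Stk.ofPsh P ⥤ᵇ Stk.ofPsh Q) : P ⟶ Q where
  app V := ↾fun s => Q.map (eqToHom (Φ.w_obj ⟨V.unop, s⟩).symm).op (Φ.obj ⟨V.unop, s⟩).sec
  naturality V V' g := by
    ext s
    dsimp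
    let f : (⟨V'.unop, P.map g s⟩ : Stk.EltObj P) ⟶ ⟨V.unop, s⟩ := ⟨g.unop, rfl⟩
    have h1 := (Φ.map f).map_sec
    have h2 : (Φ.map f).hom = eqToHom (Φ.w_obj _) ≫ g.unop ≫ eqToHom (Φ.w_obj _).symm :=
      Functor.congr_hom Φ.w f
    rw [← h1, h2, ← Functor.map_comp_apply, ← Functor.map_comp_apply]
    congr 3
    apply Quiver.Hom.unop_inj
    simp

theorem toMap_app (Φ : Stk.ofPsh P ⥤ᵇ Stk.ofPsh Q) (V : C) (s : P.obj (op V)) :
    Φ.obj ⟨V, s⟩ = ⟨V, (toMap Φ).app (op V) s⟩ :=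
  elt_ext (Φ.w_obj ⟨V, s⟩) (by
    dsimp [toMap]
    rw [← Functor.map_comp_apply, ← op_comp]
    simp)

theorem ofPshMap_toMap (Φ : Stk.ofPsh P ⥤ᵇ Stk.ofPsh Q) : Stk.ofPshMap (toMap Φ) = Φ :=
  functor_ext fun x => (toMap_app Φ x.base x.sec).symm

theorem toMap_ofPshMap (f : P ⟶ Q) : toMap (Stk.ofPshMap f) = f := by
  ext V s
  have := toMap_app (Stk.ofPshMap f) V.unop s
  change (⟨V.unop, f.app V s⟩ : Stk.EltObj Q) = ⟨V.unop, _⟩ at this
  injection this with h1 h2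
  exact h2.symm

theorem ofPshMap_injective {f g : P ⟶ Q} (h : Stk.ofPshMap f = Stk.ofPshMap g) : f = g := by
  rw [← toMap_ofPshMap f, h, toMap_ofPshMap]

theorem ofPshMap_comp (f : P ⟶ Q) (g : Q ⟶ R) : Stk.ofPshMap (f ≫ g) = BasedFunctor.comp (Stk.ofPshMap f) (Stk.ofPshMap g) := rfl

theorem ofPshMap_id : Stk.ofPshMap (𝟙 P) = BasedFunctor.id (Stk.ofPsh P) := rfl

/-- mutually inverse equivalences between categories of presheaves give an isomorphism of presheaves -/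
theorem exists_iso {Φ : Stk.ofPsh P ⥤ᵇ Stk.ofPsh Q} (h : FibCat.IsEquivOver Φ) :
    ∃ e : P ≅ Q, Stk.ofPshMap e.hom = Φ := by
  obtain ⟨Ψ, ⟨a⟩, ⟨b⟩⟩ := h
  refine ⟨⟨toMap Φ, toMap Ψ, ?_, ?_⟩, ofPshMap_toMap Φ⟩
  · apply ofPshMap_injective
    rw [ofPshMap_comp, ofPshMap_toMap, ofPshMap_toMap, ofPshMap_id]
    exact functor_eq_of_iso a
  · apply ofPshMap_injective
    rw [ofPshMap_comp, ofPshMap_toMap, ofPshMap_toMap, ofPshMap_id]
    exact functor_eq_of_iso b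

theorem isEquivOver_ofPshMap (e : P ≅ Q) : FibCat.IsEquivOver (Stk.ofPshMap e.hom) :=
  ⟨Stk.ofPshMap e.inv, ⟨eqToIso (by rw [← ofPshMap_comp, e.hom_inv_id, ofPshMap_id])⟩,
    ⟨eqToIso (by rw [← ofPshMap_comp, e.inv_hom_id, ofPshMap_id])⟩⟩

/-- Two presheaves representing the same category over `C` are isomorphic, compatibly. -/
theorem exists_iso_of_rep {𝒵 : BasedCategory.{v₂, u₂} C} {e : Stk.ofPsh P ⥤ᵇ 𝒵} {e' : Stk.ofPsh Q ⥤ᵇ 𝒵}
    (h : FibCat.IsEquivOver e) (h' : FibCat.IsEquivOver e') :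
    ∃ i : P ≅ Q, Nonempty (BasedFunctor.comp (Stk.ofPshMap i.hom) e' ≅ e) := by
  obtain ⟨G, hG, ⟨α⟩, ⟨β⟩⟩ := exists_inverse h'
  obtain ⟨i, hi⟩ := exists_iso (isEquivOver_comp h hG)
  refine ⟨i, ⟨?_⟩⟩
  rw [hi]
  exact wl e β
end K747.OfPsh
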