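import Groth.Prelude.Def_AlgSt2
import Groth.Prelude.Def_AlgSpRep
import Groth.Agent.AlgSt.K747.OfPsh

set_option autoImplicit false
set_option backward.isDefEq.respectTransparency false
set_option backward.isDefEq.respectTransparency.types false
universe w v u

open CategoryTheory Opposite AlgebraicGeometry K734.Fib

namespace K747.Rep

variable {S : Scheme.{u}}

/-- presheaf version of `AlgSt.secHom` -/
def secHom {M : AlgSp.PSp S} {U : Over S} (Φ : Stk.ofPsh M ⥤ᵇ FibCat.overCat U) (a : (Stk.ofPsh M).obj) : a.base ⟶ U :=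
  eqToHom (Φ.w_obj a).symm ≫ (Φ.obj a).hom

theorem secHom_comp {M : AlgSp.PSp S} {U : Over S} (Φ : Stk.ofPsh M ⥤ᵇ FibCat.overCat U) {a' a : (Stk.ofPsh M).obj}
    (ψ : a' ⟶ a) : ψ.hom ≫ secHom Φ a = secHom Φ a' := by
  have h1 : (Φ.map ψ).left ≫ (Φ.obj a).hom = (Φ.obj a').hom := Over.w (Φ.map ψ)
  have h2 : (Φ.map ψ).left = eqToHom (Φ.w_obj a') ≫ ψ.hom ≫ eqToHom (Φ.w_obj a).symm :=
    IsHomLift.fac' (FibCat.overCat U).p ((Stk.ofPsh M).p.map ψ) (Φ.map ψ)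
  simp only [secHom, ← h1, h2, Category.assoc, eqToHom_trans_assoc, eqToHom_refl, Category.id_comp]

/-- presheaf version of `AlgSt.spMapOfOver` -/
def pMap {M : AlgSp.PSp S} {U : Over S} (Φ : Stk.ofPsh M ⥤ᵇ FibCat.overCat U) : M ⟶ (AlgSp.pyon S).obj U where
  app T := ↾fun x => ⟨secHom Φ ⟨T.unop, x⟩⟩
  naturality T T' g := by
    ext x
    dsimp
    apply ULift.ext
    dsimp
    exact (secHom_comp Φ (⟨g.unop, rfl⟩ : (⟨T'.unop, M.map g x⟩ : (Stk.ofPsh M).obj) ⟶ ⟨T.unop, x⟩)).symm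

theorem spMapOfOver_eq {F : AlgSp.Sp S} {U : Over S} (Φ : AlgSt.ofSp F ⥤ᵇ FibCat.overCat U) :
    AlgSt.spMapOfOver Φ = ObjectProperty.homMk (pMap Φ) := rfl

theorem secHom_congr {M : AlgSp.PSp S} {U : Over S} {Φ Ψ : Stk.ofPsh M ⥤ᵇ FibCat.overCat U} (α : Φ ≅ Ψ)
    (a : (Stk.ofPsh M).obj) : secHom Φ a = secHom Ψ a := by
  have h1 : (app α a).hom.left ≫ (Ψ.obj a).hom = (Φ.obj a).hom := Over.w (app α a).hom
  obtain ⟨h, h2⟩ := isVert_iff.1 (app_vert α a)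
  have h3 : (app α a).hom.left = eqToHom h := h2
  simp only [secHom, ← h1, h3, eqToHom_trans_assoc]

theorem pMap_congr {M : AlgSp.PSp S} {U : Over S} {Φ Ψ : Stk.ofPsh M ⥤ᵇ FibCat.overCat U} (α : Φ ≅ Ψ) :
    pMap Φ = pMap Ψ := by
  ext T s
  exact congrArg ULift.up (secHom_congr α _)

theorem pMap_comp {M N : AlgSp.PSp S} {U : Over S} (f : M ⟶ N) (Φ : Stk.ofPsh N ⥤ᵇ FibCat.overCat U) :
    pMap (BasedFunctor.comp (Stk.ofPshMap f) Φ) = f ≫ pMap Φ := rfl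

theorem repByAlgSp_iff {M : AlgSp.PSp S} {𝒵 : BasedCategory.{v, w} (Over S)} {e : Stk.ofPsh M ⥤ᵇ 𝒵}
    (he : FibCat.IsEquivOver e) : AlgSt.RepByAlgSp 𝒵 ↔ AlgSp.IsAlgSpaceP M := by
  constructor
  · rintro ⟨F, e', he'⟩
    obtain ⟨i, -⟩ := OfPsh.exists_iso_of_rep he' he
    exact ((AlgSp.isAlgSpaceP_obj_iff F.obj).2 F.property).of_iso i
  · rintro ⟨h, hA⟩
    exact ⟨⟨⟨M, h⟩, hA⟩, e, he⟩

/-- testing "representable by a space with property `P` over `h_U`" on any representing presheaf -/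
theorem with_iff (P : MorphismProperty (AlgSp.Sp S)) [P.RespectsIso] {M : AlgSp.PSp S}
    {𝒵 : BasedCategory.{v, w} (Over S)} {U : Over S} (Φ : 𝒵 ⥤ᵇ FibCat.overCat U) {e : Stk.ofPsh M ⥤ᵇ 𝒵}
    (he : FibCat.IsEquivOver e) :
    (∃ (F : AlgSp.Space S) (e' : AlgSt.ofSp F.obj ⥤ᵇ 𝒵), FibCat.IsEquivOver e' ∧
      P (AlgSt.spMapOfOver (BasedFunctor.comp e' Φ))) ↔
    ∃ h : Presheaf.IsSheaf (AlgSp.J S) M, AlgSp.IsAlgSpace (⟨M, h⟩ : AlgSp.Sp S) ∧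
      P (ObjectProperty.homMk (pMap (BasedFunctor.comp e Φ)) : (⟨M, h⟩ : AlgSp.Sp S) ⟶ (AlgSp.yon S).obj U) := by
  constructor
  · rintro ⟨F, e', he', hP⟩
    obtain ⟨i, ⟨α⟩⟩ := OfPsh.exists_iso_of_rep he he'
    have hM : Presheaf.IsSheaf (AlgSp.J S) M := (Presheaf.isSheaf_of_iso_iff i).2 F.obj.property
    let i' : (⟨M, hM⟩ : AlgSp.Sp S) ≅ F.obj := (fullyFaithfulSheafToPresheaf (AlgSp.J S) _).preimageIso i
    refine ⟨hM, F.property.of_iso i'.symm, ?_⟩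
    have h1 : pMap (BasedFunctor.comp e Φ) = i.hom ≫ pMap (BasedFunctor.comp e' Φ) := by
      rw [← pMap_comp]
      exact pMap_congr (wr α.symm Φ)
    have h2 : (ObjectProperty.homMk (pMap (BasedFunctor.comp e Φ)) : (⟨M, hM⟩ : AlgSp.Sp S) ⟶ (AlgSp.yon S).obj U) =
        i'.hom ≫ AlgSt.spMapOfOver (BasedFunctor.comp e' Φ) := by
      apply ObjectProperty.hom_ext
      exact h1
    rw [h2]
    exact MorphismProperty.RespectsIso.precomp P i'.hom _ hP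
  · rintro ⟨h, hA, hP⟩
    exact ⟨⟨⟨M, h⟩, hA⟩, e, he, hP⟩

end K747.Rep
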