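import Groth.Prelude.Def_AlgSp
import Mathlib.AlgebraicGeometry.Sites.Etale

set_option autoImplicit false
universe u

open CategoryTheory Opposite AlgebraicGeometry Limits

namespace K747.Top

theorem etale_le_fppf : Scheme.etalePrecoverage.{u} ≤ Scheme.fppfPrecoverage.{u} :=
  Scheme.precoverage_mono fun X Y f hf => by
    have : Etale f := hf
    exact ⟨inferInstance, inferInstance⟩

theorem J_le (S : Scheme.{u}) : QuotSh.J Scheme.etalePrecoverage S ≤ AlgSp.J S := by
  intro X R hR
  rw [GrothendieckTopology.mem_over_iff] at hR ⊢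
  exact Precoverage.toGrothendieck_mono etale_le_fppf _ hR

instance (S : Scheme.{u}) : (QuotSh.J Scheme.etalePrecoverage S).Subcanonical :=
  .of_le (J_le S)

theorem isSheafFor_yoneda {S : Scheme.{u}} (K : Precoverage Scheme.{u}) [(QuotSh.J K S).Subcanonical] (T V : Over S) (R : Sieve V)
    (hR : R ∈ QuotSh.J K S V) : Presieve.IsSheafFor (yoneda.obj T) R.arrows :=
  GrothendieckTopology.Subcanonical.isSheaf_of_isRepresentable (J := QuotSh.J K S) (yoneda.obj T) R hR

end K747.Top
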