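import Groth.Agent.AlgSt.K747.Mul
import Groth.Agent.AlgSt.K747.Top

set_option autoImplicit false
set_option backward.isDefEq.respectTransparency false
set_option backward.isDefEq.respectTransparency.types false
universe w v₂ u₂ v u

open CategoryTheory Opposite K734.Fib AlgebraicGeometry Limits

namespace K747.Sc

variable {S : Scheme.{u}} {𝒳 : BasedCategory.{u, w} (Over S)} (h𝒳 : FibCat.IsFibGrpd 𝒳.p)
variable {T U : Over S}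

theorem isSheaf_I (K : Precoverage Scheme.{u}) [(QuotSh.J K S).Subcanonical] (hs : Stk.IsPrestack (QuotSh.J K S) 𝒳)
    (x₁ x₂ : FibCat.overCat T ⥤ᵇ 𝒳) : Presheaf.IsSheaf (QuotSh.J K S) (I h𝒳 x₁ x₂) := by
  rw [isSheaf_iff_isSheaf_of_type]
  intro V R hR
  exact isSheafFor_isoPsh.{u + 1} h𝒳 R (hs.2 R hR) (K747.Top.isSheafFor_yoneda K T V R hR)

theorem isPrestack_of_isStack {K : Precoverage Scheme.{u}} (hs : Stk.IsStack (QuotSh.J K S) 𝒳) :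
    Stk.IsPrestack (QuotSh.J K S) 𝒳 :=
  ⟨hs.1, fun U R hR => by
    have := hs.2 R hR
    have : (Stk.resSieve R 𝒳).IsEquivalence := this
    exact ⟨inferInstance, inferInstance⟩⟩

/-- a sheaf isomorphic to a fibre product of algebraic spaces over a scheme is an algebraic space -/
theorem isAlgSpaceP_of_isPullback {A B N : AlgSp.PSp S} {W : Over S} {f : A ⟶ (AlgSp.pyon S).obj W} {g : B ⟶ (AlgSp.pyon S).obj W}
    {a : N ⟶ A} {b : N ⟶ B} (sq : IsPullback a b f g) (hA : AlgSp.IsAlgSpaceP A) (hB : AlgSp.IsAlgSpaceP B) :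
    AlgSp.IsAlgSpaceP N := by
  obtain ⟨hA1, hA2⟩ := hA
  obtain ⟨hB1, hB2⟩ := hB
  have hN : Presheaf.IsSheaf (AlgSp.J S) N :=
    AlgSp.isSheaf_of_isPullback (F := ⟨A, hA1⟩) (G := (AlgSp.yon S).obj W) (H := ⟨B, hB1⟩) sq
  refine ⟨hN, ?_⟩
  have sq' : IsPullback (ObjectProperty.homMk a : (⟨N, hN⟩ : AlgSp.Sp S) ⟶ ⟨A, hA1⟩)
      (ObjectProperty.homMk b : (⟨N, hN⟩ : AlgSp.Sp S) ⟶ ⟨B, hB1⟩)
      (ObjectProperty.homMk f : (⟨A, hA1⟩ : AlgSp.Sp S) ⟶ (AlgSp.yon S).obj W)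
      (ObjectProperty.homMk g : (⟨B, hB1⟩ : AlgSp.Sp S) ⟶ (AlgSp.yon S).obj W) :=
    IsPullback.of_map_of_faithful (sheafToPresheaf (AlgSp.J S) (Type (u + 1))) sq
  exact Groth.Agent.S9874.result S ((AlgSp.yon S).obj W) (AlgSp.IsAlgSpace.yon_obj W).diag
    ⟨⟨A, hA1⟩, hA2⟩ ⟨⟨B, hB1⟩, hB2⟩ (ObjectProperty.homMk f) (ObjectProperty.homMk g) ⟨N, hN⟩
    (ObjectProperty.homMk a) (ObjectProperty.homMk b) sq'

/-- the bootstrap statement S10110 for `K`-sheaves -/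
def Boot (S : Scheme.{u}) (K : Precoverage Scheme.{u}) : Prop :=
  ∀ (F : AlgSp.PSp S) (_ : Presheaf.IsSheaf (QuotSh.J K S) F) (U : AlgSp.Space S) (p : U.obj.obj ⟶ F),
    AlgSp.RepBySpWith (AlgSp.IsSurjectiveMor ⊓ AlgSp.LocP @Smooth) p → AlgSp.IsAlgSpaceP F

theorem isAlgSpaceP_I (K : Precoverage Scheme.{u}) [(QuotSh.J K S).Subcanonical] (hb : Boot S K)
    (hs : Stk.IsPrestack (QuotSh.J K S) 𝒳) {z : FibCat.overCat U ⥤ᵇ 𝒳}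
    (hz1 : AlgSt.RepByAlgSpWith (AlgSp.LocP @Smooth) z) (hz2 : AlgSt.RepByAlgSpWith AlgSp.IsSurjectiveMor z)
    (x₁ x₂ : FibCat.overCat T ⥤ᵇ 𝒳) : AlgSp.IsAlgSpaceP (I h𝒳 x₁ x₂) := by
  obtain ⟨h1, hA1, -⟩ := repByAlgSpWith_psh (x := x₁) h𝒳 _ hz1
  obtain ⟨h2, hA2, hsm⟩ := repByAlgSpWith_psh (x := x₂) h𝒳 _ hz1
  obtain ⟨h2', -, hsurj⟩ := repByAlgSpWith_psh (x := x₂) h𝒳 _ hz2
  have sq := IsPullback.of_hasPullback (prI h𝒳 x₁ x₂) (prT h𝒳 x₂ z)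
  have sq2 := isPullback_mul sq
  have hN : AlgSp.IsAlgSpaceP (pullback (prI h𝒳 x₁ x₂) (prT h𝒳 x₂ z)) :=
    isAlgSpaceP_of_isPullback sq2 ⟨h1, hA1⟩ ⟨h2, hA2⟩
  obtain ⟨hN1, hN2⟩ := hN
  refine hb _ (isSheaf_I h𝒳 K hs x₁ x₂) ⟨⟨_, hN1⟩, hN2⟩ (pullback.fst (prI h𝒳 x₁ x₂) (prT h𝒳 x₂ z)) ?_
  intro V ξ F' fst snd sq3
  have sq4 : IsPullback (fst ≫ pullback.snd (prI h𝒳 x₁ x₂) (prT h𝒳 x₂ z)) snd (prT h𝒳 x₂ z) (ξ ≫ prI h𝒳 x₁ x₂) :=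
    (sq3.flip.paste_vert sq).flip
  obtain ⟨hF1, hF2⟩ := isAlgSpaceP_of_isPullback sq4 ⟨h2, hA2⟩ ⟨((AlgSp.yon S).obj V).property, AlgSp.IsAlgSpace.yon_obj V⟩
  refine ⟨hF1, hF2, ?_⟩
  have sq5 : IsPullback (ObjectProperty.homMk (fst ≫ pullback.snd (prI h𝒳 x₁ x₂) (prT h𝒳 x₂ z)) : (⟨F', hF1⟩ : AlgSp.Sp S) ⟶ ⟨P h𝒳 x₂ z, h2⟩)
      (ObjectProperty.homMk snd : (⟨F', hF1⟩ : AlgSp.Sp S) ⟶ (AlgSp.yon S).obj V)
      (ObjectProperty.homMk (prT h𝒳 x₂ z) : (⟨P h𝒳 x₂ z, h2⟩ : AlgSp.Sp S) ⟶ (AlgSp.yon S).obj T)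
      (ObjectProperty.homMk (ξ ≫ prI h𝒳 x₁ x₂) : (AlgSp.yon S).obj V ⟶ (AlgSp.yon S).obj T) :=
    IsPullback.of_map_of_faithful (sheafToPresheaf (AlgSp.J S) (Type (u + 1))) sq4
  refine ⟨?_, ?_⟩
  · exact K609.Points.surjective_map_of_isPullback sq5.flip hsurj
  · exact K597.locP_bc K597.etLoc_smooth sq5 hA2.hasAtlas (AlgSp.IsAlgSpace.yon_obj T).hasAtlas
      (AlgSp.IsAlgSpace.yon_obj V).hasAtlas hsm

/-- an étale (or fppf) stack with a smooth surjective atlas has a diagonal representable by algebraic spaces -/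
theorem diag_of_atlas (K : Precoverage Scheme.{u}) [(QuotSh.J K S).Subcanonical] (hb : Boot S K)
    (hs : Stk.IsPrestack (QuotSh.J K S) 𝒳) (ha : AlgSt.HasAtlas (AlgSp.LocP @Smooth) 𝒳) :
    AlgSt.RepByAlgSp1 (FibCat.diag (FibCat.toSelf 𝒳)) := by
  obtain ⟨U, z, hz1, hz2⟩ := ha
  intro T y
  exact (Rep.repByAlgSp_iff (toDiag_isEquivOver.{u + 1} hs.1 y)).2 (isAlgSpaceP_I hs.1 K hb hs hz1 hz2 _ _)

theorem isAlgStack_of_atlas (K : Precoverage Scheme.{u}) [(QuotSh.J K S).Subcanonical] (hb : Boot S K)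
    (hs : Stk.IsStack (QuotSh.J K S) 𝒳) (ha : AlgSt.HasAtlas (AlgSp.LocP @Smooth) 𝒳) :
    AlgSt.IsAlgStack K 𝒳 :=
  ⟨hs, diag_of_atlas K hb (isPrestack_of_isStack hs) ha, ha⟩

end K747.Sc
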