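import Groth.Agent.AlgSt.K747.Top
import Groth.Agent.Etrest.BigEtDescent
import Groth.Agent.S0412

set_option autoImplicit false
set_option linter.unusedVariables false
set_option backward.isDefEq.respectTransparency.types false

universe u

open CategoryTheory Opposite AlgebraicGeometry Limits

namespace K747.Cover

variable {S : Scheme.{u}}

theorem mem_J_iff {T : Over S} {R : Sieve T} :
    R ∈ AlgSp.J S T ↔ ∀ x : T.left, ∃ (Y : Over S) (g : Y ⟶ T), R g ∧ Flat g.left ∧
      LocallyOfFinitePresentation g.left ∧ x ∈ Set.range g.left :=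
  Groth.Agent.Etrest.BigEtSite.mem_J_iff

theorem mem_JE_iff {T : Over S} {R : Sieve T} :
    R ∈ QuotSh.J Scheme.etalePrecoverage S T ↔ ∀ x : T.left, ∃ (Y : Over S) (g : Y ⟶ T), R g ∧ Etale g.left ∧ 
      x ∈ Set.range g.left :=
  Groth.Agent.Etrest.BigEtSite.mem_JE_iff

/-- an fppf covering sieve is an étale covering sieve after pullback to one flat surjective scheme -/
theorem exists_cover {T : Over S} {R : Sieve T} (hR : R ∈ AlgSp.J S T) :
    ∃ (V : Over S) (v : V ⟶ T), Flat v.left ∧ LocallyOfFinitePresentation v.left ∧ Surjective v.left ∧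
      R.pullback v ∈ QuotSh.J Scheme.etalePrecoverage S V := by
  rw [mem_J_iff] at hR
  choose Y g hg h1 h2 h3 using hR
  let V : Over S := Over.mk (Sigma.desc (fun x => (Y x).hom))
  let v : V ⟶ T := Over.homMk (Sigma.desc (fun x => (g x).left)) (by
    apply Sigma.hom_ext
    intro x
    simp [V])
  let ι : ∀ x, Y x ⟶ V := fun x => Over.homMk (Sigma.ι (fun x => (Y x).left) x) (by simp [V])
  have hι : ∀ x, ι x ≫ v = g x := by
    intro x
    ext
    simp [ι, v]
  refine ⟨V, v, ?_, ?_, ?_, ?_⟩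
  · exact IsZariskiLocalAtSource.sigmaDesc (P := @Flat) (fun x => h1 x)
  · exact IsZariskiLocalAtSource.sigmaDesc (P := @LocallyOfFinitePresentation) (fun x => h2 x)
  · refine ⟨fun x => ?_⟩
    obtain ⟨y, hy⟩ := h3 x
    refine ⟨(ι x).left y, ?_⟩
    rw [← Scheme.Hom.comp_apply, ← Over.comp_left, hι]
    exact hy
  · rw [mem_JE_iff]
    intro y
    obtain ⟨⟨x, y'⟩, hy⟩ := (sigmaMk (fun x => (Y x).left)).surjective y
    rw [sigmaMk_mk] at hy
    refine ⟨Y x, ι x, ?_, ?_, ⟨y', hy⟩⟩
    · change R (ι x ≫ v)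
      rw [hι]
      exact hg x
    · change Etale (Sigma.ι (fun x => (Y x).left) x)
      infer_instance

/-- the sieve of arrows to `T` which factor through a smooth surjective scheme over `T` is étale covering -/
theorem mem_of_smooth {T E : Over S} (e : E ⟶ T) [Smooth e.left] [Surjective e.left] (Q : Sieve T)
    (hQ : ∀ {W : Over S} (q : W ⟶ T) (k : W ⟶ E), k ≫ e = q → Q q) :
    Q ∈ QuotSh.J Scheme.etalePrecoverage S T := by
  rw [mem_JE_iff]
  intro x
  obtain ⟨S', g, s', hg, hs, h, hh⟩ := Groth.Agent.S0412.result e.left x (e.left.surjective x)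
  let W : Over S := Over.mk (g ≫ T.hom)
  let q : W ⟶ T := Over.homMk g rfl
  let k : W ⟶ E := Over.homMk h (by
    change h ≫ E.hom = g ≫ T.hom
    rw [← hh, Category.assoc, Over.w e])
  refine ⟨W, q, hQ q k ?_, hg, ⟨s', hs⟩⟩
  ext
  exact hh

end K747.Cover
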