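import Groth.Agent.AlgSt.K739.RepDiag2
import Groth.Agent.AlgSt.K740.SpDM
import Groth.Agent.AlgSt.K740.SpIso
import Groth.Agent.AlgSt.K734.Atlas

/-!
# The diagonal of a Deligne-Mumford stack is unramified

* `isDMOver_of_isDM` : any topology `K`.
-/

set_option autoImplicit false
set_option backward.isDefEq.respectTransparency false
set_option backward.isDefEq.respectTransparency.types false
universe w v₂ u₂ v u

open CategoryTheory Opposite AlgebraicGeometry Limits

namespace K747.DM

variable {S : Scheme.{u}}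

theorem isDMOver_of_isDM {K : Precoverage Scheme.{u}} {𝒳 : AlgSt.Cat S} (h : AlgSt.IsDM K 𝒳) : AlgSt.IsDMOver 𝒳 := by
  obtain ⟨U, x, hx1, hx2⟩ := h.2
  have hE : AlgSt.RepByAlgSpWith (AlgSp.LocP @Etale) x :=
    K740.SpIso.repByAlgSpWith_imp hx1 fun F U q hq => K597.locP_etale_of_isEtaleMor hq
  have hw : ∀ {P : MorphismProperty (AlgSp.Sp S)}, AlgSt.RepByAlgSpWith P x →
      AlgSt.RepByAlgSpWith P (BasedFunctor.comp (AlgSt.toOverCat U) x) := fun hP =>
    (K734.Rep.repByAlgSpWith_precomp_iff (K735.Rep.isEquivOver_toOverCat U) x).2 hP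
  have hm : ∀ {P : MorphismProperty Scheme.{u}}, @Etale.{u} ≤ P → AlgSt.RepByAlgSpWith (AlgSp.LocP P) x := fun hP =>
    K740.SpIso.repByAlgSpWith_imp hE fun F U q hq => K597.locP_mono hP hq
  exact K739.RepDiag2.repByAlgSpWith_diag_toSelf_of_chart K739.Props.bc_unram K739.Props.comp_unram
    K739.RepDiag2.loc_unram K739.RepDiag2.hasMono_unram 𝒳 h.1.isStack.1 h.1.diag ⟨(AlgSp.yon S).obj U, AlgSp.IsAlgSpace.yon_obj U⟩
    (BasedFunctor.comp (AlgSt.toOverCat U) x)
    (hw (hm fun _ _ f (_ : Etale f) => (inferInstance : Flat f)))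
    (hw (hm fun _ _ f (_ : Etale f) => (inferInstance : LocallyOfFinitePresentation f))) (hw hx2)
    (hw (hm fun _ _ f (_ : Etale f) => ⟨(inferInstance : LocallyOfFiniteType f), (inferInstance : FormallyUnramified f)⟩))

end K747.DM
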