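import Groth.Agent.AlgSt.K747.Pr

set_option autoImplicit false
set_option backward.isDefEq.respectTransparency false
set_option backward.isDefEq.respectTransparency.types false
universe w v₂ u₂ v u

open CategoryTheory Opposite K734.Fib AlgebraicGeometry Limits

namespace K747.Sc

variable {S : Scheme.{u}} {𝒳 : BasedCategory.{u, w} (Over S)} (h𝒳 : FibCat.IsFibGrpd 𝒳.p)
variable {T U : Over S} (x : FibCat.overCat T ⥤ᵇ 𝒳) (z : FibCat.overCat U ⥤ᵇ 𝒳)

/-- both projections -/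
noncomputable def prTU : P h𝒳 x z ⟶ (AlgSp.pyon S).obj (T ⨯ U) where
  app V := ↾fun s => ⟨prod.lift s.down.t s.down.u⟩
  naturality V V' g := by
    ext s
    refine congrArg ULift.up ?_
    have h := isRes_res h𝒳 g.unop s.down
    change prod.lift (res h𝒳 g.unop s.down).t (res h𝒳 g.unop s.down).u = g.unop ≫ prod.lift s.down.t s.down.u
    rw [prod.comp_lift, h.ht, h.hu]

theorem app_eq {F G H K : AlgSp.PSp S} {a : F ⟶ G} {b : F ⟶ H} {c : G ⟶ K} {d : H ⟶ K} (h : a ≫ c = b ≫ d)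
    {V : (Over S)ᵒᵖ} (n : F.obj V) : c.app V (a.app V n) = d.app V (b.app V n) := by
  have := ConcreteCategory.congr_hom (NatTrans.congr_app h V) n
  simpa using this

theorem exists_of_isPullback {F G H K : AlgSp.PSp S} {a : F ⟶ G} {b : F ⟶ H} {c : G ⟶ K} {d : H ⟶ K}
    (h : IsPullback a b c d) {V : (Over S)ᵒᵖ} (g : G.obj V) (k : H.obj V) (e : c.app V g = d.app V k) :
    ∃ n : F.obj V, a.app V n = g ∧ b.app V n = k := by
  have h1 := h.map ((evaluation (Over S)ᵒᵖ (Type (u+1))).obj V)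
  rw [Types.isPullback_iff] at h1
  exact h1.2.2 g k e

theorem ext_of_isPullback {F G H K : AlgSp.PSp S} {a : F ⟶ G} {b : F ⟶ H} {c : G ⟶ K} {d : H ⟶ K}
    (h : IsPullback a b c d) {V : (Over S)ᵒᵖ} (n n' : F.obj V) (e1 : a.app V n = a.app V n')
    (e2 : b.app V n = b.app V n') : n = n' := by
  have h1 := h.map ((evaluation (Over S)ᵒᵖ (Type (u+1))).obj V)
  rw [Types.isPullback_iff] at h1
  exact h1.2.1 n n' ⟨e1, e2⟩

variable {h𝒳}
variable {x₁ x₂ : FibCat.overCat T ⥤ᵇ 𝒳} {z}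
variable {N : AlgSp.PSp S} {a : N ⟶ I h𝒳 x₁ x₂} {b : N ⟶ P h𝒳 x₂ z}

theorem mul_cond (sq : IsPullback a b (prI h𝒳 x₁ x₂) (prT h𝒳 x₂ z)) {V : (Over S)ᵒᵖ} (n : N.obj V) :
    (a.app V n).1.down.u = (b.app V n).down.t :=
  (a.app V n).2.symm.trans (congrArg ULift.down (app_eq sq.w n))

/-- composition of an isomorphism and a section -/
noncomputable def mul (sq : IsPullback a b (prI h𝒳 x₁ x₂) (prT h𝒳 x₂ z)) : N ⟶ P h𝒳 x₁ z where
  app V := ↾fun n => ⟨(a.app V n).1.down.trans (b.app V n).down (mul_cond sq n)⟩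
  naturality V V' g := by
    ext n
    refine Eq.symm ((psh_map_eq_iff.{u+1} h𝒳).2 ?_)
    exact IsRes.trans ((isoPsh_map_eq_iff.{u+1} h𝒳).1 (NatTrans.naturality_apply a g n).symm)
      ((psh_map_eq_iff.{u+1} h𝒳).1 (NatTrans.naturality_apply b g n).symm) (mul_cond sq n) (mul_cond sq _)

theorem mul_app (sq : IsPullback a b (prI h𝒳 x₁ x₂) (prT h𝒳 x₂ z)) {V : (Over S)ᵒᵖ} (n : N.obj V) :
    (mul sq).app V n = ⟨(a.app V n).1.down.trans (b.app V n).down (mul_cond sq n)⟩ := rfl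

theorem lift_eq_iff {V T U : Over S} {t t' : V ⟶ T} {u u' : V ⟶ U} : prod.lift t u = prod.lift t' u' ↔ t = t' ∧ u = u' := by
  constructor
  · intro h
    exact ⟨by simpa using congrArg (· ≫ Limits.prod.fst) h, by simpa using congrArg (· ≫ Limits.prod.snd) h⟩
  · rintro ⟨rfl, rfl⟩; rfl

theorem isPullback_mul (sq : IsPullback a b (prI h𝒳 x₁ x₂) (prT h𝒳 x₂ z)) :
    IsPullback (mul sq) b (prTU h𝒳 x₁ z) (prTU h𝒳 x₂ z) := by
  refine K739.Diag.isPullback_psh _ _ _ _ ?_ ?_ ?_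
  · intro V n
    refine congrArg ULift.up ?_
    change prod.lift (a.app _ n).1.down.t (b.app _ n).down.u = prod.lift (b.app _ n).down.t (b.app _ n).down.u
    rw [lift_eq_iff]
    exact ⟨congrArg ULift.down (app_eq sq.w n), rfl⟩
  · intro V n n' h1 h2
    refine ext_of_isPullback sq n n' ?_ h2
    rw [mul_app, mul_app] at h1
    have h1' := congrArg ULift.down h1
    dsimp only at h1'
    have k1 := Sec.trans_trans_symm h𝒳 (a.app _ n).1.down (b.app _ n).down (mul_cond sq n) rfl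
    have k2 := Sec.trans_trans_symm h𝒳 (a.app _ n').1.down (b.app _ n').down (mul_cond sq n') rfl
    apply Subtype.ext
    apply ULift.ext
    rw [← k1, ← k2]
    congr 1
    rw [h2]
  · intro V s s' e
    obtain ⟨e1, e2⟩ := lift_eq_iff.1 (congrArg ULift.down e)
    let r : Sec x₁ x₂ V := s.down.trans (s'.down.symm h𝒳) e2
    have hr : r.t = r.u := e1
    obtain ⟨n, hn1, hn2⟩ := exists_of_isPullback sq (V := op V) (⟨⟨r⟩, hr⟩ : (I h𝒳 x₁ x₂).obj (op V)) s' (congrArg ULift.up e1)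
    refine ⟨n, ?_, hn2⟩
    rw [mul_app]
    apply ULift.ext
    have k := Sec.trans_symm_trans h𝒳 s.down s'.down e2 rfl
    refine Eq.trans ?_ k
    dsimp only
    congr 1
    · rw [hn1]
    · rw [hn2]

end K747.Sc
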