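import Groth.Agent.Stk.K751.Test

set_option autoImplicit false
set_option backward.isDefEq.respectTransparency false
set_option backward.isDefEq.respectTransparency.types false

universe v₃ u₃ v₂ u₂ v u

open CategoryTheory Functor K751.FG K751.Test

namespace K747.DD

variable {C : Type u} [Category.{v} C] {𝒳 : BasedCategory.{v₂, u₂} C} {T : C} {R : Sieve T}

/-- the object of the sieve category of an arrow of the sieve -/
abbrev so (R : Sieve T) {V : C} (a : V ⟶ T) (h : R a) : R.arrows.category := ⟨Over.mk a, h⟩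

/-- a morphism of the sieve category -/
abbrev sh {V V' : C} (a : V ⟶ T) (ha : R a) (a' : V' ⟶ T) (ha' : R a') (h : V' ⟶ V) (w : h ≫ a = a') :
    so R a' ha' ⟶ so R a ha := ObjectProperty.homMk (Over.homMk h w)

variable (D : Stk.sieveCat R ⥤ᵇ 𝒳)

/-- a cocone on the restriction of the descent datum `D` along `t : W ⟶ T`, with vertex `y` over `W` -/
structure Coc {W : C} (t : W ⟶ T) (y : 𝒳.obj) where
  hy : 𝒳.p.obj y = W
  ι : ∀ {V : C} (g : V ⟶ W) (a : V ⟶ T) (_ : g ≫ t = a) (ha : R a), D.obj (so R a ha) ⟶ y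
  lift : ∀ {V : C} (g : V ⟶ W) (a : V ⟶ T) (e : g ≫ t = a) (ha : R a), 𝒳.p.IsHomLift g (ι g a e ha)
  nat : ∀ {V V' : C} (h : V' ⟶ V) (g : V ⟶ W) (a : V ⟶ T) (e : g ≫ t = a) (ha : R a) (g' : V' ⟶ W) (a' : V' ⟶ T)
    (e' : g' ≫ t = a') (ha' : R a') (w : h ≫ a = a') (_ : h ≫ g = g'),
    D.map (sh a ha a' ha' h w) ≫ ι g a e ha = ι g' a' e' ha'

variable {D}

/-- the functor of sieve categories given by composition with `t` -/
def toPull {W : C} (t : W ⟶ T) : Stk.sieveCat (R.pullback t) ⥤ᵇ Stk.sieveCat R where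
  toFunctor :=
    { obj := fun a => ⟨Over.mk (a.obj.hom ≫ t), a.property⟩
      map := fun {a b} f => ObjectProperty.homMk (Over.homMk f.hom.left (by
        change f.hom.left ≫ b.obj.hom ≫ t = a.obj.hom ≫ t
        rw [← Category.assoc, Over.w f.hom]))
      map_id := fun a => by
        apply ObjectProperty.hom_ext
        exact Over.OverMorphism.ext rfl
      map_comp := fun f g => by
        apply ObjectProperty.hom_ext
        exact Over.OverMorphism.ext rfl }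
  w := rfl

theorem Coc.ext' {W : C} {t : W ⟶ T} {y : 𝒳.obj} {c c' : Coc D t y}
    (h : ∀ {V : C} (g : V ⟶ W) (a : V ⟶ T) (e : g ≫ t = a) (ha : R a), c.ι g a e ha = c'.ι g a e ha) : c = c' := by
  obtain ⟨_, ι, _, _⟩ := c
  obtain ⟨_, ι', _, _⟩ := c'
  have : @ι = @ι' := by
    funext V g a e ha
    exact h g a e ha
  subst this
  rfl

/-- the cocone as an effective descent datum -/
def Coc.eff {W : C} {t : W ⟶ T} {y : 𝒳.obj} (c : Coc D t y) : Eff (BasedFunctor.comp (toPull t) D) where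
  pt := y
  ι a := c.ι a.obj.hom _ rfl a.property
  lift a := c.lift a.obj.hom _ rfl a.property
  nat {a b} f := c.nat f.hom.left b.obj.hom _ rfl b.property a.obj.hom _ rfl a.property _ (Over.w f.hom)
  pt_obj := c.hy

theorem Coc.existsUnique_desc {J : GrothendieckTopology C} (h : Stk.IsPrestack J 𝒳) (hR : R ∈ J T) {W : C} {t : W ⟶ T}
    {y : 𝒳.obj} (c : Coc D t y) {Y : C} (k : W ⟶ Y) {z : 𝒳.obj} (hz : 𝒳.p.obj z = Y)
    (δ : ∀ {V : C} (g : V ⟶ W) (a : V ⟶ T) (_ : g ≫ t = a) (ha : R a), D.obj (so R a ha) ⟶ z)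
    (hδ : ∀ {V : C} (g : V ⟶ W) (a : V ⟶ T) (e : g ≫ t = a) (ha : R a), 𝒳.p.IsHomLift (g ≫ k) (δ g a e ha))
    (nδ : ∀ {V V' : C} (h : V' ⟶ V) (g : V ⟶ W) (a : V ⟶ T) (e : g ≫ t = a) (ha : R a) (g' : V' ⟶ W) (a' : V' ⟶ T)
      (e' : g' ≫ t = a') (ha' : R a') (w : h ≫ a = a') (_ : h ≫ g = g'),
      D.map (sh a ha a' ha' h w) ≫ δ g a e ha = δ g' a' e' ha') :
    ∃! ψ : y ⟶ z, 𝒳.p.IsHomLift k ψ ∧ ∀ {V : C} (g : V ⟶ W) (a : V ⟶ T) (e : g ≫ t = a) (ha : R a),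
      c.ι g a e ha ≫ ψ = δ g a e ha := by
  obtain ⟨ψ, ⟨h1, h2⟩, h3⟩ := c.eff.existsUnique_desc' h (J.pullback_stable t hR) k hz
    (fun a => δ a.obj.hom _ rfl a.property) (fun a => hδ a.obj.hom _ rfl a.property)
    (fun {a b} f => nδ f.hom.left b.obj.hom _ rfl b.property a.obj.hom _ rfl a.property _ (Over.w f.hom))
  refine ⟨ψ, ⟨h1, ?_⟩, ?_⟩
  · intro V g a e ha
    subst e
    exact h2 ⟨Over.mk g, ha⟩
  · rintro ψ' ⟨h4, h5⟩
    exact h3 ψ' ⟨h4, fun a => h5 a.obj.hom _ rfl a.property⟩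

/-- uniqueness part -/
theorem Coc.hom_ext {J : GrothendieckTopology C} (h : Stk.IsPrestack J 𝒳) (hR : R ∈ J T) {W : C} {t : W ⟶ T}
    {y : 𝒳.obj} (c : Coc D t y) {Y : C} (k : W ⟶ Y) {z : 𝒳.obj} {ψ ψ' : y ⟶ z} (hψ : 𝒳.p.IsHomLift k ψ)
    (hψ' : 𝒳.p.IsHomLift k ψ') (e : ∀ {V : C} (g : V ⟶ W) (a : V ⟶ T) (e : g ≫ t = a) (ha : R a),
      c.ι g a e ha ≫ ψ = c.ι g a e ha ≫ ψ') : ψ = ψ' := by
  have hz : 𝒳.p.obj z = Y := IsHomLift.codomain_eq 𝒳.p k ψ
  refine (c.existsUnique_desc h hR k hz (fun g a e ha => c.ι g a e ha ≫ ψ) (fun g a e ha => ?_) ?_).unique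
    ⟨hψ, fun g a e ha => rfl⟩ ⟨hψ', fun g a e' ha => (e g a e' ha).symm⟩
  · have := c.lift g a e ha
    exact IsHomLift.comp 𝒳.p _ _ _ _
  · intro V V' h g a e ha g' a' e' ha' w w'
    rw [← Category.assoc, c.nat h g a e ha g' a' e' ha' w w']

/-- restriction of a cocone -/
theorem Coc.exists_restr (h𝒳 : FibCat.IsFibGrpd 𝒳.p) {W W' : C} {t : W ⟶ T} {y : 𝒳.obj} (c : Coc D t y) (k : W' ⟶ W)
    (t' : W' ⟶ T) (w : k ≫ t = t') {y' : 𝒳.obj} (m : y' ⟶ y) (hm : 𝒳.p.IsHomLift k m) :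
    ∃ c' : Coc D t' y', ∀ {V : C} (g : V ⟶ W') (a : V ⟶ T) (e : g ≫ t' = a) (ha : R a)
      (g₁ : V ⟶ W) (_ : g ≫ k = g₁) (e₁ : g₁ ≫ t = a), c'.ι g a e ha ≫ m = c.ι g₁ a e₁ ha := by
  subst w
  have key : ∀ (V : C) (g : V ⟶ W') (a : V ⟶ T) (e : g ≫ k ≫ t = a) (ha : R a), ∃ χ : D.obj (so R a ha) ⟶ y',
      𝒳.p.IsHomLift g χ ∧ χ ≫ m = c.ι (g ≫ k) a (by rw [Category.assoc]; exact e) ha := fun V g a e ha =>
    exists_factor h𝒳 g rfl m _ hm (c.lift (g ≫ k) a _ ha)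
  choose χ hχ eχ using key
  refine ⟨⟨IsHomLift.domain_eq 𝒳.p k m, fun {V} g a e ha => χ V g a e ha, fun {V} g a e ha => hχ V g a e ha, ?_⟩, ?_⟩
  · intro V V' h g a e ha g' a' e' ha' w w'
    have h1 := hχ V g a e ha
    have h2 := hχ V' g' a' e' ha'
    have h3 : 𝒳.p.IsHomLift h (D.map (sh a ha a' ha' h w)) :=
      map_homS_lift D (a := so R a' ha') (b := so R a ha) h w
    have h4 : 𝒳.p.IsHomLift (h ≫ g) (D.map (sh a ha a' ha' h w) ≫ χ V g a e ha) := IsHomLift.comp 𝒳.p _ _ _ _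
    rw [w'] at h4
    refine cancel' h𝒳 g' m h4 h2 ?_
    rw [Category.assoc, eχ, eχ]
    exact c.nat h (g ≫ k) a _ ha (g' ≫ k) a' _ ha' w (by rw [← w', Category.assoc])
  · intro V g a e ha g₁ hg₁ e₁
    subst hg₁
    exact eχ V g a e ha

/-- an effective descent datum is a cocone over `𝟙` -/
def ofEff (E : Eff D) : Coc D (𝟙 T) E.pt where
  hy := E.pt_obj
  ι g a e ha := E.ι (so R a ha)
  lift g a e ha := isHomLift_congr (E.lift (so R a ha)) (show a = g from e.symm.trans (Category.comp_id g))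
  nat h g a e ha g' a' e' ha' w w' := E.nat (sh a ha a' ha' h w)

/-- a cocone over `𝟙` is an effective descent datum -/
def Coc.toEff {y : 𝒳.obj} (c : Coc D (𝟙 T) y) : Eff D where
  pt := y
  ι a := c.ι a.obj.hom a.obj.hom (Category.comp_id _) a.property
  lift a := c.lift a.obj.hom a.obj.hom (Category.comp_id _) a.property
  nat {a b} f := c.nat f.hom.left b.obj.hom b.obj.hom (Category.comp_id _) b.property a.obj.hom a.obj.hom
    (Category.comp_id _) a.property (Over.w f.hom) (Over.w f.hom)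
  pt_obj := c.hy

end K747.DD
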