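import Groth.Agent.AlgSt.K747.EtFppf

set_option autoImplicit false
set_option linter.unusedVariables false
set_option backward.isDefEq.respectTransparency false
set_option backward.isDefEq.respectTransparency.types false

universe w v₂ u₂ v u

open CategoryTheory Opposite AlgebraicGeometry Limits K747.Sc K747.DD

namespace K747.EtFppf

variable {S : Scheme.{u}} {𝒳 : BasedCategory.{u, w} (Over S)}
variable {T : Over S} {R : Sieve T} {D : Stk.sieveCat R ⥤ᵇ 𝒳} {U : Over S} {z : FibCat.overCat U ⥤ᵇ 𝒳}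

theorem exists_smooth_chart (hb : Boot2 S) (hp : Stk.IsPrestack (AlgSp.J S) 𝒳) (hR : R ∈ AlgSp.J S T)
    {V' : Over S} {v : V' ⟶ T} [Flat v.left] [LocallyOfFinitePresentation v.left] [Surjective v.left]
    {x : FibCat.overCat V' ⥤ᵇ 𝒳} (c : Coc D v (x.obj (Over.mk (𝟙 V'))))
    (hz1 : AlgSt.RepByAlgSpWith (AlgSp.LocP @Smooth) z) (hz2 : AlgSt.RepByAlgSpWith AlgSp.IsSurjectiveMor z) :
    ∃ (E : Over S) (e : E ⟶ T) (a : (AlgSp.pyon S).obj E ⟶ FP hp.1 D z), Smooth e.left ∧ Surjective e.left ∧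
      a ≫ prF D z hp.1 = (AlgSp.pyon S).map e := by
  have hz : AlgSt.RepByAlgSp1 z := fun V y => by
    obtain ⟨F, e, he, -⟩ := hz1 V y
    exact ⟨F, e, he⟩
  have hF := isAlgSpace_F hb hp hR c hz
  obtain ⟨h1, hA1, hsm⟩ := repByAlgSpWith_psh (x := x) hp.1 _ hz1
  obtain ⟨h1', -, hsu⟩ := repByAlgSpWith_psh (x := x) hp.1 _ hz2
  have sq := isPullback_phi c hp hR (z := z)
  let Fs : AlgSp.Sp S := ⟨FP hp.1 D z, isSheaf_FP hp⟩
  let Ps : AlgSp.Sp S := ⟨P hp.1 x z, h1⟩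
  let φ : Ps ⟶ Fs := ObjectProperty.homMk (phiMap hp.1 c)
  let π : Ps ⟶ (AlgSp.yon S).obj V' := ObjectProperty.homMk (prT hp.1 x z)
  let ρ : Fs ⟶ (AlgSp.yon S).obj T := ObjectProperty.homMk (prF D z hp.1)
  have sq' : IsPullback φ π ρ ((AlgSp.yon S).map v) :=
    IsPullback.of_map_of_faithful (sheafToPresheaf (AlgSp.J S) (Type (u + 1))) sq
  obtain ⟨E, a, ha, has⟩ := hF.atlas
  change (AlgSp.yon S).obj E ⟶ Fs at a
  obtain ⟨e, he⟩ := (AlgSp.yon S).map_surjective (a ≫ ρ)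
  have sqE := (IsPullback.of_hasPullback e v)
  have sqE' := sqE.map (AlgSp.yon S)
  let α : (AlgSp.yon S).obj (pullback e v) ⟶ Ps := sq'.lift ((AlgSp.yon S).map (pullback.fst e v) ≫ a)
    ((AlgSp.yon S).map (pullback.snd e v)) (by rw [Category.assoc, ← he, sqE'.w])
  have hα1 : α ≫ φ = (AlgSp.yon S).map (pullback.fst e v) ≫ a := sq'.lift_fst _ _ _
  have hα2 : α ≫ π = (AlgSp.yon S).map (pullback.snd e v) := sq'.lift_snd _ _ _
  have sqα : IsPullback α ((AlgSp.yon S).map (pullback.fst e v)) φ a := by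
    refine IsPullback.of_right ?_ hα1 sq'.flip
    rw [hα2, ← he]
    exact sqE'.flip
  have hα : AlgSp.RepWith @Etale α := K597.repWith_bc' _ sqα ha
  have hαs : AlgSp.RepWith @Surjective α := K597.repWith_bc' _ sqα has
  have hsnd : Smooth (pullback.snd e v).left := hsm α (𝟙 _) (pullback.snd e v) hα
    (by rw [← (AlgSp.yon S).map_id]; exact (AlgSp.repWith_yon_map_iff @Etale _).2 (by dsimp; infer_instance))
    (by rw [Category.comp_id]; exact hα2)
  have hsnds : Surjective (pullback.snd e v).left := by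
    have h2 : Function.Surjective (AlgSp.Points.map ((AlgSp.yon S).map (pullback.snd e v))) := by
      rw [← hα2, points_map_comp]
      exact Function.Surjective.comp hsu (K609.Points.surjective_map_of_repWith_surjective hαs)
    exact ⟨(K609.Points.surjective_map_yon_map_iff _).1 h2⟩
  have sqS := sqE.map (Over.forget S)
  have hsme : Smooth e.left := by
    have := K595.DescInst.smooth.{u}
    exact MorphismProperty.of_isPullback_of_descendsAlong (P := @Smooth) (Q := K595.RepDesc.Fppf) sqS.flip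
      ⟨⟨‹Surjective v.left›, ‹Flat v.left›⟩, ‹LocallyOfFinitePresentation v.left›⟩ hsnd
  refine ⟨E, e, a.hom, hsme, ⟨fun t => ?_⟩, congrArg (fun k => k.hom) he.symm⟩
  obtain ⟨y, rfl⟩ := v.left.surjective t
  obtain ⟨p, rfl⟩ := (pullback.snd e v).left.surjective y
  refine ⟨(pullback.fst e v).left p, ?_⟩
  rw [← Scheme.Hom.comp_apply, ← Scheme.Hom.comp_apply, ← Over.comp_left, ← Over.comp_left, pullback.condition]

theorem exists_eff_of (hb : Boot2 S) (hs : Stk.IsStack (QuotSh.J Scheme.etalePrecoverage S) 𝒳)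
    (hp : Stk.IsPrestack (AlgSp.J S) 𝒳) (hR : R ∈ AlgSp.J S T) (D : Stk.sieveCat R ⥤ᵇ 𝒳)
    (hz1 : AlgSt.RepByAlgSpWith (AlgSp.LocP @Smooth) z) (hz2 : AlgSt.RepByAlgSpWith AlgSp.IsSurjectiveMor z) :
    Nonempty (K751.Test.Eff D) := by
  obtain ⟨V', v, hv1, hv2, hv3, hv4⟩ := K747.Cover.exists_cover hR
  obtain ⟨E0⟩ := K751.Test.exists_eff hs hv4 (BasedFunctor.comp (toPull v) D)
  let c0 : Coc D v E0.pt := ofEffPull v E0
  let x : FibCat.overCat V' ⥤ᵇ 𝒳 := K751.Test.yo hp.1 E0.pt E0.pt_obj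
  obtain ⟨c, -⟩ := c0.exists_restr hp.1 (𝟙 V') v (Category.id_comp v)
    (K751.Test.yoε hp.1 E0.pt E0.pt_obj (Over.mk (𝟙 V'))) (K751.Test.yoε_lift hp.1 E0.pt E0.pt_obj (Over.mk (𝟙 V')))
  obtain ⟨E, e, a, he1, he2, hae⟩ := exists_smooth_chart hb hp hR (x := x) c hz1 hz2
  let Q : Sieve T :=
    { arrows := fun W q => ∃ s : FSec D z W, s.t = q
      downward_closed := by
        rintro W W' q ⟨s, hs⟩ g
        exact ⟨fres hp.1 g s, by rw [← hs]; exact (fRes_fres hp.1 g s).ht.symm⟩ }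
  refine eff_of_local D (K747.Top.J_le S) hs hp hR Q ?_ ?_
  · refine K747.Cover.mem_of_smooth e Q ?_
    intro W q k hk
    let s := a.app (op W) ⟨k⟩
    refine ⟨s.down, ?_⟩
    have h1 := ConcreteCategory.congr_hom (NatTrans.congr_app hae (op W)) (⟨k⟩ : ((AlgSp.pyon S).obj E).obj (op W))
    have h2 := congrArg ULift.down h1
    exact h2.trans hk
  · rintro W q ⟨s, rfl⟩
    exact ⟨_, ⟨s.c⟩⟩

/-- An étale stack with diagonal representable by algebraic spaces and a smooth surjective atlas is an fppf stack. -/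
theorem isStack_fppf (hb : Boot2 S) (h : AlgSt.IsAlgStack Scheme.etalePrecoverage 𝒳) :
    Stk.IsStack (AlgSp.J S) 𝒳 := by
  have hp := isPrestack_of_diag h.isStack.1 h.diag
  obtain ⟨U, z, hz1, hz2⟩ := h.atlas
  exact (K751.Test.isStack_iff _).2 ⟨hp, fun T R hR D => exists_eff_of hb h.isStack hp hR D hz1 hz2⟩

theorem isStack_mono {C : Type u₂} [Category.{v₂} C] {𝒳 : BasedCategory.{v, w} C} {J J' : GrothendieckTopology C}
    (hJ : J' ≤ J) (h : Stk.IsStack J 𝒳) : Stk.IsStack J' 𝒳 :=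
  ⟨h.1, fun _ R hR => h.2 R (hJ _ hR)⟩

theorem isAlgStack_iff (hb : Boot2 S) :
    AlgSt.IsAlgStack Scheme.etalePrecoverage 𝒳 ↔ AlgSt.IsAlgStack Scheme.fppfPrecoverage 𝒳 :=
  ⟨fun h => ⟨isStack_fppf hb h, h.diag, h.atlas⟩, fun h => ⟨isStack_mono (K747.Top.J_le S) h.isStack, h.diag, h.atlas⟩⟩

theorem isDM_iff (hb : Boot2 S) :
    AlgSt.IsDM Scheme.etalePrecoverage 𝒳 ↔ AlgSt.IsDM Scheme.fppfPrecoverage 𝒳 := by
  unfold AlgSt.IsDM
  rw [isAlgStack_iff hb]

end K747.EtFppf
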