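import Groth.Agent.AlgSt.K747.EtFppf2
import Groth.Agent.S10104

/-! The étale and the fppf topology give the same algebraic stacks (and the same DM stacks):
`isAlgStack_etale_iff`, `isDM_etale_iff`, unconditional forms of `K747.EtFppf.isAlgStack_iff`, `isDM_iff`. -/

set_option autoImplicit false

universe w u

open CategoryTheory AlgebraicGeometry

namespace K747.EtFppf

variable {S : Scheme.{u}} {𝒳 : BasedCategory.{u, w} (Over S)}

theorem boot2 (S : Scheme.{u}) : Boot2 S := fun F U p hp => Groth.Agent.S10104.result S F U p hp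

theorem isAlgStack_etale_iff :
    AlgSt.IsAlgStack Scheme.etalePrecoverage 𝒳 ↔ AlgSt.IsAlgStack Scheme.fppfPrecoverage 𝒳 :=
  isAlgStack_iff (boot2 S)

theorem isDM_etale_iff :
    AlgSt.IsDM Scheme.etalePrecoverage 𝒳 ↔ AlgSt.IsDM Scheme.fppfPrecoverage 𝒳 :=
  isDM_iff (boot2 S)

theorem isStack_fppf_of_etale (h : AlgSt.IsAlgStack Scheme.etalePrecoverage 𝒳) :
    Stk.IsStack (QuotSh.J Scheme.fppfPrecoverage S) 𝒳 :=
  isStack_fppf (boot2 S) h

end K747.EtFppf
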