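import Groth.Agent.AlgSt.K747.SliceEx
import Groth.Agent.AlgSt.K740.SpIso

/-!
# A stack with unramified diagonal and a smooth atlas has an étale atlas
-/

set_option autoImplicit false
set_option backward.isDefEq.respectTransparency false
set_option backward.isDefEq.respectTransparency.types false
universe w v₂ u₂ v u

open CategoryTheory Opposite K734.Fib AlgebraicGeometry Limits

namespace K747.SliceSt

open K747.Sc AlgSp K616.Near

variable {S : Scheme.{u}} {𝒳 : BasedCategory.{u, w} (Over S)} (h𝒳 : FibCat.IsFibGrpd 𝒳.p)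
variable {U : Over S} {y : FibCat.overCat U ⥤ᵇ 𝒳} (hy : AlgSt.RepByAlgSpWith (AlgSp.LocP @Smooth) y)

/-- converse of `repByAlgSpWith_psh` -/
theorem repByAlgSpWith_of_psh (Q : MorphismProperty (AlgSp.Sp S)) [Q.RespectsIso] {V : Over S} (z : FibCat.overCat V ⥤ᵇ 𝒳)
    (H : ∀ (T : Over S) (x : FibCat.overCat T ⥤ᵇ 𝒳), ∃ h : Presheaf.IsSheaf (AlgSp.J S) (P h𝒳 x z), AlgSp.IsAlgSpace (⟨P h𝒳 x z, h⟩ : AlgSp.Sp S) ∧
      Q (ObjectProperty.homMk (prT h𝒳 x z) : (⟨P h𝒳 x z, h⟩ : AlgSp.Sp S) ⟶ (AlgSp.yon S).obj T)) :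
    AlgSt.RepByAlgSpWith Q z := by
  intro T x
  refine (Rep.with_iff Q (FibCat.fpFst x z) (toFp_isEquivOver.{u + 1} h𝒳 x z)).2 ?_
  obtain ⟨h, h1, h2⟩ := H T x
  refine ⟨h, h1, ?_⟩
  rw [pMap_toFp_fst]
  exact h2

/-- transitivity -/
theorem exists_pt {T V : Over S} (x : FibCat.overCat T ⥤ᵇ 𝒳) (j : V ⟶ U) (w : Points (PW h𝒳 hy x))
    (r : Points (PV h𝒳 hy y j)) (e : Points.map (wU h𝒳 hy x) w = Points.map (vT h𝒳 hy y j) r) :
    ∃ r' : Points (PV h𝒳 hy x j), Points.map (vT h𝒳 hy x j) r' = Points.map (wT h𝒳 hy x) w := by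
  have sq := IsPullback.of_hasPullback (prU h𝒳 x y) (prT h𝒳 y (BasedFunctor.comp (AlgSt.overMap j) y))
  have hN := isAlgSpaceP_of_isPullback sq (algP h𝒳 hy x) (algPj h𝒳 hy y j)
  let N : Sp S := ⟨_, hN.1⟩
  let a : N ⟶ PW h𝒳 hy x := ObjectProperty.homMk (pullback.fst (prU h𝒳 x y) (prT h𝒳 y (BasedFunctor.comp (AlgSt.overMap j) y)))
  let b : N ⟶ PV h𝒳 hy y j := ObjectProperty.homMk (pullback.snd (prU h𝒳 x y) (prT h𝒳 y (BasedFunctor.comp (AlgSt.overMap j) y)))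
  let c : N ⟶ PV h𝒳 hy x j := ObjectProperty.homMk (mulT sq)
  have sq' : IsPullback a b (wU h𝒳 hy x) (vT h𝒳 hy y j) :=
    IsPullback.of_map_of_faithful (sheafToPresheaf (AlgSp.J S) (Type (u + 1))) sq
  have hc : c ≫ vT h𝒳 hy x j = a ≫ wT h𝒳 hy x := rfl
  obtain ⟨n, hn1, hn2⟩ := K609.Points.exists_of_isPullback sq' w r e
  refine ⟨Points.map c n, ?_⟩
  rw [← Points.map_comp, hc, Points.map_comp, hn1]

include h𝒳 hy in
theorem hasAtlas_etale (hdm : AlgSt.IsDMOver 𝒳) (hys : AlgSt.RepByAlgSpWith AlgSp.IsSurjectiveMor y) :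
    AlgSt.HasAtlas AlgSp.IsEtaleMor 𝒳 := by
  choose V j hj hr using fun u : U.left => exists_etale_slice h𝒳 hy hdm u
  choose r hr using hr
  let W : Over S := Over.mk (Sigma.desc (fun u => (V u).hom))
  let k : W ⟶ U := Over.homMk (Sigma.desc (fun u => (j u).left)) (by
    apply Sigma.hom_ext
    intro u
    simp [W])
  let ι : ∀ u, V u ⟶ W := fun u => Over.homMk (Sigma.ι (fun u => (V u).left) u) (by simp [W])
  have hι : ∀ u, IsOpenImmersion (ι u).left := fun u => inferInstanceAs (IsOpenImmersion (Sigma.ι (fun u => (V u).left) u))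
  have hιk : ∀ u, ι u ≫ k = j u := fun u => by
    ext
    simp [ι, k]
  have hιs : ∀ w : W.left, ∃ u v, (ι u).left v = w := by
    intro w
    obtain ⟨⟨u, v⟩, hw⟩ := (sigmaMk (fun u => (V u).left)).surjective w
    rw [sigmaMk_mk] at hw
    exact ⟨u, v, hw⟩
  have hie : ∀ (T : Over S) (x : FibCat.overCat T ⥤ᵇ 𝒳) (u : U.left), RepWith @Etale (vi h𝒳 hy x k (ι u)) := fun T x u =>
    K597.repWith_bc' _ (isPullback_vi h𝒳 hy x k (ι u)) ((repWith_yon_map_iff _ _).2 (by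
      have := hι u
      infer_instance))
  have het : ∀ (T : Over S) (x : FibCat.overCat T ⥤ᵇ 𝒳), LocP @Etale (vT h𝒳 hy x k) := by
    intro T x
    rw [locP_iff_near K597.etLoc_etale (isAlg_PV h𝒳 hy x k) (IsAlgSpace.yon_obj T)]
    intro ρ
    obtain ⟨w, hw⟩ := K609.Points.ofScheme_surjective W (Points.map (vV h𝒳 hy x k) ρ)
    obtain ⟨u, v, hv⟩ := hιs w
    obtain ⟨ρ', h1, h2⟩ := K609.Points.exists_of_isPullback (isPullback_vi h𝒳 hy x k (ι u)) ρ (Points.ofScheme (V u) v) (by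
      rw [← hw, K609.Points.map_yon_map_ofScheme, hv])
    rw [← h1, ← K747.SliceAbs.hasAtMor_precomp_iff (isAlg_PV h𝒳 hy x (ι u ≫ k)) (IsAlgSpace.yon_obj T) (hie T x u), vi_vT]
    have h3 : LocP @Etale (vT h𝒳 hy x (ι u ≫ k)) := by
      rw [hιk]
      exact hj u T x
    exact (locP_iff_near K597.etLoc_etale (isAlg_PV h𝒳 hy x (ι u ≫ k)) (IsAlgSpace.yon_obj T) _).1 h3 ρ'
  have hsu : ∀ (T : Over S) (x : FibCat.overCat T ⥤ᵇ 𝒳), AlgSp.IsSurjectiveMor (vT h𝒳 hy x k) := by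
    intro T x
    obtain ⟨h', -, hsurj⟩ := repByAlgSpWith_psh (x := x) h𝒳 _ hys
    intro t
    obtain ⟨w, hw⟩ : ∃ w, Points.map (wT h𝒳 hy x) w = t := hsurj t
    obtain ⟨u, hu⟩ := K609.Points.ofScheme_surjective U (Points.map (wU h𝒳 hy x) w)
    obtain ⟨r', hr'⟩ := exists_pt h𝒳 hy x (j u) w (r u) (by rw [← hu, hr])
    have key : ∀ (j' : V u ⟶ U) (e : ι u ≫ k = j') (r' : Points (PV h𝒳 hy x j')),
        ∃ r'' : Points (PV h𝒳 hy x k), Points.map (vT h𝒳 hy x k) r'' = Points.map (vT h𝒳 hy x j') r' := by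
      rintro _ rfl r'
      exact ⟨Points.map (vi h𝒳 hy x k (ι u)) r', by rw [← Points.map_comp, vi_vT]⟩
    obtain ⟨r'', hr''⟩ := key (j u) (hιk u) r'
    exact ⟨r'', by rw [hr'', hr', hw]⟩
  refine ⟨W, BasedFunctor.comp (AlgSt.overMap k) y, ?_, ?_⟩
  · have h1 : AlgSt.RepByAlgSpWith (LocP @Etale) (BasedFunctor.comp (AlgSt.overMap k) y) :=
      repByAlgSpWith_of_psh h𝒳 _ _ fun T x => ⟨(algPj h𝒳 hy x k).1, isAlg_PV h𝒳 hy x k, het T x⟩
    exact K740.SpIso.repByAlgSpWith_imp h1 fun F T q hq =>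
      K597.isEtaleMor_of_locP_etale K597.etLoc_etale (IsAlgSpace.yon_obj T) hq
  · exact repByAlgSpWith_of_psh h𝒳 _ _ fun T x => ⟨(algPj h𝒳 hy x k).1, isAlg_PV h𝒳 hy x k, hsu T x⟩

end K747.SliceSt

namespace K747.DM

variable {S : Scheme.{u}}

/-- an algebraic stack with unramified diagonal is Deligne-Mumford -/
theorem isDM_of_isDMOver {K : Precoverage Scheme.{u}} {𝒳 : BasedCategory.{u, w} (Over S)} (h : AlgSt.IsAlgStack K 𝒳)
    (hdm : AlgSt.IsDMOver 𝒳) : AlgSt.IsDM K 𝒳 := by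
  obtain ⟨U, y, hy1, hy2⟩ := h.atlas
  exact ⟨h, SliceSt.hasAtlas_etale h.isStack.1 hy1 hdm hy2⟩

end K747.DM
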