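import Groth.Agent.AlgSt.K747.DiagRep

set_option autoImplicit false
set_option linter.unusedVariables false
set_option backward.isDefEq.respectTransparency false
set_option backward.isDefEq.respectTransparency.types false

universe w v₃ u₃ v₂ u₂ v u

open CategoryTheory Opposite K734.Fib

namespace K747.Sc

variable {C : Type u} [Category.{v} C] {𝒳 : BasedCategory.{v₂, u₂} C}

section

variable {T : C} {x x' : FibCat.overCat T ⥤ᵇ 𝒳}

theorem dom_of_res (h𝒳 : FibCat.IsFibGrpd 𝒳.p) (s : Sec x x' T) (ht : s.t = 𝟙 T) (a : Over T) :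
    a.hom = (res h𝒳 a.hom s).t := by
  rw [← (isRes_res h𝒳 a.hom s).ht, ht]
  exact (Category.comp_id _).symm

theorem cod_of_res (h𝒳 : FibCat.IsFibGrpd 𝒳.p) (s : Sec x x' T) (hu : s.u = 𝟙 T) (a : Over T) :
    (res h𝒳 a.hom s).u = a.hom := by
  rw [← (isRes_res h𝒳 a.hom s).hu, hu]
  exact Category.comp_id _

/-- the 2-morphism determined by a global section -/
noncomputable def natId (h𝒳 : FibCat.IsFibGrpd 𝒳.p) (s : Sec x x' T) (ht : s.t = 𝟙 T) (hu : s.u = 𝟙 T) : x ⟶ x' :=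
  mkHom (fun a => (res h𝒳 a.hom s).tr a.hom (dom_of_res h𝒳 s ht a) (cod_of_res h𝒳 s hu a))
    (fun a => Sec.tr_vert _ _ _ _) (fun {a b} k => by
      have hk : k.left ≫ b.hom = a.hom := Over.w k
      have h1 : IsRes k.left (res h𝒳 b.hom s) (res h𝒳 a.hom s) := by
        refine IsRes.of_comp h𝒳 ?_ (isRes_res h𝒳 b.hom s)
        have : ∀ (c : a.left ⟶ T), c = a.hom → IsRes c s (res h𝒳 a.hom s) := by
          rintro c rfl
          exact isRes_res h𝒳 _ s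
        exact this _ hk
      exact ((isRes_iff_tr (dom_of_res h𝒳 s ht b) (cod_of_res h𝒳 s hu b) (dom_of_res h𝒳 s ht a)
        (cod_of_res h𝒳 s hu a) hk).1 h1).symm)

theorem natId_app (h𝒳 : FibCat.IsFibGrpd 𝒳.p) (s : Sec x x' T) (ht : s.t = 𝟙 T) (hu : s.u = 𝟙 T) {W : C} (f : W ⟶ T)
    (s' : Sec x x' W) (hs' : IsRes f s s') (h1 : f = s'.t) (h2 : s'.u = f) :
    (natId h𝒳 s ht hu).toNatTrans.app (Over.mk f) = s'.tr f h1 h2 := by
  have : res h𝒳 f s = s' := (res_eq_iff h𝒳).2 hs'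
  subst this
  rfl

end

/-- if the presheaves of isomorphisms are sheaves then `𝒳` is a prestack -/
theorem isPrestackFor_of_isSheafFor (h𝒳 : FibCat.IsFibGrpd 𝒳.p) {V : C} (R : Sieve V)
    (hV : Presieve.IsSeparatedFor (yoneda.obj V) R.arrows)
    (h : ∀ x x' : FibCat.overCat V ⥤ᵇ 𝒳, Presieve.IsSheafFor (isoPsh.{w} h𝒳 x x') R.arrows) :
    Stk.IsPrestackFor R 𝒳 := by
  constructor
  · refine ⟨fun {x x'} α => ?_⟩
    let m : ∀ {W : C} (f : W ⟶ V) (hf : R f), x.obj (Over.mk f) ⟶ x'.obj (Over.mk f) := fun f hf =>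
      α.toNatTrans.app (sobj R f hf)
    have hm : ∀ {W : C} (f : W ⟶ V) (hf : R f), IsVert 𝒳 (m f hf) := fun f hf => hom_vert α _
    let s : ∀ {W : C} (f : W ⟶ V) (hf : R f), Sec x x' W := fun f hf => ⟨f, f, m f hf, (hm f hf).lift (p_obj x f)⟩
    have hs : ∀ {W : C} (f : W ⟶ V) (hf : R f), (s f hf).tr f rfl rfl = m f hf := by
      intro W f hf
      dsimp only [Sec.tr, s]
      rw [map_om_id, map_om_id, Category.id_comp, Category.comp_id]
    have hres : ∀ {W W' : C} (f : W ⟶ V) (hf : R f) (g : W' ⟶ W) (f' : W' ⟶ V) (hf' : R f') (hg : g ≫ f = f'),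
        IsRes g (s f hf) (s f' hf') := by
      intro W W' f hf g f' hf' hg
      refine ⟨hg, hg, ?_⟩
      change m f' hf' ≫ x'.map (om g f f' hg) = x.map (om g f f' hg) ≫ m f hf
      exact (α.toNatTrans.naturality (shom R f hf g f' hf' hg)).symm
    obtain ⟨S, hS, -⟩ := h x x' (fun W f hf => ⟨⟨s f hf⟩, rfl⟩) (by
      rw [Presieve.compatible_iff_sieveCompatible]
      intro W W' f g hf
      refine Eq.symm ((isoPsh_map_eq_iff h𝒳).2 ?_)
      exact hres f hf g _ _ rfl)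
    have hS' : ∀ {W : C} (f : W ⟶ V) (hf : R f), IsRes f S.1.down (s f hf) := fun f hf =>
      (isoPsh_map_eq_iff h𝒳).1 (hS f hf)
    have ht : S.1.down.t = 𝟙 V := by
      refine hV.ext fun W f hf => ?_
      exact ((hS' f hf).ht).trans (Category.comp_id f).symm
    have hu : S.1.down.u = 𝟙 V := S.2.symm.trans ht
    refine ⟨natId h𝒳 S.1.down ht hu, ?_⟩
    apply hom_ext₂
    rintro ⟨a, ha⟩
    change (natId h𝒳 S.1.down ht hu).toNatTrans.app (Over.mk a.hom) = m a.hom ha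
    rw [natId_app h𝒳 S.1.down ht hu a.hom (s a.hom ha) (hS' a.hom ha) rfl rfl, hs]
  · refine ⟨fun {x x'} α β e => ?_⟩
    have e' : ∀ {W : C} (f : W ⟶ V) (hf : R f), α.toNatTrans.app (Over.mk f) = β.toNatTrans.app (Over.mk f) :=
      fun f hf => congrArg (fun k : (Stk.resSieve R 𝒳).obj x ⟶ (Stk.resSieve R 𝒳).obj x' => k.toNatTrans.app (sobj R f hf)) e
    let s : (x ⟶ x') → Sec x x' V := fun γ =>
      ⟨𝟙 V, 𝟙 V, γ.toNatTrans.app (Over.mk (𝟙 V)), (hom_vert γ _).lift (p_obj x (𝟙 V))⟩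
    have hγ : ∀ (γ : x ⟶ x') {W : C} (f : W ⟶ V),
        IsRes f (s γ) ⟨f, f, γ.toNatTrans.app (Over.mk f), (hom_vert γ _).lift (p_obj x f)⟩ := by
      intro γ W f
      refine ⟨Category.comp_id f, Category.comp_id f, ?_⟩
      exact (γ.toNatTrans.naturality (Over.homMk f (Category.comp_id f) : Over.mk f ⟶ Over.mk (𝟙 V))).symm
    have h1 : (⟨⟨s α⟩, rfl⟩ : (isoPsh.{w} h𝒳 x x').obj (op V)) = ⟨⟨s β⟩, rfl⟩ := by
      refine (h x x').isSeparatedFor.ext fun W f hf => ?_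
      have h2 := (isoPsh_map_eq_iff.{w} h𝒳 (g := f.op) (s := (⟨⟨s α⟩, rfl⟩ : (isoPsh.{w} h𝒳 x x').obj (op V)))
        (s' := ⟨⟨⟨f, f, α.toNatTrans.app (Over.mk f), (hom_vert α _).lift (p_obj x f)⟩⟩, rfl⟩)).2 (hγ α f)
      have h3 := (isoPsh_map_eq_iff.{w} h𝒳 (g := f.op) (s := (⟨⟨s β⟩, rfl⟩ : (isoPsh.{w} h𝒳 x x').obj (op V)))
        (s' := ⟨⟨⟨f, f, β.toNatTrans.app (Over.mk f), (hom_vert β _).lift (p_obj x f)⟩⟩, rfl⟩)).2 (hγ β f)
      rw [h2, h3]
      congr 3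
      exact e' f hf
    have h4 : s α = s β := congrArg (fun k => k.1.down) h1
    apply hom_ext₂
    intro a
    have h5 := (hγ α a.hom).unique h𝒳 (h4 ▸ hγ β a.hom)
    injection h5

end K747.Sc

namespace K747.Sc

theorem basedFunctor_ext {C : Type u} [Category.{v} C] {𝒜 : BasedCategory.{v₂, u₂} C} {ℬ : BasedCategory.{v₃, u₃} C}
    {F G : 𝒜 ⥤ᵇ ℬ} (h : F.toFunctor = G.toFunctor) : F = G := by
  obtain ⟨F, hF⟩ := F
  obtain ⟨G, hG⟩ := G
  dsimp only at h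
  subst h
  rfl

theorem comp_toSelf_eq {C : Type u} [Category.{v} C] {𝒜 : BasedCategory.{v₂, u₂} C} {ℬ : BasedCategory.{v₃, u₃} C}
    (F G : 𝒜 ⥤ᵇ ℬ) : BasedFunctor.comp F (FibCat.toSelf ℬ) = BasedFunctor.comp G (FibCat.toSelf ℬ) :=
  basedFunctor_ext (F.w.trans G.w.symm)

open AlgebraicGeometry

variable {S : Scheme.{u}} {𝒳 : BasedCategory.{u, w} (Over S)}

/-- a category fibred in groupoids with diagonal representable by algebraic spaces is an fppf prestack -/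
theorem isPrestack_of_diag (h𝒳 : FibCat.IsFibGrpd 𝒳.p) (hd : AlgSt.RepByAlgSp1 (FibCat.diag (FibCat.toSelf 𝒳))) :
    Stk.IsPrestack (AlgSp.J S) 𝒳 := by
  refine ⟨h𝒳, fun V R hR => ?_⟩
  refine isPrestackFor_of_isSheafFor.{u + 1} h𝒳 R
    (K747.Top.isSheafFor_yoneda Scheme.fppfPrecoverage V V R hR).isSeparatedFor ?_
  intro x x'
  let y := FibCat.fpLift x x' (eqToIso (comp_toSelf_eq x x'))
  obtain ⟨h1, -⟩ := (Rep.repByAlgSp_iff (toDiag_isEquivOver.{u + 1} h𝒳 y)).1 (hd V y)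
  have h2 : Presheaf.IsSheaf (AlgSp.J S) (I h𝒳 x x') := h1
  rw [isSheaf_iff_isSheaf_of_type] at h2
  exact h2 R hR

end K747.Sc
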