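import Groth.Agent.AlgSt.K734.Grpd
import Groth.Prelude.Def_StGerb
import Groth.Prelude.Def_AlgSt2

set_option autoImplicit false
set_option backward.isDefEq.respectTransparency false
set_option backward.isDefEq.respectTransparency.types false
universe w v₂ u₂ v u

open CategoryTheory Opposite K734.Fib

namespace K747.AutO

variable {C : Type u} [Category.{v} C] {𝒳 : BasedCategory.{v₂, u₂} C}

/-- the automorphism of a vertical isomorphism -/
def ofIso {a : 𝒳.obj} (e : a ≅ a) (h : IsVert 𝒳 e.hom) : Gerb.AutO a where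
  hom := ⟨e.hom, h.lift rfl⟩
  inv := ⟨e.inv, h.inv.lift rfl⟩
  hom_inv_id := Functor.Fiber.hom_ext (by
    change e.hom ≫ e.inv = 𝟙 _
    simp)
  inv_hom_id := Functor.Fiber.hom_ext (by
    change e.inv ≫ e.hom = 𝟙 _
    simp)

theorem subsingleton_iff (h𝒳 : FibCat.IsFibGrpd 𝒳.p) (a : 𝒳.obj) :
    Subsingleton (Gerb.AutO a) ↔ ∀ φ : a ⟶ a, IsVert 𝒳 φ → φ = 𝟙 a := by
  constructor
  · intro h φ hφ
    have : IsIso φ := isIso_of_vert h𝒳 hφ
    have h1 : ofIso (asIso φ) hφ = ofIso (Iso.refl a) (IsVert.id a) := Subsingleton.elim _ _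
    exact congrArg (fun k : Gerb.AutO a => k.hom.1) h1
  · intro h
    refine ⟨fun α β => ?_⟩
    have key : ∀ α : Gerb.AutO a, α.hom.1 = 𝟙 a := fun α => h _ (IsVert.of_lift α.hom.2)
    apply Iso.ext
    exact Functor.Fiber.hom_ext ((key α).trans (key β).symm)

end K747.AutO
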