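import Groth.Agent.AlgSt.K747.AffRep
import Groth.Agent.AlgSt.K750.QStab
import Groth.Agent.AlgSt.K750.QuotEff

/-!
# The action of `H` on the fibre product of `W ⟶ [W/H] ⟶ 𝒳` with a chart of `𝒳`
-/

set_option autoImplicit false
set_option backward.isDefEq.respectTransparency false
set_option backward.isDefEq.respectTransparency.types false
universe w v u

open CategoryTheory CategoryTheory.Limits MonoidalCategory CartesianMonoidalCategory MonObj GrpObj AlgebraicGeometry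
open Groth.Agent.Books.BorelOrb AlgSt

namespace K747.AffAct

open K744.Quot K750.QStab K747.Sc K734.Fib

section uni

variable {C : Type u} [Category.{v} C] {𝒳 : BasedCategory.{v, w} C} {W V : C}
  {y : FibCat.overCat W ⥤ᵇ 𝒳} {v : FibCat.overCat V ⥤ᵇ 𝒳} {E : C} {uni : Sec y v E} (hu : IsUni uni)

/-- the map to the representing object -/
noncomputable def um {T : C} (s : Sec y v T) : T ⟶ E := (hu s).choose

theorem isRes_um {T : C} (s : Sec y v T) : IsRes (um hu s) uni s := (hu s).choose_spec.1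

theorem eq_um {T : C} {s : Sec y v T} {m : T ⟶ E} (h : IsRes m uni s) : m = um hu s := (hu s).choose_spec.2 m h

include hu in
theorem uni_ext {T : C} {s : Sec y v T} {m m' : T ⟶ E} (h : IsRes m uni s) (h' : IsRes m' uni s) : m = m' :=
  (eq_um hu h).trans (eq_um hu h').symm

end uni

variable {S : Scheme.{u}} {K : Precoverage Scheme.{u}} [K.HasIsos] {H W : Over S} [GrpObj H] {aW : AlgGrp.Action H W}
  {𝒳 : BasedCategory.{u, w} (Over S)} (f : QuotSt K H aW ⥤ᵇ 𝒳) {V : Over S} {v : FibCat.overCat V ⥤ᵇ 𝒳}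

/-- `W ⟶ [W/H] ⟶ 𝒳` -/
noncomputable abbrev Yf : FibCat.overCat W ⥤ᵇ 𝒳 := BasedFunctor.comp (Y K aW) f

variable (K aW) in
/-- the arrow `g • t ⟶ t` -/
noncomputable def arr {T : Over S} (g : T ⟶ H) (t : T ⟶ W) :
    (Y K aW).obj (Over.mk (sm aW g t)) ⟶ (Y K aW).obj (Over.mk t) :=
  ar K aW (T' := Over.mk (sm aW g t)) (T := Over.mk t) g (𝟙 T) (by simp)

theorem farr_lift {T : Over S} (g : T ⟶ H) (t : T ⟶ W) : 𝒳.p.IsHomLift (𝟙 T) (f.map (arr K aW g t)) :=
  fmap_lift f (T' := Over.mk (sm aW g t)) (T := Over.mk t) g (𝟙 T) (by simp)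

theorem om_id {U T : Over S} (t : T ⟶ U) : om (𝟙 T) t t (Category.id_comp t) = 𝟙 (Over.mk t) := by
  ext1
  rfl

theorem map_om_id (v : FibCat.overCat V ⥤ᵇ 𝒳) {T : Over S} (t : T ⟶ V) (h : 𝟙 T ≫ t = t) :
    v.map (om (𝟙 T) t t h) = 𝟙 _ := by
  rw [om_id]
  exact v.map_id _

/-- the action on sections -/
noncomputable def gs {T : Over S} (g : T ⟶ H) (s : Sec (Yf f) v T) : Sec (Yf f) v T :=
  ⟨sm aW g s.t, s.u, f.map (arr K aW g s.t) ≫ s.φ, K747.Fib.isHomLift_comp_id (farr_lift f g s.t) s.«over»⟩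

theorem arr_nat {T T' : Over S} (g : T ⟶ H) (t : T ⟶ W) (m : T' ⟶ T) (t' : T' ⟶ W) (ht : m ≫ t = t') :
    arr K aW (m ≫ g) t' ≫ (Y K aW).map (om m t t' ht) =
      (Y K aW).map (om m (sm aW g t) (sm aW (m ≫ g) t') (by rw [comp_sm, ht])) ≫ arr K aW g t := by
  rw [map_eq_ar, map_eq_ar, arr, arr, ar_comp, ar_comp]
  exact ar_congr (by simp) (by simp) _

theorem gs_res {T T' : Over S} {m : T' ⟶ T} (g : T ⟶ H) {s : Sec (Yf f) v T} {s' : Sec (Yf f) v T'} (h : IsRes m s s') :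
    IsRes m (gs f g s) (gs f (m ≫ g) s') := by
  obtain ⟨ht, hu, hφ⟩ := h
  refine ⟨by rw [gs, gs, comp_sm, ht], hu, ?_⟩
  change (f.map (arr K aW (m ≫ g) s'.t) ≫ s'.φ) ≫ v.map _ = f.map ((Y K aW).map _) ≫ f.map (arr K aW g s.t) ≫ s.φ
  rw [Category.assoc, hφ]
  change f.map (arr K aW (m ≫ g) s'.t) ≫ f.map ((Y K aW).map _) ≫ s.φ = _
  rw [← Category.assoc, ← Category.assoc, ← f.map_comp, ← f.map_comp, arr_nat]

theorem gs_one (h𝒳 : FibCat.IsFibGrpd 𝒳.p) {T : Over S} (s : Sec (Yf f) v T) : gs f 1 s = s := by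
  refine IsRes.unique h𝒳 (g := 𝟙 T) (s := s) ⟨?_, ?_, ?_⟩ (IsRes.id s)
  · change 𝟙 T ≫ s.t = sm aW 1 s.t
    rw [one_sm, Category.id_comp]
  · exact Category.id_comp _
  · change (f.map (arr K aW 1 s.t) ≫ s.φ) ≫ v.map _ = f.map ((Y K aW).map _) ≫ s.φ
    rw [map_om_id, Category.comp_id, map_eq_ar]
    rfl

theorem gs_mul (h𝒳 : FibCat.IsFibGrpd 𝒳.p) {T : Over S} (g h : T ⟶ H) (s : Sec (Yf f) v T) :
    gs f (g * h) s = gs f g (gs f h s) := by
  refine IsRes.unique h𝒳 (g := 𝟙 T) (s := gs f g (gs f h s)) ⟨?_, ?_, ?_⟩ (IsRes.id _)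
  · change 𝟙 T ≫ sm aW g (sm aW h s.t) = sm aW (g * h) s.t
    rw [mul_sm, Category.id_comp]
  · exact Category.id_comp _
  · change (f.map (arr K aW (g * h) s.t) ≫ s.φ) ≫ v.map _ =
      f.map ((Y K aW).map _) ≫ f.map (arr K aW g (sm aW h s.t)) ≫ f.map (arr K aW h s.t) ≫ s.φ
    have e1 : v.map (om (𝟙 T) s.u s.u (Category.id_comp _)) = 𝟙 (v.obj (Over.mk s.u)) := map_om_id v s.u _
    refine (congrArg (fun k => (f.map (arr K aW (g * h) s.t) ≫ s.φ) ≫ k) e1).trans ?_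
    refine (Category.comp_id _).trans ?_
    rw [← Category.assoc, ← Category.assoc, ← f.map_comp, ← f.map_comp]
    congr 2
    rw [map_eq_ar, arr, arr, arr, ar_comp, ar_comp]
    exact ar_congr (by simp) (by simp) _

theorem gs_eq_iff (h𝒳 : FibCat.IsFibGrpd 𝒳.p) {T : Over S} (g : T ⟶ H) (s : Sec (Yf f) v T) :
    gs f g s = s ↔ Nm f (Over.mk s.t) g := by
  constructor
  · intro h
    have h1 : IsRes (𝟙 T) s (gs f g s) := by
      rw [h]
      exact IsRes.id s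
    obtain ⟨ht, hu, hφ⟩ := h1
    change 𝟙 T ≫ s.t = sm aW g s.t at ht
    have hiso := K747.Fib.isIso_of_vert h𝒳 s.φ s.«over»
    change (f.map (arr K aW g s.t) ≫ s.φ) ≫ v.map _ = f.map ((Y K aW).map _) ≫ s.φ at hφ
    rw [map_om_id, Category.comp_id, cancel_mono] at hφ
    have e : sm aW g (𝟙 T ≫ s.t) = s.t := by rw [Category.id_comp, ← ht, Category.id_comp]
    refine ⟨e, ?_⟩
    have h2 : ar K aW (T' := Over.mk s.t) (T := Over.mk s.t) g (𝟙 T) e =
        (Y K aW).map (om (𝟙 T) (sm aW g s.t) s.t (by rw [← ht]; simp)) ≫ arr K aW g s.t := by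
      rw [map_eq_ar, arr, ar_comp]
      exact ar_congr (by simp) (by simp) _
    have h3 : f.map (ar K aW (T' := Over.mk s.t) (T := Over.mk s.t) g (𝟙 T) e) = 𝟙 _ := by
      rw [h2, f.map_comp, hφ, ← f.map_comp, ← (Y K aW).map_comp]
      have h4 : om (𝟙 T) (sm aW g s.t) s.t (by rw [← ht]; simp) ≫ om (𝟙 T) s.t (sm aW g s.t) ht = 𝟙 (Over.mk s.t) := by
        ext1
        exact Category.id_comp _
      rw [h4]
      exact (congrArg (fun k => f.map k) ((Y K aW).map_id _)).trans (f.map_id _)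
    exact h3
  · rintro ⟨e, he⟩
    change sm aW g (𝟙 T ≫ s.t) = s.t at e
    have ht : 𝟙 T ≫ s.t = sm aW g s.t := by
      rw [Category.id_comp] at e ⊢
      exact e.symm
    refine IsRes.unique h𝒳 (g := 𝟙 T) (s := s) ⟨ht, Category.id_comp _, ?_⟩ (IsRes.id _)
    change (f.map (arr K aW g s.t) ≫ s.φ) ≫ v.map _ = f.map ((Y K aW).map _) ≫ s.φ
    rw [map_om_id, Category.comp_id]
    congr 1
    have h2 : arr K aW g s.t = (Y K aW).map (om (𝟙 T) s.t (sm aW g s.t) ht) ≫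
        ar K aW (T' := Over.mk s.t) (T := Over.mk s.t) g (𝟙 T) e := by
      rw [map_eq_ar, arr, ar_comp]
      exact ar_congr (by simp) (by simp) _
    rw [h2, f.map_comp]
    have h3 : f.map (ar K aW (T' := Over.mk s.t) (T := Over.mk s.t) g (𝟙 T) e) = 𝟙 _ := he
    rw [h3]
    exact Category.comp_id _

section act

variable {E : Over S} {uni : Sec (Yf f) v E} (hu : IsUni uni) (h𝒳 : FibCat.IsFibGrpd 𝒳.p)

/-- the action morphism -/
noncomputable def actM : H ⊗ E ⟶ E := um hu (gs f (fst H E) (res h𝒳 (snd H E) uni))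

theorem isRes_actM {T : Over S} (g : T ⟶ H) (m : T ⟶ E) :
    IsRes (lift g m ≫ actM f hu h𝒳) uni (gs f g (res h𝒳 m uni)) := by
  have h1 := isRes_um hu (gs f (fst H E) (res h𝒳 (snd H E) uni))
  have h2 : IsRes (lift g m) (res h𝒳 (snd H E) uni) (res h𝒳 m uni) := by
    have h3 : res h𝒳 (lift g m) (res h𝒳 (snd H E) uni) = res h𝒳 m uni := by
      refine IsRes.unique h𝒳 (g := m) (s := uni) ?_ (isRes_res h𝒳 m uni)
      have h4 := (isRes_res h𝒳 (snd H E) uni).comp (isRes_res h𝒳 (lift g m) (res h𝒳 (snd H E) uni))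
      rwa [lift_snd] at h4
    rw [← h3]
    exact isRes_res h𝒳 _ _
  have h5 := gs_res f (fst H E) h2
  rw [lift_fst] at h5
  exact h1.comp h5

/-- the action of `H` on the representing object -/
noncomputable def aE : AlgGrp.Action H E where
  act := actM f hu h𝒳
  one_act := by
    apply K750.QuotEff.one_act_of_pts
    intro T q
    apply uni_ext hu (isRes_actM f hu h𝒳 1 q)
    rw [gs_one f h𝒳]
    exact isRes_res h𝒳 q uni
  mul_act := by
    apply K750.QuotEff.mul_act_of_pts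
    intro T g g' q
    apply uni_ext hu (isRes_actM f hu h𝒳 (g * g') q)
    have h1 := isRes_actM f hu h𝒳 g (lift g' q ≫ actM f hu h𝒳)
    have h2 : res h𝒳 (lift g' q ≫ actM f hu h𝒳) uni = gs f g' (res h𝒳 q uni) :=
      (isRes_res h𝒳 _ uni).unique h𝒳 (isRes_actM f hu h𝒳 g' q)
    rw [h2, ← gs_mul f h𝒳] at h1
    exact h1

theorem isRes_sm {T : Over S} (g : T ⟶ H) (m : T ⟶ E) :
    IsRes (sm (aE f hu h𝒳) g m) uni (gs f g (res h𝒳 m uni)) := isRes_actM f hu h𝒳 g m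

theorem sm_t {T : Over S} (g : T ⟶ H) (m : T ⟶ E) :
    sm (aE f hu h𝒳) g m ≫ uni.t = sm aW g (m ≫ uni.t) := by
  have h1 := (isRes_sm f hu h𝒳 g m).ht
  have h2 := (isRes_res h𝒳 m uni).ht
  rw [h1, gs, h2]

theorem sm_u {T : Over S} (g : T ⟶ H) (m : T ⟶ E) : sm (aE f hu h𝒳) g m ≫ uni.u = m ≫ uni.u := by
  have h1 := (isRes_sm f hu h𝒳 g m).hu
  have h2 := (isRes_res h𝒳 m uni).hu
  rw [h1, gs, h2]

theorem sm_eq_iff {T : Over S} (g : T ⟶ H) (m : T ⟶ E) :
    sm (aE f hu h𝒳) g m = m ↔ Nm f (Over.mk (m ≫ uni.t)) g := by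
  have h2 := (isRes_res h𝒳 m uni).ht
  rw [h2, ← gs_eq_iff f h𝒳]
  constructor
  · intro h
    have h1 := isRes_sm f hu h𝒳 g m
    rw [h] at h1
    exact h1.unique h𝒳 (isRes_res h𝒳 m uni)
  · intro h
    have h1 := isRes_sm f hu h𝒳 g m
    rw [h] at h1
    exact uni_ext hu h1 (isRes_res h𝒳 m uni)

end act

end K747.AffAct
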