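import Groth.Agent.AlgSt.K747.Sec
import Groth.Agent.AlgSt.K734.FibFp

set_option autoImplicit false
set_option backward.isDefEq.respectTransparency false
set_option backward.isDefEq.respectTransparency.types false
universe w v₃ u₃ v₂ u₂ v u

open CategoryTheory Opposite K734.Fib

namespace K747.Sc

variable {C : Type u} [Category.{v} C] {𝒳 : BasedCategory.{v₂, u₂} C}
variable {T U : C} {x : FibCat.overCat T ⥤ᵇ 𝒳} {z : FibCat.overCat U ⥤ᵇ 𝒳}

theorem Sec.vert {V : C} (s : Sec x z V) : IsVert 𝒳 s.φ := IsVert.of_lift s.over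

/-- the isomorphism underlying a section -/
noncomputable def Sec.iso (h𝒳 : FibCat.IsFibGrpd 𝒳.p) {V : C} (s : Sec x z V) :
    x.obj (Over.mk s.t) ≅ z.obj (Over.mk s.u) :=
  haveI := K747.Fib.isIso_of_vert h𝒳 s.φ s.over
  asIso s.φ

theorem Sec.iso_hom (h𝒳 : FibCat.IsFibGrpd 𝒳.p) {V : C} (s : Sec x z V) : (s.iso h𝒳).hom = s.φ := rfl

theorem isRes_of_map {h𝒳 : FibCat.IsFibGrpd 𝒳.p} {a b : Stk.EltObj (psh.{w} h𝒳 x z)} (f : a ⟶ b) :
    IsRes f.hom b.sec.down a.sec.down :=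
  (psh_map_eq_iff h𝒳).1 f.map_sec

/-- the functor from the category of the presheaf of sections to the fibre product -/
noncomputable def toFp (h𝒳 : FibCat.IsFibGrpd 𝒳.p) (x : FibCat.overCat T ⥤ᵇ 𝒳) (z : FibCat.overCat U ⥤ᵇ 𝒳) :
    Stk.ofPsh (psh.{w} h𝒳 x z) ⥤ᵇ FibCat.fp x z where
  toFunctor :=
    { obj := fun a => mkObj (Over.mk a.sec.down.t) (Over.mk a.sec.down.u) (a.sec.down.iso h𝒳) a.sec.down.vert
      map := fun {a b} f => mkHomFp (om f.hom _ _ (isRes_of_map f).ht) (om f.hom _ _ (isRes_of_map f).hu)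
        (isRes_of_map f).hφ.symm
      map_id := fun a => homFp_ext (Over.OverMorphism.ext rfl) (Over.OverMorphism.ext rfl)
      map_comp := fun f g => homFp_ext (Over.OverMorphism.ext rfl) (Over.OverMorphism.ext rfl) }
  w := rfl

theorem toFp_isEquivOver (h𝒳 : FibCat.IsFibGrpd 𝒳.p) (x : FibCat.overCat T ⥤ᵇ 𝒳) (z : FibCat.overCat U ⥤ᵇ 𝒳) :
    FibCat.IsEquivOver (toFp.{w} h𝒳 x z) := by
  refine isEquivOver_of ⟨?_⟩ ⟨?_⟩ ?_
  · intro a b f
    have h1 := FibCat.fp_isHomLift_snd x z f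
    have h2 : f.hom.fst.left = f.hom.snd.left := by
      have h3 : (FibCat.overCat U).p.IsHomLift (show (FibCat.overCat U).p.obj (Over.mk a.sec.down.u) ⟶
        (FibCat.overCat U).p.obj (Over.mk b.sec.down.u) from f.hom.fst.left) f.hom.snd := h1
      exact IsHomLift.eq_of_isHomLift (FibCat.overCat U).p _ f.hom.snd
    have ht : f.hom.fst.left ≫ b.sec.down.t = a.sec.down.t := Over.w f.hom.fst
    have hu' : f.hom.snd.left ≫ b.sec.down.u = a.sec.down.u := Over.w f.hom.snd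
    have hu : f.hom.fst.left ≫ b.sec.down.u = a.sec.down.u := by rw [h2]; exact hu'
    have e1 : om f.hom.fst.left b.sec.down.t a.sec.down.t ht = f.hom.fst := by ext; rfl
    have e2 : om f.hom.fst.left b.sec.down.u a.sec.down.u hu = f.hom.snd := by ext; exact h2
    refine ⟨⟨f.hom.fst.left, (psh_map_eq_iff h𝒳).2 ⟨ht, hu, ?_⟩⟩, ?_⟩
    · change a.sec.down.φ ≫ z.map (om f.hom.fst.left b.sec.down.u a.sec.down.u hu) =
        x.map (om f.hom.fst.left b.sec.down.t a.sec.down.t ht) ≫ b.sec.down.φ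
      rw [e1, e2]
      exact (homFp_w f).symm
    · exact homFp_ext e1 e2
  · intro a b f g h
    have h1 : (om f.hom _ _ (isRes_of_map f).ht) = (om g.hom _ _ (isRes_of_map g).ht) :=
      congrArg (fun k => k.hom.fst) h
    exact Stk.EltObj.hom_ext (congrArg (fun k => k.left) h1)
  · intro y
    have hv := iso_vert y
    have ha : 𝒳.p.obj (x.obj y.obj.fst) = y.obj.fst.left := x.w_obj _
    have hb : 𝒳.p.obj (z.obj y.obj.snd) = y.obj.snd.left := z.w_obj _
    have h : y.obj.fst.left = y.obj.snd.left := by rw [← ha, ← hb]; exact hv.obj_eq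
    let β : y.obj.snd ≅ Over.mk (eqToHom h ≫ y.obj.snd.hom) := Over.isoMk (eqToIso h.symm) (by simp)
    have hβ : IsVert (FibCat.overCat U) β.hom := by
      rw [isVert_iff]
      exact ⟨h.symm, rfl⟩
    let φ : x.obj (Over.mk y.obj.fst.hom) ⟶ z.obj (Over.mk (eqToHom h ≫ y.obj.snd.hom)) :=
      y.obj.iso.hom ≫ z.map β.hom
    have hφ : IsVert 𝒳 φ := hv.comp (hβ.map z)
    let s : Sec x z y.obj.fst.left := ⟨y.obj.fst.hom, eqToHom h ≫ y.obj.snd.hom, φ, hφ.lift ha⟩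
    refine ⟨⟨y.obj.fst.left, ⟨s⟩⟩, mkIsoFp (Iso.refl _) β.symm ?_, ?_⟩
    · change x.map (𝟙 _) ≫ y.obj.iso.hom = φ ≫ z.map β.inv
      rw [Category.assoc, ← z.map_comp]
      simp
    · rw [vert_fp_iff_fst]
      exact IsVert.id _

end K747.Sc
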