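import Groth.Prelude.Def_FibCat2

set_option autoImplicit false
universe v₃ u₃ v₂ u₂ v u

open CategoryTheory

namespace K747.Fib

variable {C : Type u} [Category.{v} C] {X : Type u₂} [Category.{v₂} X] {p : X ⥤ C}

theorem sc (h : FibCat.IsFibGrpd p) {R S : C} (f : R ⟶ S) {a b : X} (φ : a ⟶ b) [hf : p.IsHomLift f φ] :
    p.IsStronglyCartesian f φ := by
  subst_hom_lift p f φ; exact h.isStronglyCartesian φ

/-- Existence and uniqueness of factorisations in a category fibred in groupoids, flexible form. -/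
theorem existsUnique_fac (h : FibCat.IsFibGrpd p) {W V U : C} {x y z : X} {f : V ⟶ U} {φ : y ⟶ x}
    (hφ : p.IsHomLift f φ) {k : W ⟶ U} {ψ : z ⟶ x} (hψ : p.IsHomLift k ψ) (g : W ⟶ V) (hg : g ≫ f = k) :
    ∃! χ : z ⟶ y, p.IsHomLift g χ ∧ χ ≫ φ = ψ := by
  have := sc h f φ
  exact Functor.IsStronglyCartesian.universal_property p f φ g k hg.symm ψ

theorem hom_ext (h : FibCat.IsFibGrpd p) {W V U : C} {x y z : X} {f : V ⟶ U} {φ : y ⟶ x}
    (hφ : p.IsHomLift f φ) {g : W ⟶ V} {χ χ' : z ⟶ y} (h1 : p.IsHomLift g χ) (h2 : p.IsHomLift g χ')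
    (e : χ ≫ φ = χ' ≫ φ) : χ = χ' := by
  have hc : p.IsHomLift (g ≫ f) (χ' ≫ φ) := inferInstance
  exact (existsUnique_fac h hφ hc g rfl).unique ⟨h1, e⟩ ⟨h2, rfl⟩

theorem exists_lift (h : FibCat.IsFibGrpd p) {V U : C} (f : V ⟶ U) {x : X} (hx : p.obj x = U) :
    ∃ (y : X) (φ : y ⟶ x), p.IsHomLift f φ := by
  subst hx; exact h.exists_lift f

/-- vertical morphisms are isomorphisms -/
theorem isIso_of_vert (h : FibCat.IsFibGrpd p) {V : C} {x y : X} (φ : x ⟶ y) (hφ : p.IsHomLift (𝟙 V) φ) :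
    IsIso φ := by
  have := sc h (𝟙 V) φ
  exact Functor.IsStronglyCartesian.isIso_of_base_isIso p (𝟙 V) φ

theorem isHomLift_comp_id {V U : C} {x y z : X} {f : V ⟶ U} {φ : x ⟶ y} {ψ : y ⟶ z}
    (hφ : p.IsHomLift f φ) (hψ : p.IsHomLift (𝟙 U) ψ) : p.IsHomLift f (φ ≫ ψ) := inferInstance

theorem isHomLift_id_comp {V U : C} {x y z : X} {f : V ⟶ U} {φ : x ⟶ y} {ψ : y ⟶ z}
    (hφ : p.IsHomLift (𝟙 V) φ) (hψ : p.IsHomLift f ψ) : p.IsHomLift f (φ ≫ ψ) := inferInstance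

theorem isHomLift_comp {W V U : C} {x y z : X} {g : W ⟶ V} {f : V ⟶ U} {φ : x ⟶ y} {ψ : y ⟶ z}
    (hφ : p.IsHomLift g φ) (hψ : p.IsHomLift f ψ) : p.IsHomLift (g ≫ f) (φ ≫ ψ) := inferInstance

end K747.Fib
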