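import Groth.Agent.AlgSp.K597.LocP
import Groth.Agent.AlgSp.K597.EtLoc
import Groth.Agent.AlgSp.K613.Cover
import Groth.Agent.UnramA.FibreFlat

/-!
# Algebraic spaces over a scheme with a section and trivial fibres

* `comp_eq_id`: `π : I ⟶ h_T` locally of finite type, `I` an algebraic space, `e` a section of `π`; if every
  section of `π` over a scheme over a field-valued point of `T` is the one given by `e`, then `π ≫ e = 𝟙`.
-/

set_option autoImplicit false
set_option backward.isDefEq.respectTransparency false
set_option backward.isDefEq.respectTransparency.types false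
universe u
open CategoryTheory CategoryTheory.Limits AlgebraicGeometry AlgSp

namespace K747.TrivFib

variable {S : Scheme.{u}}

/-- Sections over schemes over a field-valued point are trivial. -/
def Triv {T : Over S} {I : Sp S} (π : I ⟶ (yon S).obj T) (e : (yon S).obj T ⟶ I) : Prop :=
  ∀ (K : Type u) [Field K] (sK : Spec (CommRingCat.of K) ⟶ S) (t : Over.mk sK ⟶ T) (T' : Over S)
    (h : T' ⟶ Over.mk sK) (a : (yon S).obj T' ⟶ I), a ≫ π = (yon S).map (h ≫ t) → a = (yon S).map (h ≫ t) ≫ e

theorem fibre_isPullback {T : Over S} {I : Sp S} {π : I ⟶ (yon S).obj T}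
    {e : (yon S).obj T ⟶ I} (he : e ≫ π = 𝟙 _) (ht : Triv π e) (K : Type u) [Field K]
    (sK : Spec (CommRingCat.of K) ⟶ S) (t : Over.mk sK ⟶ T) :
    IsPullback ((yon S).map t ≫ e) (𝟙 _) π ((yon S).map t) := by
  refine K613.Basic.isPullback_of_yon (by rw [Category.assoc, he, Category.comp_id, Category.id_comp])
    fun T' a b hab => ?_
  obtain ⟨h, rfl⟩ := (yon S).map_surjective b
  refine ⟨(yon S).map h, ⟨?_, Category.comp_id _⟩, fun c hc => ?_⟩
  · rw [ht K sK t T' h a (by rw [hab, Functor.map_comp]), Functor.map_comp, Category.assoc]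
  · rw [← hc.2, Category.comp_id]

theorem comp_eq_id {T : Over S} {I : Sp S} (hI : IsAlgSpace I) (π : I ⟶ (yon S).obj T)
    (e : (yon S).obj T ⟶ I) (he : e ≫ π = 𝟙 _) (hπ : LocP @LocallyOfFiniteType π) (ht : Triv π e) :
    π ≫ e = 𝟙 I := by
  obtain ⟨E, p, hp, hps⟩ := hI.atlas
  obtain ⟨f, hf⟩ := (yon S).map_surjective (p ≫ π)
  have hflft : LocallyOfFiniteType f.left :=
    hπ p (𝟙 _) f hp (repWith_id @Etale T) (by rw [Category.comp_id, hf])
  -- `f` is formally unramified
  have hfun : FormallyUnramified f.left := by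
    refine Groth.Agent.UnramA.FibreFlat.formallyUnramified_of_fiberToSpecResidueField f.left fun y => ?_
    let K : Type u := T.left.residueField y
    let sK : Spec (CommRingCat.of K) ⟶ S := T.left.fromSpecResidueField y ≫ T.hom
    let t : Over.mk sK ⟶ T := Over.homMk (T.left.fromSpecResidueField y) rfl
    have hw : f.left.fiberι y ≫ f.left = f.left.fiberToSpecResidueField y ≫ T.left.fromSpecResidueField y :=
      pullback.condition
    let E' : Over S := Over.mk (f.left.fiberι y ≫ E.hom)
    let i : E' ⟶ E := Over.homMk (f.left.fiberι y) rfl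
    let j : E' ⟶ Over.mk sK := Over.homMk (f.left.fiberToSpecResidueField y) (by
      change f.left.fiberToSpecResidueField y ≫ T.left.fromSpecResidueField y ≫ T.hom = f.left.fiberι y ≫ E.hom
      rw [← Category.assoc, ← hw, Category.assoc, Over.w])
    have sq : IsPullback i j f t := by
      refine IsPullback.of_map (Over.forget S) (Over.OverMorphism.ext hw) ?_
      exact IsPullback.of_hasPullback _ _
    have sq' : IsPullback ((yon S).map i) ((yon S).map j ≫ 𝟙 _) (p ≫ π) ((yon S).map t) := by
      rw [Category.comp_id, ← hf]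
      exact sq.map (yon S)
    have sq'' := IsPullback.of_bot sq' (by
      have h1 := ht K sK t E' j ((yon S).map i ≫ p) (by
        rw [Category.assoc, ← hf, ← Functor.map_comp, sq.w])
      rw [h1, Functor.map_comp, Category.assoc]) (fibre_isPullback he ht K sK t)
    have h3 : Etale j.left := K597.repWith_prop hp sq''
    have h4 : Etale (f.left.fiberToSpecResidueField y) := h3
    infer_instance
  obtain ⟨W, q1, q2, sq, hq2⟩ := K597.exists_sq2 hp e
  have hq : q1 ≫ f = q2 := (yon S).map_injective (by
    rw [Functor.map_comp, hf, ← Category.assoc, sq.w, Category.assoc, he, Category.comp_id])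
  have hq1 : Etale q1.left := by
    have h1 : q1.left ≫ f.left = q2.left := by rw [← Over.comp_left, hq]
    have : Etale (q1.left ≫ f.left) := by rw [h1]; exact hq2
    exact Etale.of_comp q1.left f.left
  have hq1s : Surjective q1.left := by
    refine ⟨fun z => ?_⟩
    let K : Type u := E.left.residueField z
    let sK : Spec (CommRingCat.of K) ⟶ S := E.left.fromSpecResidueField z ≫ E.hom
    let c : Over.mk sK ⟶ E := Over.homMk (E.left.fromSpecResidueField z) rfl
    have h1 := ht K sK (c ≫ f) (Over.mk sK) (𝟙 _) ((yon S).map c ≫ p) (by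
      rw [Category.assoc, ← hf, ← Functor.map_comp, Category.id_comp])
    rw [Category.id_comp] at h1
    let d : Over.mk sK ⟶ W := (yon S).preimage (sq.lift ((yon S).map c) ((yon S).map (c ≫ f)) h1)
    have h2 : d ≫ q1 = c := (yon S).map_injective (by simp [d])
    refine ⟨d.left (IsLocalRing.closedPoint K), ?_⟩
    rw [← Scheme.Hom.comp_apply, ← Over.comp_left, h2]
    exact Scheme.fromSpecResidueField_apply _ _
  have hE : Epi p := (K613.Cover.ESurj.of_repWith hp hps).fSurj.epi
  have hF : K613.Cover.FSurj e := by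
    have h1 : K613.Cover.ESurj ((yon S).map q1) := K613.Cover.EtC.eSurj ⟨hq1, hq1s⟩
    have h2 : K613.Cover.ESurj ((yon S).map q1 ≫ p) :=
      K613.Cover.ESurj.comp (K613.Cover.ESurj.of_repWith hp hps) h1
    rw [sq.w] at h2
    exact h2.of_comp.fSurj
  have hM : Mono e := by
    have : IsSplitMono e := ⟨⟨⟨π, he⟩⟩⟩
    infer_instance
  have hiso : IsIso e := hF.isIso_of_mono
  rw [← cancel_epi e, ← Category.assoc, he, Category.id_comp, Category.comp_id]

/-- Two maps to `I` agreeing over `h_T` are equal. -/
theorem hom_ext_of_triv {T : Over S} {I : Sp S} (hI : IsAlgSpace I) (π : I ⟶ (yon S).obj T)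
    (e : (yon S).obj T ⟶ I) (he : e ≫ π = 𝟙 _) (hπ : LocP @LocallyOfFiniteType π) (ht : Triv π e)
    {X : Sp S} (a b : X ⟶ I) (hab : a ≫ π = b ≫ π) : a = b := by
  have h := comp_eq_id hI π e he hπ ht
  rw [← Category.comp_id a, ← Category.comp_id b, ← h, ← Category.assoc, hab, Category.assoc]

end K747.TrivFib
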