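import Groth.Agent.AlgSt.K747.PreOfIso
import Groth.Agent.AlgSt.K747.TrivFib
import Groth.Agent.AlgSt.K734.Grpd
import Groth.Agent.Stk.K751.Test
import Groth.Prelude.Def_StGerb

/-!
# Presheaves of isomorphisms and the diagonal; stabilizers

* `diag_with`: if the diagonal of `𝒳` is representable with `Q` then `prI : Isom(x, x') ⟶ h_T` has `Q`.
* `eq_id_of_points`: if the diagonal is locally of finite type and objects over schemes over fields have no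
  automorphisms then no object has automorphisms.
-/

set_option autoImplicit false
set_option backward.isDefEq.respectTransparency false
set_option backward.isDefEq.respectTransparency.types false
universe w v₂ u₂ v u

open CategoryTheory Opposite K734.Fib AlgebraicGeometry Limits

namespace K747.Sc

variable {S : Scheme.{u}} {𝒳 : BasedCategory.{u, w} (Over S)} (h𝒳 : FibCat.IsFibGrpd 𝒳.p)
variable {T U : Over S}

/-- `Isom(x, x') ⟶ h_T` as a morphism of sheaves -/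
noncomputable abbrev prI' (x x' : FibCat.overCat T ⥤ᵇ 𝒳) (h : Presheaf.IsSheaf (AlgSp.J S) (I h𝒳 x x')) :
    (⟨I h𝒳 x x', h⟩ : AlgSp.Sp S) ⟶ (AlgSp.yon S).obj T := ObjectProperty.homMk (prI h𝒳 x x')

theorem diag_with (Q : MorphismProperty (AlgSp.Sp S)) [Q.RespectsIso]
    (hd : AlgSt.RepByAlgSpWith Q (FibCat.diag (FibCat.toSelf 𝒳))) (x x' : FibCat.overCat T ⥤ᵇ 𝒳) :
    ∃ h : Presheaf.IsSheaf (AlgSp.J S) (I h𝒳 x x'), AlgSp.IsAlgSpace (⟨I h𝒳 x x', h⟩ : AlgSp.Sp S) ∧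
      Q (prI' h𝒳 x x' h) := by
  let y := FibCat.fpLift x x' (eqToIso (comp_toSelf_eq x x'))
  obtain ⟨h, h1, h2⟩ := (Rep.with_iff Q (FibCat.fpFst y (FibCat.diag (FibCat.toSelf 𝒳)))
    (toDiag_isEquivOver.{u + 1} h𝒳 y)).1 (hd T y)
  refine ⟨h, h1, ?_⟩
  have h3 : Rep.pMap (BasedFunctor.comp (toDiag.{u + 1} h𝒳 y) (FibCat.fpFst y (FibCat.diag (FibCat.toSelf 𝒳)))) =
      prI h𝒳 (y1 y) (y2 y) := by
    ext V s
    refine congrArg ULift.up ?_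
    change eqToHom _ ≫ s.1.down.t = s.1.down.t
    simp
  rw [h3] at h2
  exact h2

/-- the section of `Isom(x, x)` given by an automorphism -/
def autSec (x : FibCat.overCat T ⥤ᵇ 𝒳) {V : Over S} (t : V ⟶ T) (φ : x.obj (Over.mk t) ⟶ x.obj (Over.mk t))
    (hφ : IsVert 𝒳 φ) : (I h𝒳 x x).obj (op V) :=
  ⟨⟨⟨t, t, φ, hφ.lift (p_obj x t)⟩⟩, rfl⟩

variable {h𝒳} in
theorem autSec_inj {x : FibCat.overCat T ⥤ᵇ 𝒳} {V : Over S} {t : V ⟶ T} {φ φ' : x.obj (Over.mk t) ⟶ x.obj (Over.mk t)}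
    {hφ : IsVert 𝒳 φ} {hφ' : IsVert 𝒳 φ'} (h : autSec h𝒳 x t φ hφ = autSec h𝒳 x t φ' hφ') : φ = φ' := by
  have h1 : (⟨t, t, φ, hφ.lift (p_obj x t)⟩ : Sec x x V) = ⟨t, t, φ', hφ'.lift (p_obj x t)⟩ :=
    congrArg (fun k => k.1.down) h
  injection h1

variable {h𝒳} in
theorem exists_autSec {x : FibCat.overCat T ⥤ᵇ 𝒳} {V : Over S} (s : (I h𝒳 x x).obj (op V)) :
    ∃ (t : V ⟶ T) (φ : x.obj (Over.mk t) ⟶ x.obj (Over.mk t)) (hφ : IsVert 𝒳 φ), s = autSec h𝒳 x t φ hφ := by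
  obtain ⟨⟨⟨t, u, φ, hφ⟩⟩, h⟩ := s
  obtain rfl : t = u := h
  exact ⟨t, φ, IsVert.of_lift hφ, rfl⟩

theorem autSec_map (x : FibCat.overCat T ⥤ᵇ 𝒳) {V V' : Over S} (g : V' ⟶ V) (t : V ⟶ T) (t' : V' ⟶ T) (ht : g ≫ t = t') :
    (I h𝒳 x x).map g.op (autSec h𝒳 x t (𝟙 _) (IsVert.id _)) = autSec h𝒳 x t' (𝟙 _) (IsVert.id _) := by
  refine (isoPsh_map_eq_iff h𝒳).2 ⟨ht, ht, ?_⟩
  exact (Category.id_comp _).trans (Category.comp_id _).symm

/-- objects over schemes over fields have no automorphisms over the identity -/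
def NoAutField (𝒳 : BasedCategory.{u, w} (Over S)) : Prop :=
  ∀ (k : Type u) [Field k] (sk : Spec (CommRingCat.of k) ⟶ S) (x : FibCat.overCat (Over.mk sk) ⥤ᵇ 𝒳)
    (T : Over (Over.mk sk)) (φ : x.obj T ⟶ x.obj T), IsVert 𝒳 φ → φ = 𝟙 _

/-- the map from `h_V` attached to a section -/
noncomputable def sy {F : AlgSp.Sp S} {V : Over S} (s : F.obj.obj (op V)) : (AlgSp.yon S).obj V ⟶ F :=
  (AlgSp.J S).uliftYonedaEquiv.symm s

theorem sy_inj {F : AlgSp.Sp S} {V : Over S} {s s' : F.obj.obj (op V)} (h : sy s = sy s') : s = s' :=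
  (AlgSp.J S).uliftYonedaEquiv.symm.injective h

theorem sy_surj {F : AlgSp.Sp S} {V : Over S} (f : (AlgSp.yon S).obj V ⟶ F) : ∃ s : F.obj.obj (op V), f = sy s :=
  ⟨(AlgSp.J S).uliftYonedaEquiv f, ((AlgSp.J S).uliftYonedaEquiv.symm_apply_apply f).symm⟩

theorem map_sy {F : AlgSp.Sp S} {V V' : Over S} (g : V' ⟶ V) (s : F.obj.obj (op V)) :
    (AlgSp.yon S).map g ≫ sy s = sy (F.obj.map g.op s) :=
  (AlgSp.J S).uliftYonedaEquiv_symm_naturality_left g F s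

theorem sy_comp {F G : AlgSp.Sp S} {V : Over S} (s : F.obj.obj (op V)) (f : F ⟶ G) :
    sy s ≫ f = sy (f.hom.app (op V) s) :=
  (AlgSp.J S).uliftYonedaEquiv_symm_naturality_right V f s

theorem sy_yon {V : Over S} (g : V ⟶ T) :
    sy (F := (AlgSp.yon S).obj T) (V := V) ⟨g⟩ = (AlgSp.yon S).map g := by
  have h := (AlgSp.J S).uliftYonedaEquiv_uliftYoneda_map (f := g)
  exact ((AlgSp.J S).uliftYonedaEquiv.symm_apply_eq).2 h.symm

theorem sy_autSec_comp {x : FibCat.overCat T ⥤ᵇ 𝒳} (h : Presheaf.IsSheaf (AlgSp.J S) (I h𝒳 x x)) {V : Over S}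
    (t : V ⟶ T) (φ : x.obj (Over.mk t) ⟶ x.obj (Over.mk t)) (hφ : IsVert 𝒳 φ) :
    sy (F := (⟨I h𝒳 x x, h⟩ : AlgSp.Sp S)) (autSec h𝒳 x t φ hφ) ≫ prI' h𝒳 x x h = (AlgSp.yon S).map t := by
  rw [← sy_yon, sy_comp]
  rfl

include h𝒳 in
theorem eq_id_of_points (hd : AlgSt.RepByAlgSpWith (AlgSp.LocP @LocallyOfFiniteType) (FibCat.diag (FibCat.toSelf 𝒳)))
    (hp : NoAutField 𝒳) (x : FibCat.overCat T ⥤ᵇ 𝒳) {V : Over S} (t : V ⟶ T) (φ : x.obj (Over.mk t) ⟶ x.obj (Over.mk t))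
    (hφ : IsVert 𝒳 φ) : φ = 𝟙 _ := by
  obtain ⟨h, h1, h2⟩ := diag_with h𝒳 _ hd x x
  let F : AlgSp.Sp S := ⟨I h𝒳 x x, h⟩
  let π : F ⟶ (AlgSp.yon S).obj T := prI' h𝒳 x x h
  let e : (AlgSp.yon S).obj T ⟶ F := sy (F := F) (autSec h𝒳 x (𝟙 T) (𝟙 _) (IsVert.id _))
  have he : e ≫ π = 𝟙 _ := by
    rw [sy_autSec_comp, CategoryTheory.Functor.map_id]
  have hge : ∀ {V : Over S} (g : V ⟶ T), (AlgSp.yon S).map g ≫ e = sy (F := F) (autSec h𝒳 x g (𝟙 _) (IsVert.id _)) := by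
    intro V g
    rw [map_sy]
    congr 1
    exact autSec_map h𝒳 x g (𝟙 T) g (Category.comp_id g)
  have ht : K747.TrivFib.Triv π e := by
    intro K _ sK t T' g a ha
    obtain ⟨s, rfl⟩ := sy_surj a
    obtain ⟨t', ψ, hψ, rfl⟩ := exists_autSec s
    rw [sy_autSec_comp] at ha
    obtain rfl := (AlgSp.yon S).map_injective ha
    rw [hge]
    congr 2
    exact hp K sK (BasedFunctor.comp (AlgSt.overMap t) x) (Over.mk g) ψ hψ
  have key := K747.TrivFib.hom_ext_of_triv h1 π e he h2 ht (sy (F := F) (autSec h𝒳 x t φ hφ))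
    (sy (F := F) (autSec h𝒳 x t (𝟙 _) (IsVert.id _))) (by rw [sy_autSec_comp, sy_autSec_comp])
  exact autSec_inj (sy_inj key)

include h𝒳 in
/-- trivial stabilizers at field-valued points: the category is fibred in setoids -/
theorem isFibSetoid_of_points (hd : AlgSt.RepByAlgSpWith (AlgSp.LocP @LocallyOfFiniteType) (FibCat.diag (FibCat.toSelf 𝒳)))
    (hp : NoAutField 𝒳) : FibCat.IsFibSetoid 𝒳.p := by
  have key : ∀ (a : 𝒳.obj) (φ : a ⟶ a), IsVert 𝒳 φ → φ = 𝟙 a := by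
    intro a φ hφ
    let x := K751.Test.yo h𝒳 a rfl
    let ε : x.obj (Over.mk (𝟙 (𝒳.p.obj a))) ⟶ a := K751.Test.yoε h𝒳 a rfl (Over.mk (𝟙 _))
    have hε : IsVert 𝒳 ε := IsVert.of_lift (K751.Test.yoε_lift h𝒳 a rfl (Over.mk (𝟙 _)))
    have hi : IsIso ε := K734.Fib.isIso_of_vert h𝒳 hε
    have h1 := eq_id_of_points h𝒳 hd hp x (𝟙 _) (ε ≫ φ ≫ inv ε) (hε.comp (hφ.comp hε.isIso_inv))
    have h2 : ε ≫ φ = ε := by
      rw [← Category.assoc, IsIso.comp_inv_eq, Category.id_comp] at h1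
      exact h1
    rw [← cancel_epi ε, h2, Category.comp_id]
  refine isFibSetoid_of h𝒳 fun {a b} φ ψ e => ?_
  obtain ⟨χ, hχ, hχ'⟩ := exists_fac h𝒳 ψ φ (𝟙 _) (by rw [Category.id_comp, e])
  have hv : IsVert 𝒳 χ := IsVert.of_lift ((isHomLift_iff_map_eq _ _).2 hχ)
  rw [← hχ', key a χ hv, Category.id_comp]

end K747.Sc
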