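import Groth.Agent.AlgSt.K747.PairI
import Groth.Agent.AlgSt.K741.FlatDesc
import Groth.Agent.AlgSp.K605.LimMor

/-!
# The fibre product of two schemes over a stack with affine diagonal is a scheme

`exists_uni`: for `y : (Sch/W) ⟶ 𝒳`, `v : (Sch/V) ⟶ 𝒳` and `W × V` affine there is an affine scheme `E` with a universal
section of `P(y, v)`.
-/

set_option autoImplicit false
set_option backward.isDefEq.respectTransparency false
set_option backward.isDefEq.respectTransparency.types false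
universe w v₂ u₂ v u

open CategoryTheory Opposite K734.Fib AlgebraicGeometry Limits

namespace K747.Sc

section uni

variable {C : Type u} [Category.{v} C] {𝒳 : BasedCategory.{v₂, u₂} C} {W V : C}
  {y : FibCat.overCat W ⥤ᵇ 𝒳} {v : FibCat.overCat V ⥤ᵇ 𝒳}

/-- `uni` is a universal section. -/
def IsUni {E : C} (uni : Sec y v E) : Prop := ∀ {T : C} (s : Sec y v T), ∃! m : T ⟶ E, IsRes m uni s

end uni

variable {S : Scheme.{u}} {𝒳 : BasedCategory.{u, w} (Over S)}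

theorem isAffineMor_of_isIso {F G : AlgSp.Sp S} (f : F ⟶ G) [IsIso f] : AlgSp.IsAffineMor f := by
  intro Z hZ z
  exact ⟨Z, 𝟙 Z, z ≫ inv f, IsPullback.of_vert_isIso ⟨by simp⟩, hZ⟩

instance respectsIso_isAffineMor : (AlgSp.IsAffineMor (S := S)).RespectsIso :=
  MorphismProperty.RespectsIso.mk _
    (fun _ _ hf => K605.LimMor.isAffineMor_comp (isAffineMor_of_isIso _) hf)
    (fun _ _ hf => K605.LimMor.isAffineMor_comp hf (isAffineMor_of_isIso _))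

variable {W V Z : Over S} (y : FibCat.overCat W ⥤ᵇ 𝒳) (v : FibCat.overCat V ⥤ᵇ 𝒳)

/-- a map of presheaves `h_E ⟶ P(y, v)` is given by a section -/
theorem app_eq_res {E : Over S} (h𝒳 : FibCat.IsFibGrpd 𝒳.p) (θ : (AlgSp.pyon S).obj E ⟶ P h𝒳 y v) {T : Over S} (m : T ⟶ E) :
    IsRes m (θ.app (op E) ⟨𝟙 E⟩).down (θ.app (op T) ⟨m⟩).down := by
  have h1 := ConcreteCategory.congr_hom (θ.naturality m.op) (⟨𝟙 E⟩ : ((AlgSp.pyon S).obj E).obj (op E))
  have h2 : ((AlgSp.pyon S).obj E).map m.op (⟨𝟙 E⟩ : ((AlgSp.pyon S).obj E).obj (op E)) = ⟨m⟩ :=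
    congrArg ULift.up (Category.comp_id m)
  have h3 : θ.app (op T) (((AlgSp.pyon S).obj E).map m.op (⟨𝟙 E⟩ : ((AlgSp.pyon S).obj E).obj (op E))) =
    (P h𝒳 y v).map m.op (θ.app (op E) ⟨𝟙 E⟩) := h1
  rw [h2] at h3
  exact (psh_map_eq_iff.{u + 1} h𝒳).1 h3.symm

theorem isUni_of_isIso {E : Over S} (h𝒳 : FibCat.IsFibGrpd 𝒳.p) (θ : (AlgSp.pyon S).obj E ⟶ P h𝒳 y v) [IsIso θ] :
    IsUni (θ.app (op E) ⟨𝟙 E⟩).down := by
  intro T s
  have hb : Function.Bijective (θ.app (op T)) := by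
    rw [← isIso_iff_bijective]
    infer_instance
  obtain ⟨⟨m⟩, hm⟩ := hb.2 ⟨s⟩
  refine ⟨m, ?_, fun m' hm' => ?_⟩
  · have h1 := app_eq_res y v h𝒳 θ m
    rw [hm] at h1
    exact h1
  · have h1 := app_eq_res y v h𝒳 θ m'
    have h2 : (θ.app (op T) ⟨m'⟩).down = s := h1.unique h𝒳 hm'
    have h3 : θ.app (op T) (⟨m'⟩ : ((AlgSp.pyon S).obj E).obj (op T)) = θ.app (op T) ⟨m⟩ := by
      rw [hm]
      exact ULift.ext _ _ h2
    exact congrArg ULift.down (hb.1 h3)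

/-- **The fibre product of two schemes over a stack with affine diagonal.** -/
theorem exists_uni (h𝒳 : FibCat.IsFibGrpd 𝒳.p)
    (hd : AlgSt.RepByAlgSpWith AlgSp.IsAffineMor (FibCat.diag (FibCat.toSelf 𝒳))) {p₁ : Z ⟶ W} {p₂ : Z ⟶ V}
    (hp : IsProd p₁ p₂) [IsAffine Z.left] :
    ∃ (E : Over S) (_ : IsAffine E.left) (θ : (AlgSp.pyon S).obj E ⟶ P h𝒳 y v), IsIso θ := by
  obtain ⟨hs, -, ha⟩ := diag_with h𝒳 AlgSp.IsAffineMor hd (BasedFunctor.comp (AlgSt.overMap p₁) y)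
    (BasedFunctor.comp (AlgSt.overMap p₂) v)
  obtain ⟨E, i, fst, sq, hE⟩ := ha (Z := Z) inferInstance (𝟙 _)
  have h1 : IsIso fst := sq.isIso_fst_of_isIso
  have h2 : IsIso fst.hom := inferInstance
  have h3 := isIso_ofI h𝒳 y v hp
  exact ⟨E, hE, fst.hom ≫ ofI h𝒳 y v p₁ p₂, inferInstance⟩

/-- properties of the projection to `W` -/
theorem prop_of_isIso (h𝒳 : FibCat.IsFibGrpd 𝒳.p) (Q : MorphismProperty (AlgSp.Sp S)) [Q.RespectsIso]
    (hv : AlgSt.RepByAlgSpWith Q v) {E : Over S} (θ : (AlgSp.pyon S).obj E ⟶ P h𝒳 y v) [IsIso θ] :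
    Q ((AlgSp.yon S).map (θ.app (op E) ⟨𝟙 E⟩).down.t) := by
  obtain ⟨h, -, h2⟩ := repByAlgSpWith_psh (x := y) (z := v) h𝒳 Q hv
  let θ' : (AlgSp.yon S).obj E ⟶ (⟨P h𝒳 y v, h⟩ : AlgSp.Sp S) := ObjectProperty.homMk θ
  have h3 : IsIso θ' := by
    have : IsIso ((sheafToPresheaf _ _).map θ') := inferInstanceAs (IsIso θ)
    exact isIso_of_reflects_iso θ' (sheafToPresheaf _ _)
  have h4 : (AlgSp.yon S).map (θ.app (op E) ⟨𝟙 E⟩).down.t = θ' ≫ ObjectProperty.homMk (prT h𝒳 y v) := by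
    apply ObjectProperty.hom_ext
    ext T m
    obtain ⟨m⟩ := m
    exact congrArg ULift.up (app_eq_res y v h𝒳 θ m).ht
  rw [h4]
  exact MorphismProperty.RespectsIso.precomp Q θ' _ h2

end K747.Sc
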