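import Groth.Agent.AlgSt.K747.Coc

set_option autoImplicit false
set_option linter.unusedVariables false
set_option backward.isDefEq.respectTransparency false
set_option backward.isDefEq.respectTransparency.types false

universe v₃ u₃ v₂ u₂ v u

open CategoryTheory Functor K751.FG K751.Test

namespace K747.DD

variable {C : Type u} [Category.{v} C] {𝒳 : BasedCategory.{v₂, u₂} C} {T : C} {R : Sieve T}
variable (D : Stk.sieveCat R ⥤ᵇ 𝒳)

/-- the functor to the sieve category given by an arrow of the sieve -/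
def toSieve {W : C} (r : W ⟶ T) (hr : R r) : FibCat.overCat W ⥤ᵇ Stk.sieveCat R where
  toFunctor :=
    { obj := fun a => ⟨Over.mk (a.hom ≫ r), R.downward_closed hr _⟩
      map := fun {a b} f => ObjectProperty.homMk (Over.homMk f.left (by
        change f.left ≫ b.hom ≫ r = a.hom ≫ r
        rw [← Category.assoc, Over.w f]))
      map_id := fun a => by
        apply ObjectProperty.hom_ext
        exact Over.OverMorphism.ext rfl
      map_comp := fun f g => by
        apply ObjectProperty.hom_ext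
        exact Over.OverMorphism.ext rfl }
  w := rfl

theorem map_sh_comp {V V' V'' : C} {a : V ⟶ T} {ha : R a} {a' : V' ⟶ T} {ha' : R a'} {a'' : V'' ⟶ T} {ha'' : R a''}
    {h : V' ⟶ V} {w : h ≫ a = a'} {h' : V'' ⟶ V'} {w' : h' ≫ a' = a''} {h'' : V'' ⟶ V} {w'' : h'' ≫ a = a''} (e : h' ≫ h = h'') :
    D.map (sh a' ha' a'' ha'' h' w') ≫ D.map (sh a ha a' ha' h w) = D.map (sh a ha a'' ha'' h'' w'') := by
  subst e
  rw [← D.map_comp]
  congr 1

theorem map_sh_id {V : C} {a : V ⟶ T} {ha : R a} {w : 𝟙 V ≫ a = a} : D.map (sh a ha a ha (𝟙 V) w) = 𝟙 _ := by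
  rw [← D.map_id]
  congr 1

theorem sh_lift {V V' : C} {a : V ⟶ T} {ha : R a} {a' : V' ⟶ T} {ha' : R a'} {h : V' ⟶ V} {w : h ≫ a = a'} :
    𝒳.p.IsHomLift h (D.map (sh a ha a' ha' h w)) := map_homS_lift D (a := so R a' ha') (b := so R a ha) h w

/-- the object `D(r)` as an effective descent datum for a covering sieve of its base -/
def effAt {W : C} (r : W ⟶ T) (hr : R r) (Q : Sieve W) :
    Eff ((Stk.resSieve Q 𝒳).obj (BasedFunctor.comp (toSieve r hr) D)) where
  pt := D.obj (so R r hr)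
  ι a := D.map (sh r hr (a.obj.hom ≫ r) (R.downward_closed hr _) a.obj.hom rfl)
  lift a := sh_lift D
  nat {a b} f := map_sh_comp D (Over.w f.hom)
  pt_obj := D.w_obj _

theorem existsUnique_from {J : GrothendieckTopology C} (h : Stk.IsPrestack J 𝒳) {W : C} (r : W ⟶ T) (hr : R r)
    (Q : Sieve W) (hQ : Q ∈ J W) {Y : C} (k : W ⟶ Y) {z : 𝒳.obj} (hz : 𝒳.p.obj z = Y)
    (δ : ∀ {V : C} (g : V ⟶ W) (_ : Q g) (a : V ⟶ T) (_ : g ≫ r = a) (ha : R a), D.obj (so R a ha) ⟶ z)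
    (hδ : ∀ {V : C} (g : V ⟶ W) (hg : Q g) (a : V ⟶ T) (e : g ≫ r = a) (ha : R a), 𝒳.p.IsHomLift (g ≫ k) (δ g hg a e ha))
    (nδ : ∀ {V V' : C} (f : V' ⟶ V) (g : V ⟶ W) (hg : Q g) (a : V ⟶ T) (e : g ≫ r = a) (ha : R a)
      (g' : V' ⟶ W) (hg' : Q g') (a' : V' ⟶ T) (e' : g' ≫ r = a') (ha' : R a') (w : f ≫ a = a') (_ : f ≫ g = g'),
      D.map (sh a ha a' ha' f w) ≫ δ g hg a e ha = δ g' hg' a' e' ha') :
    ∃! ψ : D.obj (so R r hr) ⟶ z, 𝒳.p.IsHomLift k ψ ∧ ∀ {V : C} (g : V ⟶ W) (hg : Q g) (a : V ⟶ T) (e : g ≫ r = a) (ha : R a),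
      D.map (sh r hr a ha g e) ≫ ψ = δ g hg a e ha := by
  obtain ⟨ψ, ⟨h1, h2⟩, h3⟩ := (effAt D r hr Q).existsUnique_desc' h hQ k hz
    (fun a => δ a.obj.hom a.property _ rfl (R.downward_closed hr _))
    (fun a => hδ a.obj.hom a.property _ rfl (R.downward_closed hr _))
    (fun {a b} f => nδ f.hom.left b.obj.hom b.property _ rfl (R.downward_closed hr _) a.obj.hom a.property _ rfl
      (R.downward_closed hr _) _ (Over.w f.hom))
  refine ⟨ψ, ⟨h1, ?_⟩, ?_⟩
  · intro V g hg a e ha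
    subst e
    exact h2 ⟨Over.mk g, hg⟩
  · rintro ψ' ⟨h4, h5⟩
    exact h3 ψ' ⟨h4, fun a => h5 a.obj.hom a.property _ rfl (R.downward_closed hr _)⟩

theorem hom_ext_from {J : GrothendieckTopology C} (h : Stk.IsPrestack J 𝒳) {W : C} (r : W ⟶ T) (hr : R r)
    (Q : Sieve W) (hQ : Q ∈ J W) {Y : C} (k : W ⟶ Y) {z : 𝒳.obj} {ψ ψ' : D.obj (so R r hr) ⟶ z}
    (hψ : 𝒳.p.IsHomLift k ψ) (hψ' : 𝒳.p.IsHomLift k ψ')
    (e : ∀ {V : C} (g : V ⟶ W) (hg : Q g) (a : V ⟶ T) (e : g ≫ r = a) (ha : R a),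
      D.map (sh r hr a ha g e) ≫ ψ = D.map (sh r hr a ha g e) ≫ ψ') : ψ = ψ' := by
  have hz : 𝒳.p.obj z = Y := IsHomLift.codomain_eq 𝒳.p k ψ
  refine (existsUnique_from D h r hr Q hQ k hz (fun g hg a e ha => D.map (sh r hr a ha g e) ≫ ψ)
    (fun g hg a e ha => ?_) ?_).unique ⟨hψ, fun g hg a e ha => rfl⟩ ⟨hψ', fun g hg a e' ha => (e g hg a e' ha).symm⟩
  · have := sh_lift D (a := r) (ha := hr) (a' := a) (ha' := ha) (h := g) (w := e)
    exact IsHomLift.comp 𝒳.p _ _ _ _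
  · intro V V' f g hg a e ha g' hg' a' e' ha' w w'
    rw [← Category.assoc, map_sh_comp D w']

variable {D} in
theorem Coc.congr {W : C} {t : W ⟶ T} {y : 𝒳.obj} (c : Coc D t y) {V : C} {g g' : V ⟶ W} (h : g = g') {a : V ⟶ T}
    {e : g ≫ t = a} {e' : g' ≫ t = a} {ha : R a} : c.ι g a e ha = c.ι g' a e' ha := by
  subst h
  rfl

/-- A descent datum which is effective locally for a topology for which `𝒳` is a stack is effective. -/
theorem eff_of_local {J J' : GrothendieckTopology C} (hJ : J' ≤ J) (hs : Stk.IsStack J' 𝒳) (hp : Stk.IsPrestack J 𝒳)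
    (hR : R ∈ J T) (Q : Sieve T) (hQ : Q ∈ J' T)
    (h : ∀ {W : C} (q : W ⟶ T), Q q → ∃ y, Nonempty (Coc D q y)) : Nonempty (Eff D) := by
  have h' : ∀ (W : C) (q : W ⟶ T), Q q → ∃ y, Nonempty (Coc D q y) := fun W q hq => h q hq
  choose y hc using h'
  let c : ∀ (W : C) (q : W ⟶ T) (hq : Q q), Coc D q (y W q hq) := fun W q hq => (hc W q hq).some
  -- transition maps
  have key : ∀ (W W' : C) (q : W ⟶ T) (hq : Q q) (q' : W' ⟶ T) (hq' : Q q') (k : W' ⟶ W) (e : k ≫ q = q'),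
      ∃! ψ : y W' q' hq' ⟶ y W q hq, 𝒳.p.IsHomLift k ψ ∧ ∀ {V : C} (g : V ⟶ W') (a : V ⟶ T) (e' : g ≫ q' = a) (ha : R a),
        (c W' q' hq').ι g a e' ha ≫ ψ = (c W q hq).ι (g ≫ k) a (by rw [Category.assoc, e, e']) ha := by
    intro W W' q hq q' hq' k e
    refine (c W' q' hq').existsUnique_desc hp hR k (c W q hq).hy
      (fun g a e' ha => (c W q hq).ι (g ≫ k) a (by rw [Category.assoc, e, e']) ha)
      (fun g a e' ha => (c W q hq).lift (g ≫ k) a _ ha) ?_
    intro V V' f g a e' ha g' a' e'' ha' w w'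
    exact (c W q hq).nat f (g ≫ k) a _ ha (g' ≫ k) a' _ ha' w (by rw [← w', Category.assoc])
  choose m hm um using key
  let D' : Stk.sieveCat Q ⥤ᵇ 𝒳 := mkFunctor (𝒳 := Stk.sieveCat Q) (fun a => y a.obj.left a.obj.hom a.property)
    (fun {a b} f => m b.obj.left a.obj.left b.obj.hom b.property a.obj.hom a.property f.hom.left (Over.w f.hom))
    (fun {a b} f => (hm b.obj.left a.obj.left b.obj.hom b.property a.obj.hom a.property f.hom.left (Over.w f.hom)).1)
    (fun a => by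
      refine (um _ _ _ _ _ _ _ _ _ ⟨IsHomLift.id (c _ _ _).hy, ?_⟩).symm
      intro V g b e' ha
      rw [Category.comp_id]
      congr 1
      exact (Category.comp_id g).symm)
    (fun {a b d} f g => by
      have h1 := (hm b.obj.left a.obj.left b.obj.hom b.property a.obj.hom a.property f.hom.left (Over.w f.hom))
      have h2 := (hm d.obj.left b.obj.left d.obj.hom d.property b.obj.hom b.property g.hom.left (Over.w g.hom))
      refine (um _ _ _ _ _ _ _ _ _ ⟨?_, ?_⟩).symm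
      · have h3 := h1.1
        have h4 := h2.1
        exact IsHomLift.comp 𝒳.p _ _ _ _
      · intro V k b' e' ha
        rw [← Category.assoc, h1.2, h2.2]
        congr 1
        rw [Category.assoc]
        rfl)
  obtain ⟨E⟩ := exists_eff hs hQ D'
  -- the cocone
  let κ : ∀ (V : C) (a : V ⟶ T) (hQa : Q a) (ha : R a), D.obj (so R a ha) ⟶ E.pt := fun V a hQa ha =>
    (c V a hQa).ι (𝟙 V) a (Category.id_comp a) ha ≫ E.ι (so Q a hQa)
  have κl : ∀ (V : C) (a : V ⟶ T) (hQa : Q a) (ha : R a), 𝒳.p.IsHomLift a (κ V a hQa ha) := by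
    intro V a hQa ha
    have h1 := (c V a hQa).lift (𝟙 V) a (Category.id_comp a) ha
    have h2 : 𝒳.p.IsHomLift a (E.ι (so Q a hQa)) := E.lift (so Q a hQa)
    exact IsHomLift.comp_lift_id_left 𝒳.p _ _ _
  have κn : ∀ (V V' : C) (a : V ⟶ T) (hQa : Q a) (ha : R a) (a' : V' ⟶ T) (hQa' : Q a') (ha' : R a') (f : V' ⟶ V)
      (w : f ≫ a = a'), D.map (sh a ha a' ha' f w) ≫ κ V a hQa ha = κ V' a' hQa' ha' := by
    intro V V' a hQa ha a' hQa' ha' f w
    have h1 := (c V a hQa).nat f (𝟙 V) a (Category.id_comp a) ha f a' w ha' w (Category.comp_id f)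
    have h2 : m V V' a hQa a' hQa' f w ≫ E.ι (so Q a hQa) = E.ι (so Q a' hQa') := E.nat (sh a hQa a' hQa' f w)
    have h3 := (hm V V' a hQa a' hQa' f w).2 (𝟙 V') a' (Category.id_comp a') ha'
    have h4 : (c V a hQa).ι (𝟙 V' ≫ f) a' (by rw [Category.id_comp, w]) ha' = (c V a hQa).ι f a' w ha' :=
      (c V a hQa).congr (Category.id_comp f)
    change D.map (sh a ha a' ha' f w) ≫ (c V a hQa).ι (𝟙 V) a (Category.id_comp a) ha ≫ E.ι (so Q a hQa) =
      (c V' a' hQa').ι (𝟙 V') a' (Category.id_comp a') ha' ≫ E.ι (so Q a' hQa')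
    rw [← Category.assoc, h1, ← h2, ← Category.assoc, h3, h4]
  have key2 : ∀ (W : C) (r : W ⟶ T) (hr : R r), ∃! ψ : D.obj (so R r hr) ⟶ E.pt, 𝒳.p.IsHomLift r ψ ∧
      ∀ {V : C} (g : V ⟶ W) (hg : Q.pullback r g) (a : V ⟶ T) (e : g ≫ r = a) (ha : R a),
      D.map (sh r hr a ha g e) ≫ ψ = κ V a (by rw [← e]; exact hg) ha := by
    intro W r hr
    refine existsUnique_from D hp r hr (Q.pullback r) (J.pullback_stable r (hJ _ hQ)) r E.pt_obj
      (fun {V} g hg a e ha => κ V a (by rw [← e]; exact hg) ha) ?_ ?_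
    · intro V g hg a e ha
      exact isHomLift_congr (κl V a _ ha) e.symm
    · intro V V' f g hg a e ha g' hg' a' e' ha' w w'
      exact κn V V' a _ ha a' _ ha' f w
  choose ι hι uι using key2
  refine ⟨⟨E.pt, fun a => ι a.obj.left a.obj.hom a.property, fun a => (hι a.obj.left a.obj.hom a.property).1, ?_, E.pt_obj⟩⟩
  intro a b f
  refine uι a.obj.left a.obj.hom a.property _ ⟨?_, ?_⟩
  · have h1 := (hι b.obj.left b.obj.hom b.property).1
    have h2 : 𝒳.p.IsHomLift f.hom.left (D.map f) :=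
      sh_lift D (a := b.obj.hom) (ha := b.property) (a' := a.obj.hom) (ha' := a.property) (h := f.hom.left)
        (w := Over.w f.hom)
    have h3 := IsHomLift.comp 𝒳.p f.hom.left b.obj.hom (D.map f) (ι b.obj.left b.obj.hom b.property)
    exact isHomLift_congr h3 (Over.w f.hom)
  · intro V g hg a' e ha
    have w := Over.w f.hom
    have w2 : (g ≫ f.hom.left) ≫ b.obj.hom = a' := by rw [Category.assoc, ← e]; exact congrArg (g ≫ ·) w
    have h1 := (hι b.obj.left b.obj.hom b.property).2 (g ≫ f.hom.left) (by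
      change Q ((g ≫ f.hom.left) ≫ b.obj.hom)
      rw [w2, ← e]; exact hg) a' w2 ha
    have h4 : D.map (sh b.obj.hom b.property a.obj.hom a.property f.hom.left (Over.w f.hom)) = D.map f := rfl
    rw [← Category.assoc, ← h4, map_sh_comp D (h'' := g ≫ f.hom.left) (w'' := w2) rfl, h1]

end K747.DD
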