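import Groth.Agent.AlgSt.K747.EtCoordAlg
import Mathlib.AlgebraicGeometry.AffineSpace
import Mathlib.AlgebraicGeometry.Morphisms.Etale

/-!
# Étale coordinates for a smooth scheme unramified over a product
-/

set_option autoImplicit false
set_option backward.isDefEq.respectTransparency false
set_option backward.isDefEq.respectTransparency.types false
universe u
open CategoryTheory CategoryTheory.Limits AlgebraicGeometry

namespace K747.EtCoord

open TensorProduct KaehlerDifferential

/-- affine case, with algebras -/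
theorem alg_case (L R D' B : Type u) [CommRing L] [CommRing R] [CommRing D'] [CommRing B]
    [Algebra L R] [Algebra L D'] [Algebra R B] [Algebra D' B] [Algebra L B] [IsScalarTower L R B] [IsScalarTower L D' B]
    (w : Spec.map (CommRingCat.ofHom (algebraMap R B)) ≫ Spec.map (CommRingCat.ofHom (algebraMap L R)) =
      Spec.map (CommRingCat.ofHom (algebraMap D' B)) ≫ Spec.map (CommRingCat.ofHom (algebraMap L D')))
    [Algebra.Smooth R B]
    (h : FormallyUnramified (pullback.lift (Spec.map (CommRingCat.ofHom (algebraMap R B)))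
      (Spec.map (CommRingCat.ofHom (algebraMap D' B))) w)) (p : PrimeSpectrum B) :
    ∃ (κ : Type u) (_ : Finite κ) (v : κ → D') (g : B) (_ : g ∉ p.asIdeal),
        (MvPolynomial.eval₂Hom ((algebraMap B (Localization.Away g)).comp (algebraMap R B))
          (fun k => algebraMap B (Localization.Away g) (algebraMap D' B (v k)))).Etale := by
  have h1 : pullback.lift (Spec.map (CommRingCat.ofHom (algebraMap R B)))
      (Spec.map (CommRingCat.ofHom (algebraMap D' B))) w ≫ (pullbackSpecIso L R D').hom =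
      Spec.map (CommRingCat.ofHom (Algebra.TensorProduct.lift (IsScalarTower.toAlgHom L R B) (IsScalarTower.toAlgHom L D' B)
      (fun _ _ => Commute.all _ _) : R ⊗[L] D' →ₐ[L] B).toRingHom) := by
    rw [← cancel_mono (pullbackSpecIso L R D').inv, Category.assoc, Iso.hom_inv_id, Category.comp_id]
    apply pullback.hom_ext
    · rw [pullback.lift_fst, Category.assoc, pullbackSpecIso_inv_fst, ← Spec.map_comp]
      congr 1
      ext x
      simp
    · rw [pullback.lift_snd, Category.assoc, pullbackSpecIso_inv_snd, ← Spec.map_comp]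
      congr 1
      ext x
      simp
  have h2 : FormallyUnramified (Spec.map (CommRingCat.ofHom (Algebra.TensorProduct.lift (IsScalarTower.toAlgHom L R B) (IsScalarTower.toAlgHom L D' B)
      (fun _ _ => Commute.all _ _) : R ⊗[L] D' →ₐ[L] B).toRingHom)) := by
    rw [← h1]
    exact MorphismProperty.comp_mem (W := @FormallyUnramified) _ _ h inferInstance
  rw [HasRingHomProperty.Spec_iff (P := @FormallyUnramified)] at h2
  obtain ⟨κ, hκ, v, g, hg, he⟩ := exists_etale R B (fun x : D' => algebraMap D' B x) (span_eq_top h2) p.asIdeal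
  refine ⟨κ, hκ, v, g, hg, ?_⟩
  convert he using 1
  apply MvPolynomial.ringHom_ext
  · intro r
    simp [← IsScalarTower.algebraMap_apply]
  · intro i
    simp

/-- the morphism to affine space attached to a ring map out of a polynomial ring -/
theorem etale_homOfVector {R B : CommRingCat.{u}} {κ : Type u} (φ : R ⟶ B) (v : κ → B)
    (h : (MvPolynomial.eval₂Hom φ.hom v).Etale) :
    Etale (AffineSpace.homOfVector (Spec.map φ) (fun k => (Scheme.ΓSpecIso B).inv (v k))) := by
  have h1 : AffineSpace.homOfVector (Spec.map φ) (fun k => (Scheme.ΓSpecIso B).inv (v k)) =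
      Spec.map (CommRingCat.ofHom (MvPolynomial.eval₂Hom φ.hom v)) ≫ (AffineSpace.SpecIso κ R).inv := by
    refine AffineSpace.hom_ext ?_ ?_
    · rw [AffineSpace.homOfVector_over, Category.assoc, AffineSpace.SpecIso_inv_over, ← Spec.map_comp]
      congr 1
      ext x
      simp
    · intro i
      rw [AffineSpace.homOfVector_appTop_coord]
      simp only [TopologicalSpace.Opens.map_top, Scheme.Hom.comp_app, CommRingCat.comp_apply]
      rw [AffineSpace.SpecIso_inv_appTop_coord, ← CommRingCat.comp_apply, ← Scheme.ΓSpecIso_inv_naturality,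
        CommRingCat.comp_apply]
      simp
      rfl
  rw [h1]
  have h2 : Etale (Spec.map (CommRingCat.ofHom (MvPolynomial.eval₂Hom φ.hom v))) := by
    rw [HasRingHomProperty.Spec_iff (P := @Etale)]
    exact h
  infer_instance

theorem smooth_affineSpace (n : Type u) [Finite n] (S : Scheme.{u}) : Smooth (𝔸(n; S) ↘ S) := by
  wlog hS : ∃ R, S = Spec R
  · refine (IsZariskiLocalAtTarget.iff_of_openCover (P := @Smooth) S.affineCover).mpr ?_
    intro i
    have := this (n := n) (S.affineCover.X i) ⟨_, rfl⟩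
    rwa [← (AffineSpace.isPullback_map (n := n) (S.affineCover.f i)).isoPullback_hom_snd,
      MorphismProperty.cancel_left_of_respectsIso (P := @Smooth)] at this
  obtain ⟨R, rfl⟩ := hS
  rw [← MorphismProperty.cancel_left_of_respectsIso (P := @Smooth)
    (AffineSpace.SpecIso n R).inv, AffineSpace.SpecIso_inv_over]
  rw [HasRingHomProperty.Spec_iff (P := @Smooth)]
  change (algebraMap R (MvPolynomial n R)).Smooth
  rw [RingHom.smooth_algebraMap]
  exact ⟨inferInstance, inferInstance⟩

/-- Near every point, finitely many functions on the second factor give étale coordinates. -/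
theorem exists_coord {S : Scheme.{u}} {E T X : Over S} (s : E ⟶ T) (t : E ⟶ X) [hs : Smooth s.left]
    (w : s.left ≫ T.hom = t.left ≫ X.hom)
    (h : FormallyUnramified (pullback.lift s.left t.left w : E.left ⟶ pullback T.hom X.hom)) (e : E.left) :
    ∃ (X1 E1 A : Over S) (j : X1 ⟶ X) (ι : E1 ⟶ E) (l : E1 ⟶ X1) (γ : X1 ⟶ A) (e1 : E1.left)
      (w' : (ι ≫ s).left ≫ T.hom = (l ≫ γ).left ≫ A.hom), IsOpenImmersion j.left ∧
      IsOpenImmersion ι.left ∧ ι.left e1 = e ∧ l ≫ j = ι ≫ t ∧ Smooth A.hom ∧
      Etale (pullback.lift (ι ≫ s).left (l ≫ γ).left w' : E1.left ⟶ pullback T.hom A.hom) := by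
  obtain ⟨S1, hS1, hes, -⟩ := exists_isAffineOpen_mem_and_subset (X := S) (x := (s.left ≫ T.hom) e) (U := ⊤) trivial
  obtain ⟨T1, hT1, heT, hTS⟩ := exists_isAffineOpen_mem_and_subset (X := T.left) (x := s.left e)
    (U := T.hom ⁻¹ᵁ S1) (by exact hes)
  obtain ⟨X1, hX1, heX, hXS⟩ := exists_isAffineOpen_mem_and_subset (X := X.left) (x := t.left e)
    (U := X.hom ⁻¹ᵁ S1) (by
      have : X.hom (t.left e) ∈ S1 := by
        rw [← Scheme.Hom.comp_apply, ← w]
        exact hes
      exact this)
  obtain ⟨E1, hE1, heE, hET⟩ := exists_isAffineOpen_mem_and_subset (X := E.left) (x := e)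
    (U := s.left ⁻¹ᵁ T1 ⊓ t.left ⁻¹ᵁ X1) ⟨heT, heX⟩
  have hEs : E1 ≤ s.left ⁻¹ᵁ T1 := fun x hx => (hET hx).1
  have hEt : E1 ≤ t.left ⁻¹ᵁ X1 := fun x hx => (hET hx).2
  let a := T.hom.appLE S1 T1 hTS
  let b := X.hom.appLE S1 X1 hXS
  let σ := s.left.appLE T1 E1 hEs
  let τ := t.left.appLE X1 E1 hEt
  have hab : a ≫ σ = b ≫ τ := by
    rw [Scheme.Hom.appLE_comp_appLE, Scheme.Hom.appLE_comp_appLE]
    congr 1
  algebraize [a.hom, b.hom, σ.hom, τ.hom, (a ≫ σ).hom]
  have hst1 : IsScalarTower Γ(S, S1) Γ(T.left, T1) Γ(E.left, E1) := IsScalarTower.of_algebraMap_eq' rfl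
  have hst2 : IsScalarTower Γ(S, S1) Γ(X.left, X1) Γ(E.left, E1) := IsScalarTower.of_algebraMap_eq' (by
    change (a ≫ σ).hom = τ.hom.comp b.hom
    rw [hab]
    rfl)
  have hsm : Algebra.Smooth Γ(T.left, T1) Γ(E.left, E1) := s.left.smooth_appLE hT1 hE1 hEs
  have hw : Spec.map σ ≫ Spec.map a = Spec.map τ ≫ Spec.map b := by
    rw [← Spec.map_comp, ← Spec.map_comp, hab]
  let m : pullback (Spec.map a) (Spec.map b) ⟶ pullback T.hom X.hom :=
    pullback.map _ _ _ _ hT1.fromSpec hX1.fromSpec hS1.fromSpec (IsAffineOpen.SpecMap_appLE_fromSpec _ _ _ _)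
      (IsAffineOpen.SpecMap_appLE_fromSpec _ _ _ _)
  have hm : pullback.lift (Spec.map σ) (Spec.map τ) hw ≫ m = hE1.fromSpec ≫ pullback.lift s.left t.left w := by
    apply pullback.hom_ext
    · simp only [m, Category.assoc, pullback.lift_fst, pullback.lift_fst_assoc]
      exact IsAffineOpen.SpecMap_appLE_fromSpec _ _ _ _
    · simp only [m, Category.assoc, pullback.lift_snd, pullback.lift_snd_assoc]
      exact IsAffineOpen.SpecMap_appLE_fromSpec _ _ _ _
  have hun : FormallyUnramified (pullback.lift (Spec.map σ) (Spec.map τ) hw) := by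
    have : FormallyUnramified (pullback.lift (Spec.map σ) (Spec.map τ) hw ≫ m) := by
      rw [hm]
      exact MorphismProperty.comp_mem (W := @FormallyUnramified) _ _ inferInstance h
    exact FormallyUnramified.of_comp _ m
  obtain ⟨κ, hκ, v, g, hg, he⟩ := alg_case Γ(S, S1) Γ(T.left, T1) Γ(X.left, X1) Γ(E.left, E1) hw hun
    (hE1.primeIdealOf ⟨e, heE⟩)
  let B' : CommRingCat.{u} := CommRingCat.of (Localization.Away g)
  let μ : Γ(E.left, E1) ⟶ B' := CommRingCat.ofHom (algebraMap Γ(E.left, E1) (Localization.Away g))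
  have hμ : IsOpenImmersion (Spec.map μ) :=
    inferInstanceAs (IsOpenImmersion (Spec.map (CommRingCat.ofHom (algebraMap Γ(E.left, E1) (Localization.Away g)))))
  let A : Over S := Over.mk (𝔸(κ; S) ↘ S)
  let X1' : Over S := Over.mk (hX1.fromSpec ≫ X.hom)
  let E1' : Over S := Over.mk (Spec.map μ ≫ hE1.fromSpec ≫ E.hom)
  let j : X1' ⟶ X := Over.homMk hX1.fromSpec rfl
  let ι : E1' ⟶ E := Over.homMk (Spec.map μ ≫ hE1.fromSpec) (by simp [E1'])
  have hτ : Spec.map τ ≫ hX1.fromSpec = hE1.fromSpec ≫ t.left := IsAffineOpen.SpecMap_appLE_fromSpec _ _ _ _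
  have hσ : Spec.map σ ≫ hT1.fromSpec = hE1.fromSpec ≫ s.left := IsAffineOpen.SpecMap_appLE_fromSpec _ _ _ _
  let l : E1' ⟶ X1' := Over.homMk (Spec.map μ ≫ Spec.map τ) (by
    change (Spec.map μ ≫ Spec.map τ) ≫ hX1.fromSpec ≫ X.hom = Spec.map μ ≫ hE1.fromSpec ≫ E.hom
    rw [Category.assoc, ← Category.assoc (Spec.map τ), hτ, Category.assoc, Over.w t])
  let γ : X1' ⟶ A := Over.homMk (AffineSpace.homOfVector (hX1.fromSpec ≫ X.hom)
    (fun k => (Scheme.ΓSpecIso Γ(X.left, X1)).inv (v k))) (AffineSpace.homOfVector_over _ _)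
  have hw' : (ι ≫ s).left ≫ T.hom = (l ≫ γ).left ≫ A.hom := by
    rw [Over.w (ι ≫ s), Over.w (l ≫ γ)]
  obtain ⟨e1, he1⟩ : hE1.primeIdealOf ⟨e, heE⟩ ∈ Set.range (Spec.map μ) := by
    have : Set.range (Spec.map μ) = (PrimeSpectrum.basicOpen g : Set (PrimeSpectrum Γ(E.left, E1))) :=
      PrimeSpectrum.localization_away_comap_range _ g
    rw [this]
    exact hg
  refine ⟨X1', E1', A, j, ι, l, γ, e1, hw', inferInstanceAs (IsOpenImmersion hX1.fromSpec),
    inferInstanceAs (IsOpenImmersion (Spec.map μ ≫ hE1.fromSpec)), ?_, ?_, smooth_affineSpace κ S, ?_⟩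
  · change (Spec.map μ ≫ hE1.fromSpec) e1 = e
    rw [Scheme.Hom.comp_apply, he1]
    exact hE1.fromSpec_primeIdealOf ⟨e, heE⟩
  · ext
    change (Spec.map μ ≫ Spec.map τ) ≫ hX1.fromSpec = (Spec.map μ ≫ hE1.fromSpec) ≫ t.left
    rw [Category.assoc, hτ, Category.assoc]
  · have h1 : Etale (AffineSpace.homOfVector (Spec.map (σ ≫ μ)) (fun k => (Scheme.ΓSpecIso B').inv ((τ ≫ μ) (v k)))) :=
      etale_homOfVector (σ ≫ μ) _ he
    have h2 : Etale (AffineSpace.map κ hT1.fromSpec) :=
      MorphismProperty.of_isPullback (P := @Etale) (AffineSpace.isPullback_map hT1.fromSpec).flip inferInstance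
    let φ := (AffineSpace.isPullback_map (n := κ) T.hom).flip.isoPullback
    have hφ1 : φ.hom ≫ pullback.fst T.hom A.hom = 𝔸(κ; T.left) ↘ T.left := IsPullback.isoPullback_hom_fst _
    have hφ2 : φ.hom ≫ pullback.snd T.hom A.hom = AffineSpace.map κ T.hom := IsPullback.isoPullback_hom_snd _
    have h3 : pullback.lift (ι ≫ s).left (l ≫ γ).left hw' =
        AffineSpace.homOfVector (Spec.map (σ ≫ μ)) (fun k => (Scheme.ΓSpecIso B').inv ((τ ≫ μ) (v k))) ≫
          AffineSpace.map κ hT1.fromSpec ≫ φ.hom := by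
      apply pullback.hom_ext
      · rw [pullback.lift_fst, Category.assoc, Category.assoc, hφ1, AffineSpace.map_over,
          AffineSpace.homOfVector_over_assoc]
        change (Spec.map μ ≫ hE1.fromSpec) ≫ s.left = _
        rw [Spec.map_comp, Category.assoc, Category.assoc, hσ]
      · rw [pullback.lift_snd, Category.assoc, Category.assoc, hφ2]
        refine AffineSpace.hom_ext ?_ ?_
        · rw [Category.assoc, Category.assoc, AffineSpace.map_over, AffineSpace.map_over_assoc,
            AffineSpace.homOfVector_over_assoc, Spec.map_comp, Category.assoc, ← Category.assoc (Spec.map σ), hσ,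
            Category.assoc, Over.w s]
          exact Over.w (l ≫ γ)
        · intro i
          simp only [TopologicalSpace.Opens.map_top, Scheme.Hom.comp_app, CommRingCat.comp_apply]
          rw [AffineSpace.map_appTop_coord, AffineSpace.map_appTop_coord, AffineSpace.homOfVector_appTop_coord]
          have h5 : (l ≫ γ).left.appTop (AffineSpace.coord S i) =
              l.left.appTop ((Scheme.ΓSpecIso Γ(X.left, X1)).inv (v i)) := by
            have h6 : (l ≫ γ).left.appTop (AffineSpace.coord S i) = l.left.appTop (γ.left.appTop (AffineSpace.coord S i)) := by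
              rw [Over.comp_left]
              simp
            rw [h6]
            congr 1
            exact AffineSpace.homOfVector_appTop_coord _ _ _
          refine h5.trans ?_
          have h7 : l.left = Spec.map (τ ≫ μ) := by
            rw [Spec.map_comp]
            rfl
          rw [h7]
          have h8 := Scheme.ΓSpecIso_inv_naturality (τ ≫ μ)
          exact (congrArg (fun k => k.hom (v i)) h8).symm
    rw [h3]
    infer_instance

end K747.EtCoord
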