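import Groth.Agent.Lefpen.H708.EtaleCoord
import Mathlib.RingTheory.Smooth.StandardSmoothOfFree

/-!
# Étale coordinates chosen from a family generating the differentials
-/

set_option autoImplicit false
set_option backward.isDefEq.respectTransparency.types false
universe u

namespace K747.EtCoord

open TensorProduct KaehlerDifferential

/-- If `R → S` is smooth and the `D (t i)` generate `Ω[S/R]`, then near every prime `p` some of them form a basis. -/
theorem exists_away_basis (R S : Type u) [CommRing R] [CommRing S] [Algebra R S] [Algebra.Smooth R S] {ι : Type u}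
    (t : ι → S) (ht : Submodule.span S (Set.range fun i => D R S (t i)) = ⊤) (p : Ideal S) [p.IsPrime] :
    ∃ (κ : Type u) (_ : Finite κ) (a : κ → ι) (g : S) (_ : g ∉ p)
      (b : Module.Basis κ (Localization.Away g) Ω[Localization.Away g⁄R]),
      ∀ i, b i = D R (Localization.Away g) (algebraMap S (Localization.Away g) (t (a i))) := by
  have hspan : Submodule.span (Localization.AtPrime p)
      (Set.range fun i => D R (Localization.AtPrime p) (algebraMap S (Localization.AtPrime p) (t i))) = ⊤ := by
    have h1 := span_eq_top_of_isLocalizedModule (Localization.AtPrime p) p.primeCompl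
      (map R R S (Localization.AtPrime p)) (v := Set.range (fun i => D R S (t i))) ht
    rw [← Set.range_comp] at h1
    have h2 : (fun i => D R (Localization.AtPrime p) (algebraMap S (Localization.AtPrime p) (t i))) =
        (map R R S (Localization.AtPrime p)) ∘ (fun i => D R S (t i)) := by
      funext i
      simp
    rw [h2]
    exact h1
  obtain ⟨κ, a, b, hb⟩ := Module.exists_basis_of_span_of_flat _ hspan
  let e : (κ →₀ S) →ₗ[S] Ω[S⁄R] :=
    Finsupp.linearCombination S fun i : κ ↦ D R S (t (a i))
  let l₁ : (κ →₀ S) →ₗ[S] (κ →₀ Localization.AtPrime p) :=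
    Finsupp.mapRange.linearMap (Algebra.linearMap S (Localization.AtPrime p))
  let l₂ : Ω[S⁄R] →ₗ[S] Ω[Localization.AtPrime p⁄R] := map R R S (Localization.AtPrime p)
  let eₚ : (κ →₀ Localization.AtPrime p) →ₗ[Localization.AtPrime p] Ω[Localization.AtPrime p⁄R] :=
    IsLocalizedModule.mapExtendScalars p.primeCompl l₁ l₂ (Localization.AtPrime p) e
  have : eₚ = b.repr.symm := by
    ext i
    trans IsLocalizedModule.map p.primeCompl l₁ l₂ e <| l₁ <| Finsupp.single i 1
    · simp [eₚ, -IsLocalizedModule.map_apply, l₁]
    · simp [l₂, e, hb]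
  have heₚ : Function.Bijective eₚ := this ▸ b.repr.symm.bijective
  have : Finite κ := Module.Finite.finite_basis b
  obtain ⟨g, hg, h⟩ := Module.FinitePresentation.exists_notMem_bijective e p l₁ l₂ heₚ
  let l₁ₜ : (κ →₀ S) →ₗ[S] (κ →₀ Localization.Away g) :=
    Finsupp.mapRange.linearMap (Algebra.linearMap S _)
  let l₂ₜ : Ω[S⁄R] →ₗ[S] Ω[Localization.Away g⁄R] :=
    map R R S (Localization.Away g)
  rw [← IsLocalizedModule.map_bijective_iff_localizedModuleMap_bijective l₁ₜ l₂ₜ] at h
  let eₜ' : (κ →₀ Localization.Away g) →ₗ[Localization.Away g] Ω[Localization.Away g⁄R] :=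
    IsLocalizedModule.mapExtendScalars (Submonoid.powers g) l₁ₜ l₂ₜ (Localization.Away g) e
  refine ⟨κ, inferInstance, a, g, hg, .ofRepr (LinearEquiv.ofBijective eₜ' h).symm, fun i => ?_⟩
  simp +zetaDelta [IsLocalizedModule.map_linearCombination]

/-- étale coordinates near a prime chosen from a family generating the differentials -/
theorem exists_etale (R S : Type u) [CommRing R] [CommRing S] [Algebra R S] [Algebra.Smooth R S] {ι : Type u}
    (t : ι → S) (ht : Submodule.span S (Set.range fun i => D R S (t i)) = ⊤) (p : Ideal S) [p.IsPrime] :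
    ∃ (κ : Type u) (_ : Finite κ) (a : κ → ι) (g : S) (_ : g ∉ p),
      ((MvPolynomial.aeval fun i => algebraMap S (Localization.Away g) (t (a i)) :
        MvPolynomial κ R →ₐ[R] Localization.Away g) : MvPolynomial κ R →+* Localization.Away g).Etale := by
  obtain ⟨κ, hκ, a, g, hg, b, hb⟩ := exists_away_basis R S t ht p
  have : Algebra.Smooth S (Localization.Away g) :=
    have := Algebra.Etale.of_isLocalizationAway (A := Localization.Away g) g
    inferInstance
  have : Algebra.Smooth R (Localization.Away g) := Algebra.Smooth.comp R S _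
  exact ⟨κ, hκ, a, g, hg, Groth.Agent.Lefpen.H708.EtaleCoord.etale_of_basis R (Localization.Away g) _ b hb⟩

/-- the differentials of a second factor generate when the combined map is formally unramified -/
theorem span_eq_top {L R D' S : Type u} [CommRing L] [CommRing R] [CommRing D'] [CommRing S]
    [Algebra L R] [Algebra L D'] [Algebra R S] [Algebra D' S] [Algebra L S] [IsScalarTower L R S] [IsScalarTower L D' S]
    (h : (Algebra.TensorProduct.lift (IsScalarTower.toAlgHom L R S) (IsScalarTower.toAlgHom L D' S)
      (fun _ _ => Commute.all _ _) : R ⊗[L] D' →ₐ[L] S).toRingHom.FormallyUnramified) :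
    Submodule.span S (Set.range fun x : D' => D R S (algebraMap D' S x)) = ⊤ := by
  let φ : R ⊗[L] D' →ₐ[L] S := Algebra.TensorProduct.lift (IsScalarTower.toAlgHom L R S)
    (IsScalarTower.toAlgHom L D' S) (fun _ _ => Commute.all _ _)
  letI : Algebra (R ⊗[L] D') S := φ.toRingHom.toAlgebra
  have hφ : ∀ r x, algebraMap (R ⊗[L] D') S (r ⊗ₜ x) = algebraMap R S r * algebraMap D' S x := fun r x => by
    change φ (r ⊗ₜ x) = _
    simp [φ]
  haveI : IsScalarTower R (R ⊗[L] D') S := .of_algebraMap_eq fun r => by
    rw [Algebra.TensorProduct.algebraMap_apply, hφ, map_one, mul_one]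
    rfl
  have hun : Algebra.FormallyUnramified (R ⊗[L] D') S := h
  have hsub : Subsingleton Ω[S⁄(R ⊗[L] D')] := inferInstance
  let N : Submodule S Ω[S⁄R] := Submodule.span S (Set.range fun x : D' => D R S (algebraMap D' S x))
  have h1 : ∀ y : R ⊗[L] D', D R S (algebraMap (R ⊗[L] D') S y) ∈ N := by
    intro y
    induction y using TensorProduct.induction_on with
    | zero => simp
    | tmul r x =>
      rw [hφ, Derivation.leibniz, Derivation.map_algebraMap, smul_zero, add_zero]
      exact N.smul_mem _ (Submodule.subset_span ⟨x, rfl⟩)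
    | add a b ha hb =>
      rw [map_add, map_add]
      exact N.add_mem ha hb
  have h2 : ∀ ω : S ⊗[R ⊗[L] D'] Ω[(R ⊗[L] D')⁄R], mapBaseChange R (R ⊗[L] D') S ω ∈ N := by
    intro ω
    induction ω using TensorProduct.induction_on with
    | zero => simp
    | tmul s η =>
      have h3 : η ∈ Submodule.span (R ⊗[L] D') (Set.range (D R (R ⊗[L] D'))) := by
        rw [span_range_derivation]
        trivial
      rw [mapBaseChange_tmul]
      refine N.smul_mem _ ?_
      induction h3 using Submodule.span_induction with
      | mem x hx =>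
        obtain ⟨y, rfl⟩ := hx
        rw [map_D]
        exact h1 y
      | zero => simp
      | add x y _ _ hx hy =>
        rw [map_add]
        exact N.add_mem hx hy
      | smul a x _ hx =>
        rw [LinearMap.map_smul_of_tower, ← algebraMap_smul S a]
        exact N.smul_mem _ hx
    | add a b ha hb =>
      rw [map_add]
      exact N.add_mem ha hb
  rw [eq_top_iff]
  intro ω _
  obtain ⟨η, hη⟩ := (exact_mapBaseChange_map R (R ⊗[L] D') S ω).1 (Subsingleton.elim _ _)
  rw [← hη]
  exact h2 η

end K747.EtCoord
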