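import Groth.Agent.AlgSt.K747.FBase
import Groth.Agent.AlgSt.K747.PreOfIso
import Groth.Agent.AlgSt.K747.Cover
import Groth.Agent.AlgSp.K595.DescInst

set_option autoImplicit false
set_option linter.unusedVariables false
set_option backward.isDefEq.respectTransparency false
set_option backward.isDefEq.respectTransparency.types false

universe w v₂ u₂ v u

open CategoryTheory Opposite AlgebraicGeometry Limits K747.Sc K747.DD

namespace K747.EtFppf

variable {S : Scheme.{u}} {𝒳 : BasedCategory.{u, w} (Over S)}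
variable {T : Over S} {R : Sieve T} {D : Stk.sieveCat R ⥤ᵇ 𝒳} {U : Over S} {z : FibCat.overCat U ⥤ᵇ 𝒳}

/-- the bootstrap statement S10104 -/
def Boot2 (S : Scheme.{u}) : Prop :=
  ∀ (F : AlgSp.Sp S) (U : AlgSp.Space S) (p : U.obj ⟶ F),
    AlgSp.RepBySpWith (AlgSp.IsSurjectiveMor ⊓ AlgSp.LocP @Flat ⊓ AlgSp.LocP @LocallyOfFinitePresentation) p.hom →
      AlgSp.IsAlgSpace F

/-- the presheaf `F_D` in the universe of algebraic spaces -/
noncomputable abbrev FP (h𝒳 : FibCat.IsFibGrpd 𝒳.p) (D : Stk.sieveCat R ⥤ᵇ 𝒳) (z : FibCat.overCat U ⥤ᵇ 𝒳) : AlgSp.PSp S :=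
  fpsh.{u + 1} h𝒳 D z

theorem isSheaf_FP (hp : Stk.IsPrestack (AlgSp.J S) 𝒳) : Presheaf.IsSheaf (AlgSp.J S) (FP hp.1 D z) := by
  rw [isSheaf_iff_isSheaf_of_type]
  intro V Q hQ
  exact isSheafFor_fpsh.{u + 1} hp Q hQ (K747.Top.isSheafFor_yoneda Scheme.fppfPrecoverage T V Q hQ)
    (K747.Top.isSheafFor_yoneda Scheme.fppfPrecoverage U V Q hQ)

variable (h𝒳 : FibCat.IsFibGrpd 𝒳.p)

variable (D z) in
/-- the structure map of `F_D` -/
noncomputable def prF : FP h𝒳 D z ⟶ (AlgSp.pyon S).obj T where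
  app V := ↾fun s => ⟨s.down.t⟩
  naturality V V' g := by
    ext s
    exact congrArg ULift.up (fRes_fres h𝒳 g.unop s.down).ht.symm

section

variable {V' : Over S} {v : V' ⟶ T} {x : FibCat.overCat V' ⥤ᵇ 𝒳} (c : Coc D v (x.obj (Over.mk (𝟙 V'))))

/-- the map from the fibre product of the effective restriction -/
noncomputable def phiMap : P h𝒳 x z ⟶ FP h𝒳 D z where
  app V := ↾fun s => ⟨phi h𝒳 c s.down⟩
  naturality V V' g := by
    ext s
    refine Eq.symm ((fpsh_map_eq_iff.{u + 1} h𝒳).2 ?_)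
    exact phi_res h𝒳 c (isRes_res h𝒳 g.unop s.down)

theorem isPullback_phi (hp : Stk.IsPrestack (AlgSp.J S) 𝒳) (hR : R ∈ AlgSp.J S T) :
    IsPullback (phiMap hp.1 c) (prT hp.1 x z) (prF D z hp.1) ((AlgSp.pyon S).map v) := by
  refine K739.Diag.isPullback_psh _ _ _ _ ?_ ?_ ?_
  · intro V s
    rfl
  · intro V s s' h1 h2
    apply ULift.ext
    exact phi_inj hp.1 c hp hR (congrArg ULift.down h2) (congrArg ULift.down h1)
  · intro V f r h
    obtain ⟨s, hs1, hs2⟩ := phi_surj c hp hR r.down f.down (congrArg ULift.down h).symm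
    exact ⟨⟨s⟩, ULift.ext _ _ hs2, ULift.ext _ _ hs1⟩

end

theorem locP_map_of {P : MorphismProperty Scheme.{u}} [P.IsStableUnderBaseChange]
    (hpre : ∀ ⦃A B C : Scheme.{u}⦄ (e : A ⟶ B) (f : B ⟶ C), Etale e → P f → P (e ≫ f)) {V W : Over S} (g : V ⟶ W)
    (hg : P g.left) : AlgSp.LocP P ((AlgSp.yon S).map g) :=
  K597.locP_of_repWith hpre ((AlgSp.repWith_yon_map_iff P g).2 hg)

theorem locP_bc' {P : MorphismProperty Scheme.{u}} [P.IsStableUnderBaseChange]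
    (hpre : ∀ ⦃A B C : Scheme.{u}⦄ (e : A ⟶ B) (f : B ⟶ C), Etale e → P f → P (e ≫ f)) {F G F' G' : AlgSp.Sp S}
    {f : F ⟶ G} {g : G' ⟶ G} {g' : F' ⟶ F} {f' : F' ⟶ G'} (sq : IsPullback g' f' f g) (hf : AlgSp.RepWith P f) :
    AlgSp.LocP P f' := K597.locP_of_repWith hpre (K597.repWith_bc P sq hf)

/-- if `D` becomes effective over a flat surjective scheme then `F_D` is an algebraic space -/
theorem isAlgSpace_F (hb : Boot2 S) (hp : Stk.IsPrestack (AlgSp.J S) 𝒳) (hR : R ∈ AlgSp.J S T)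
    {V' : Over S} {v : V' ⟶ T} [Flat v.left] [LocallyOfFinitePresentation v.left] [Surjective v.left]
    {x : FibCat.overCat V' ⥤ᵇ 𝒳} (c : Coc D v (x.obj (Over.mk (𝟙 V')))) (hz : AlgSt.RepByAlgSp1 z) :
    AlgSp.IsAlgSpace (⟨FP hp.1 D z, isSheaf_FP hp⟩ : AlgSp.Sp S) := by
  obtain ⟨h1, hA1⟩ := (Rep.repByAlgSp_iff (toFp_isEquivOver.{u + 1} hp.1 x z)).1 (hz V' x)
  have sq := isPullback_phi c hp hR (z := z)
  let Fs : AlgSp.Sp S := ⟨FP hp.1 D z, isSheaf_FP hp⟩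
  let Ps : AlgSp.Sp S := ⟨P hp.1 x z, h1⟩
  have sq' : IsPullback (ObjectProperty.homMk (phiMap hp.1 c) : Ps ⟶ Fs)
      (ObjectProperty.homMk (prT hp.1 x z) : Ps ⟶ (AlgSp.yon S).obj V')
      (ObjectProperty.homMk (prF D z hp.1) : Fs ⟶ (AlgSp.yon S).obj T) ((AlgSp.yon S).map v) :=
    IsPullback.of_map_of_faithful (sheafToPresheaf (AlgSp.J S) (Type (u + 1))) sq
  have hfl := (AlgSp.repWith_yon_map_iff @Flat v).2 inferInstance
  have hlfp := (AlgSp.repWith_yon_map_iff @LocallyOfFinitePresentation v).2 inferInstance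
  have hsurj := (AlgSp.repWith_yon_map_iff @Surjective v).2 inferInstance
  have g1 : AlgSp.RepWith @Flat (ObjectProperty.homMk (phiMap hp.1 c) : Ps ⟶ Fs) := K597.repWith_bc' _ sq' hfl
  have g2 : AlgSp.RepWith @LocallyOfFinitePresentation (ObjectProperty.homMk (phiMap hp.1 c) : Ps ⟶ Fs) :=
    K597.repWith_bc' _ sq' hlfp
  have g3 : AlgSp.RepWith @Surjective (ObjectProperty.homMk (phiMap hp.1 c) : Ps ⟶ Fs) := K597.repWith_bc' _ sq' hsurj
  refine hb Fs ⟨Ps, hA1⟩ (ObjectProperty.homMk (phiMap hp.1 c)) ?_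
  rw [AlgSp.repBySpWith_hom_iff]
  intro W ξ F' fst snd sq2
  refine ⟨?_, ⟨?_, ?_⟩, ?_⟩
  · obtain ⟨W', s, t, sq3⟩ := g1.1 ξ
    exact (AlgSp.IsAlgSpace.yon_obj W').of_iso (sq3.isoIsPullback _ _ sq2)
  · exact K609.Points.surjective_map_of_repWith_surjective (K597.repWith_bc _ sq2 g3)
  · exact locP_bc' (fun A B C e f he hf => by
      have := he; have := hf; exact (inferInstance : Flat (e ≫ f))) sq2 g1
  · exact locP_bc' (fun A B C e f he hf => by
      have := he; have := hf; exact (inferInstance : LocallyOfFinitePresentation (e ≫ f))) sq2 g2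

end K747.EtFppf
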