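import Groth.Agent.AlgSt.K747.FSec

set_option autoImplicit false
set_option linter.unusedVariables false
set_option backward.isDefEq.respectTransparency false
set_option backward.isDefEq.respectTransparency.types false

universe w v₃ u₃ v₂ u₂ v u

open CategoryTheory Functor K751.FG K751.Test K747.Sc Opposite

namespace K747.DD

variable {C : Type u} [Category.{v} C] {𝒳 : BasedCategory.{v₂, u₂} C} {T : C} {R : Sieve T}
variable {D : Stk.sieveCat R ⥤ᵇ 𝒳} {U : C} {z : FibCat.overCat U ⥤ᵇ 𝒳}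

/-- an effective descent datum for the restriction of `D` along `v` is a cocone -/
def ofEffPull {W : C} (t : W ⟶ T) (E : Eff (BasedFunctor.comp (toPull t) D)) : Coc D t E.pt where
  hy := E.pt_obj
  ι {V} g a e ha := D.map (sh (g ≫ t) (by rw [e]; exact ha) a ha (𝟙 V) (by rw [Category.id_comp, e])) ≫
    E.ι (so (R.pullback t) g (show R (g ≫ t) by rw [e]; exact ha))
  lift {V} g a e ha := by
    have h1 : 𝒳.p.IsHomLift g (E.ι (so (R.pullback t) g (show R (g ≫ t) by rw [e]; exact ha))) :=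
      E.lift (so (R.pullback t) g (show R (g ≫ t) by rw [e]; exact ha))
    have h2 := sh_lift D (a := g ≫ t) (ha := by rw [e]; exact ha) (a' := a) (ha' := ha) (h := 𝟙 V)
      (w := by rw [Category.id_comp, e])
    exact IsHomLift.comp_lift_id_left 𝒳.p _ _ _
  nat {V V'} h g a e ha g' a' e' ha' w w' := by
    have hR1 : R (g ≫ t) := by rw [e]; exact ha
    have hR2 : R (g' ≫ t) := by rw [e']; exact ha'
    have h1 := E.nat (sh (R := R.pullback t) g hR1 g' hR2 h w')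
    have h2 : (BasedFunctor.comp (toPull t) D).map (sh (R := R.pullback t) g hR1 g' hR2 h w') =
      D.map (sh (g ≫ t) hR1 (g' ≫ t) hR2 h (by rw [← w', Category.assoc])) := rfl
    rw [h2] at h1
    have w2 : h ≫ g ≫ t = a' := by rw [e, w]
    have key1 : D.map (sh a ha a' ha' h w) ≫ D.map (sh (g ≫ t) hR1 a ha (𝟙 V) (by rw [Category.id_comp, e])) =
      D.map (sh (g ≫ t) hR1 a' ha' h w2) := map_sh_comp D (Category.comp_id h)
    have key2 : D.map (sh (g' ≫ t) hR2 a' ha' (𝟙 V') (by rw [Category.id_comp, e'])) ≫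
      D.map (sh (g ≫ t) hR1 (g' ≫ t) hR2 h (by rw [← w', Category.assoc])) =
      D.map (sh (g ≫ t) hR1 a' ha' h w2) := map_sh_comp D (Category.id_comp h)
    refine (Category.assoc _ _ _).symm.trans ?_
    rw [key1]
    refine Eq.symm ?_
    rw [← h1]
    refine (Category.assoc _ _ _).symm.trans ?_
    rw [key2]

section

variable {V' : C} {v : V' ⟶ T} {x : FibCat.overCat V' ⥤ᵇ 𝒳} (h𝒳 : FibCat.IsFibGrpd 𝒳.p)
  (c : Coc D v (x.obj (Over.mk (𝟙 V'))))

/-- restriction of the cocone along `r` -/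
noncomputable def rst {W : C} (r : W ⟶ V') : Coc D (r ≫ v) (x.obj (Over.mk r)) :=
  (c.exists_restr h𝒳 r (r ≫ v) rfl (x.map (om r (𝟙 V') r (Category.comp_id r))) (om_lift x r (𝟙 V') r _)).choose

theorem rst_ι {W : C} (r : W ⟶ V') {V : C} (g : V ⟶ W) (a : V ⟶ T) (e : g ≫ r ≫ v = a) (ha : R a)
    (g₁ : V ⟶ V') (hg : g ≫ r = g₁) (e₁ : g₁ ≫ v = a) :
    (rst h𝒳 c r).ι g a e ha ≫ x.map (om r (𝟙 V') r (Category.comp_id r)) = c.ι g₁ a e₁ ha :=
  (c.exists_restr h𝒳 r (r ≫ v) rfl (x.map (om r (𝟙 V') r (Category.comp_id r))) (om_lift x r (𝟙 V') r _)).choose_spec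
    g a e ha g₁ hg e₁

theorem rst_comp {W W' : C} (r : W ⟶ V') (k : W' ⟶ W) (r' : W' ⟶ V') (hr : k ≫ r = r') {V : C} (g : V ⟶ W') (a : V ⟶ T)
    (e : g ≫ r' ≫ v = a) (ha : R a) (e' : (g ≫ k) ≫ r ≫ v = a) :
    (rst h𝒳 c r').ι g a e ha ≫ x.map (om k r r' hr) = (rst h𝒳 c r).ι (g ≫ k) a e' ha := by
  have h1 := (rst h𝒳 c r').lift g a e ha
  have h2 := (rst h𝒳 c r).lift (g ≫ k) a e' ha
  have h3 := om_lift x k r r' hr
  refine cancel' h𝒳 (g ≫ k) (x.map (om r (𝟙 V') r (Category.comp_id r))) (IsHomLift.comp 𝒳.p _ _ _ _) h2 ?_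
  rw [Category.assoc, map_om_comp]
  have e1 : (g ≫ r') ≫ v = a := by rw [Category.assoc, e]
  rw [rst_ι h𝒳 c r (g ≫ k) a e' ha (g ≫ r') (by rw [Category.assoc, hr]) e1]
  have h4 := rst_ι h𝒳 c r' g a e ha (g ≫ r') rfl e1
  rw [← h4]
  congr 2
  exact Over.OverMorphism.ext hr

/-- the map on sections -/
noncomputable def phi {W : C} (s : Sec x z W) : FSec D z W where
  t := s.t ≫ v
  u := s.u
  c :=
    { hy := p_obj z s.u
      ι := fun {V} g a e ha => (rst h𝒳 c s.t).ι g a e ha ≫ s.φ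
      lift := fun {V} g a e ha => by
        have h1 := (rst h𝒳 c s.t).lift g a e ha
        have h2 := s.over
        exact IsHomLift.comp_lift_id_right 𝒳.p _ _ _
      nat := fun {V V''} h g a e ha g' a' e' ha' w w' => by
        rw [← Category.assoc, (rst h𝒳 c s.t).nat h g a e ha g' a' e' ha' w w'] }

theorem phi_res {W W' : C} {k : W' ⟶ W} {s : Sec x z W} {s' : Sec x z W'} (h : IsRes k s s') :
    FRes k (phi h𝒳 c s) (phi h𝒳 c s') := by
  refine ⟨?_, h.hu, ?_⟩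
  · change k ≫ s.t ≫ v = s'.t ≫ v
    rw [← Category.assoc, h.ht]
  · intro V g a e ha e'
    change ((rst h𝒳 c s'.t).ι g a e ha ≫ s'.φ) ≫ z.map _ = (rst h𝒳 c s.t).ι (g ≫ k) a e' ha ≫ s.φ
    rw [Category.assoc, h.hφ, ← Category.assoc, rst_comp h𝒳 c s.t k s'.t h.ht g a e ha e']

theorem phi_inj {J : GrothendieckTopology C} (hp : Stk.IsPrestack J 𝒳) (hR : R ∈ J T) {W : C} {s s' : Sec x z W}
    (ht : s.t = s'.t) (h : phi h𝒳 c s = phi h𝒳 c s') : s = s' := by
  obtain ⟨t, u, φ, o⟩ := s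
  obtain ⟨t', u', φ', o'⟩ := s'
  dsimp only at ht
  subst ht
  have hu : u = u' := congrArg FSec.u h
  subst hu
  have key : φ = φ' := ?_
  · subst key; rfl
  refine (rst h𝒳 c t).hom_ext hp hR (𝟙 W) o o' ?_
  intro V g a e ha
  have h1 : (phi h𝒳 c (⟨t, u, φ, o⟩ : Sec x z W)).c = (phi h𝒳 c (⟨t, u, φ', o'⟩ : Sec x z W)).c := by
    injection h
  exact congrArg (fun c => Coc.ι c g a e ha) h1

theorem phi_surj {J : GrothendieckTopology C} (hp : Stk.IsPrestack J 𝒳) (hR : R ∈ J T) {W : C} (r : W ⟶ V')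
    (f : FSec D z W) (hf : r ≫ v = f.t) : ∃ s : Sec x z W, s.t = r ∧ phi hp.1 c s = f := by
  obtain ⟨t, u, cf⟩ := f
  dsimp only at hf
  subst hf
  obtain ⟨ψ, ⟨h1, h2⟩, -⟩ := (rst hp.1 c r).existsUnique_desc hp hR (𝟙 W) cf.hy (fun g a e ha => cf.ι g a e ha)
    (fun g a e ha => isHomLift_congr (cf.lift g a e ha) (Category.comp_id g).symm)
    (fun h g a e ha g' a' e' ha' w w' => cf.nat h g a e ha g' a' e' ha' w w')
  refine ⟨⟨r, u, ψ, h1⟩, rfl, ?_⟩
  have : (phi hp.1 c (⟨r, u, ψ, h1⟩ : Sec x z W)).c = cf := Coc.ext' fun g a e ha => h2 g a e ha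
  change (⟨r ≫ v, u, (phi hp.1 c (⟨r, u, ψ, h1⟩ : Sec x z W)).c⟩ : FSec D z W) = _
  rw [this]

end

end K747.DD
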