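import Groth.Agent.AlgSt.K747.IsoPsh

set_option autoImplicit false
set_option backward.isDefEq.respectTransparency false
set_option backward.isDefEq.respectTransparency.types false
universe w v₃ u₃ v₂ u₂ v u

open CategoryTheory Opposite K734.Fib

namespace K747.Sc

variable {C : Type u} [Category.{v} C] {𝒳 : BasedCategory.{v₂, u₂} C}
variable {T : C} {x x' : FibCat.overCat T ⥤ᵇ 𝒳}

theorem map_om_id (x : FibCat.overCat T ⥤ᵇ 𝒳) {V : C} {t : V ⟶ T} (h : 𝟙 V ≫ t = t) : x.map (om (𝟙 V) t t h) = 𝟙 _ :=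
  (congrArg (fun k => x.map k) (Over.OverMorphism.ext rfl)).trans (x.map_id _)

theorem map_om_comp (x : FibCat.overCat T ⥤ᵇ 𝒳) {V V' V'' : C} {g : V' ⟶ V} {g' : V'' ⟶ V'} {t : V ⟶ T} {t' : V' ⟶ T} {t'' : V'' ⟶ T}
    (h : g ≫ t = t') (h' : g' ≫ t' = t'') :
    x.map (om g' t' t'' h') ≫ x.map (om g t t' h) = x.map (om (g' ≫ g) t t'' (by rw [Category.assoc, h, h'])) := by
  rw [← x.map_comp]
  exact congrArg (fun k => x.map k) (Over.OverMorphism.ext rfl)

/-- the morphism `x(t) ⟶ x'(t)` of a section whose two components are `t` -/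
def Sec.tr {V : C} (s : Sec x x' V) (t : V ⟶ T) (h : t = s.t) (h' : s.u = t) :
    x.obj (Over.mk t) ⟶ x'.obj (Over.mk t) :=
  x.map (om (𝟙 V) s.t t (by simp [h])) ≫ s.φ ≫ x'.map (om (𝟙 V) t s.u (by simp [h']))

theorem Sec.tr_vert {V : C} (s : Sec x x' V) (t : V ⟶ T) (h : t = s.t) (h' : s.u = t) : IsVert 𝒳 (s.tr t h h') :=
  (om_vert _).comp (s.vert.comp (om_vert _))

theorem isRes_iff_tr {V V' : C} {g : V' ⟶ V} {s : Sec x x' V} {s' : Sec x x' V'} {t : V ⟶ T} (h : t = s.t) (h' : s.u = t)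
    {t' : V' ⟶ T} (k : t' = s'.t) (k' : s'.u = t') (ht : g ≫ t = t') :
    IsRes g s s' ↔ s'.tr t' k k' ≫ x'.map (om g t t' ht) = x.map (om g t t' ht) ≫ s.tr t h h' := by
  obtain ⟨t₁, u₁, φ₁, o₁⟩ := s
  obtain ⟨t₂, u₂, φ₂, o₂⟩ := s'
  dsimp only at h h' k k'
  subst h h' k k'
  subst ht
  have e1 : (⟨u₁, u₁, φ₁, o₁⟩ : Sec x x' V).tr u₁ rfl rfl = φ₁ := by
    dsimp only [Sec.tr]
    rw [map_om_id, map_om_id, Category.id_comp, Category.comp_id]
  have e2 : (⟨g ≫ u₁, g ≫ u₁, φ₂, o₂⟩ : Sec x x' V').tr (g ≫ u₁) rfl rfl = φ₂ := by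
    dsimp only [Sec.tr]
    rw [map_om_id, map_om_id, Category.id_comp, Category.comp_id]
  rw [e1, e2]
  exact ⟨fun hr => hr.hφ, fun e => ⟨rfl, rfl, e⟩⟩

/-- two sections with the same transported morphism are equal -/
theorem Sec.ext_tr {V : C} {s s' : Sec x x' V} {t : V ⟶ T} (h : t = s.t) (h' : s.u = t) (k : t = s'.t) (k' : s'.u = t)
    (e : s.tr t h h' = s'.tr t k k') (h𝒳 : FibCat.IsFibGrpd 𝒳.p) : s = s' := by
  have h1 : IsRes (𝟙 V) s s' := (isRes_iff_tr h h' k k' (Category.id_comp t)).2 (by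
    rw [map_om_id, map_om_id, Category.id_comp, Category.comp_id, e])
  exact (IsRes.id s).unique h𝒳 h1

/-- composition with a morphism of the base, as a functor of slices over `C` -/
def overMap {U V : C} (h : U ⟶ V) : FibCat.overCat U ⥤ᵇ FibCat.overCat V where
  toFunctor := Over.map h
  w := rfl

/-- restriction of an object over `T` along `t : V ⟶ T` -/
abbrev pre (x : FibCat.overCat T ⥤ᵇ 𝒳) {V : C} (t : V ⟶ T) : FibCat.overCat V ⥤ᵇ 𝒳 :=
  BasedFunctor.comp (overMap t) x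

theorem IsRes.of_comp {T' : C} {z : FibCat.overCat T' ⥤ᵇ 𝒳} (h𝒳 : FibCat.IsFibGrpd 𝒳.p) {V V' V'' : C} {g : V' ⟶ V}
    {g' : V'' ⟶ V'} {s : Sec x z V} {s' : Sec x z V'} {s'' : Sec x z V''} (h : IsRes (g' ≫ g) s s'') (h' : IsRes g s s') :
    IsRes g' s' s'' := by
  have := (h'.comp (isRes_res h𝒳 g' s')).unique h𝒳 h
  rw [← this]
  exact isRes_res h𝒳 g' s'

/-- the 2-morphism determined by a section -/
noncomputable def natOf (h𝒳 : FibCat.IsFibGrpd 𝒳.p) {V : C} (s : Sec x x' V) (t : V ⟶ T) (h : t = s.t) (h' : s.u = t) :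
    pre x t ⟶ pre x' t :=
  mkHom (fun a => (res h𝒳 a.hom s).tr (a.hom ≫ t) (by rw [h]; exact (isRes_res h𝒳 a.hom s).ht)
      (by rw [← h']; exact (isRes_res h𝒳 a.hom s).hu.symm))
    (fun a => Sec.tr_vert _ _ _ _) (fun {a b} k => by
      have hk : k.left ≫ b.hom = a.hom := Over.w k
      have h1 : IsRes k.left (res h𝒳 b.hom s) (res h𝒳 a.hom s) := by
        refine IsRes.of_comp h𝒳 ?_ (isRes_res h𝒳 b.hom s)
        have : ∀ (c : a.left ⟶ V), c = a.hom → IsRes c s (res h𝒳 a.hom s) := by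
          rintro c rfl
          exact isRes_res h𝒳 _ s
        exact this _ hk
      exact ((isRes_iff_tr _ _ _ _ (by rw [← Category.assoc]; exact congrArg (· ≫ t) hk)).1 h1).symm)

theorem natOf_app (h𝒳 : FibCat.IsFibGrpd 𝒳.p) {V : C} (s : Sec x x' V) (t : V ⟶ T) (h : t = s.t) (h' : s.u = t)
    {W : C} (f : W ⟶ V) (s' : Sec x x' W) (hs' : IsRes f s s') :
    (natOf h𝒳 s t h h').toNatTrans.app (Over.mk f) =
      s'.tr (f ≫ t) (by rw [h]; exact hs'.ht) (by rw [← h']; exact hs'.hu.symm) := by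
  have : res h𝒳 f s = s' := (res_eq_iff h𝒳).2 hs'
  subst this
  rfl

section

variable (h𝒳 : FibCat.IsFibGrpd 𝒳.p) {V : C} (R : Sieve V)

/-- the object of the sieve category of an arrow of the sieve -/
abbrev sobj {W : C} (f : W ⟶ V) (hf : R f) : (Stk.sieveCat R).obj := ⟨Over.mk f, hf⟩

/-- the morphism of the sieve category of a morphism of the base -/
abbrev shom {W W' : C} (f : W ⟶ V) (hf : R f) (g : W' ⟶ W) (f' : W' ⟶ V) (hf' : R f') (h : g ≫ f = f') :
    sobj R f' hf' ⟶ sobj R f hf := ObjectProperty.homMk (Over.homMk g h)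

/-- sections of the presheaf of isomorphisms glue along a sieve for which `𝒳` is a prestack -/
theorem isSheafFor_isoPsh (hR : Stk.IsPrestackFor R 𝒳) (hT : Presieve.IsSheafFor (yoneda.obj T) R.arrows) :
    Presieve.IsSheafFor (isoPsh.{w} h𝒳 x x') R.arrows := by
  have hfull := hR.1
  have hfaith := hR.2
  -- uniqueness of the amalgamation with given `t`
  have key : ∀ (t : V ⟶ T) (A B : pre x t ⟶ pre x' t),
      (∀ {W : C} (f : W ⟶ V), R f → A.toNatTrans.app (Over.mk f) = B.toNatTrans.app (Over.mk f)) → A = B := by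
    intro t A B h
    apply (Stk.resSieve R 𝒳).map_injective
    apply hom_ext₂
    rintro ⟨a, ha⟩
    exact h a.hom ha
  intro F hF
  rw [Presieve.compatible_iff_sieveCompatible] at hF
  have hres : ∀ {W W' : C} (f : W ⟶ V) (hf : R f) (g : W' ⟶ W), IsRes g (F f hf).1.down (F (g ≫ f) (R.downward_closed hf g)).1.down :=
    fun f hf g => (isoPsh_map_eq_iff h𝒳).1 (hF f g hf).symm
  -- the morphism to `T`
  let Ft : Presieve.FamilyOfElements (yoneda.obj T) R.arrows := fun W f hf => (F f hf).1.down.t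
  have hFt : Ft.Compatible := by
    rw [Presieve.compatible_iff_sieveCompatible]
    intro W W' f g hf
    exact (hres f hf g).ht.symm
  obtain ⟨t, ht, htu⟩ := hT Ft hFt
  have ht' : ∀ {W : C} (f : W ⟶ V) (hf : R f), f ≫ t = (F f hf).1.down.t := fun f hf => ht f hf
  -- the 2-morphism on the sieve
  let X1 : FibCat.overCat V ⥤ᵇ 𝒳 := pre x t
  let X2 : FibCat.overCat V ⥤ᵇ 𝒳 := pre x' t
  let cmpt : ∀ {W : C} (f : W ⟶ V) (_ : R f), X1.obj (Over.mk f) ⟶ X2.obj (Over.mk f) := fun f hf =>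
    (F f hf).1.down.tr (f ≫ t) (ht' f hf) ((F f hf).2.symm.trans (ht' f hf).symm)
  let α : (Stk.resSieve R 𝒳).obj X1 ⟶ (Stk.resSieve R 𝒳).obj X2 := mkHom (fun a => cmpt a.obj.hom a.property)
    (fun a => Sec.tr_vert _ _ _ _) (fun {a b} k => by
      have hk : k.hom.left ≫ b.obj.hom = a.obj.hom := Over.w k.hom
      have h1 := hres b.obj.hom b.property k.hom.left
      have h2 : ∀ (f' : a.obj.left ⟶ V) (hf' : R f') (hk' : k.hom.left ≫ b.obj.hom = f'),
          IsRes k.hom.left (F b.obj.hom b.property).1.down (F f' hf').1.down := by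
        intro f' hf' hk'
        subst hk'
        exact h1
      exact ((isRes_iff_tr (ht' _ b.property) ((F _ b.property).2.symm.trans (ht' _ b.property).symm)
        (ht' _ a.property) ((F _ a.property).2.symm.trans (ht' _ a.property).symm)
        (g := k.hom.left) (by rw [← Category.assoc]; exact congrArg (· ≫ t) hk)).1 (h2 _ a.property hk)).symm)
  obtain ⟨β, hβ⟩ := (Stk.resSieve R 𝒳).map_surjective α
  have hβ' : ∀ {W : C} (f : W ⟶ V) (hf : R f), β.toNatTrans.app (Over.mk f) = cmpt f hf := by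
    intro W f hf
    have := congrArg (fun k : (Stk.resSieve R 𝒳).obj X1 ⟶ (Stk.resSieve R 𝒳).obj X2 => k.toNatTrans.app (sobj R f hf)) hβ
    exact this
  -- existence
  let φ0 : x.obj (Over.mk t) ⟶ x'.obj (Over.mk t) :=
    x.map (om (𝟙 V) (𝟙 V ≫ t) t (by simp)) ≫ β.toNatTrans.app (Over.mk (𝟙 V)) ≫
      x'.map (om (𝟙 V) t (𝟙 V ≫ t) (by simp))
  have hφ0 : IsVert 𝒳 φ0 := (om_vert _).comp ((hom_vert β _).comp (om_vert _))
  let s0 : Sec x x' V := ⟨t, t, φ0, hφ0.lift (p_obj x t)⟩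
  have hs0 : ∀ {W : C} (f : W ⟶ V) (hf : R f), IsRes f s0 (F f hf).1.down := by
    intro W f hf
    refine (isRes_iff_tr (t := t) rfl rfl (ht' f hf) ((F f hf).2.symm.trans (ht' f hf).symm) rfl).2 ?_
    have e0 : s0.tr t rfl rfl = φ0 := by
      dsimp only [Sec.tr, s0]
      rw [map_om_id, map_om_id, Category.id_comp, Category.comp_id]
    rw [e0]
    have hn : x.map (om f (𝟙 V ≫ t) (f ≫ t) (by simp)) ≫ β.toNatTrans.app (Over.mk (𝟙 V)) =
        β.toNatTrans.app (Over.mk f) ≫ x'.map (om f (𝟙 V ≫ t) (f ≫ t) (by simp)) :=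
      β.toNatTrans.naturality (Over.homMk f : Over.mk f ⟶ Over.mk (𝟙 V))
    rw [hβ' f hf] at hn
    change cmpt f hf ≫ _ = _
    dsimp only [φ0]
    rw [← Category.assoc, map_om_comp]
    have e1 : x.map (om (f ≫ 𝟙 V) (𝟙 V ≫ t) (f ≫ t) (by simp)) = x.map (om f (𝟙 V ≫ t) (f ≫ t) (by simp)) :=
      congrArg (fun k => x.map k) (Over.OverMorphism.ext (Category.comp_id f))
    erw [e1]
    rw [← Category.assoc, hn, Category.assoc, map_om_comp]
    congr 2
    exact Over.OverMorphism.ext (Category.comp_id f).symm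
  refine ⟨⟨⟨s0⟩, rfl⟩, ?_, ?_⟩
  · intro W f hf
    exact (isoPsh_map_eq_iff h𝒳).2 (hs0 f hf)
  · intro s1 hs1
    have hr : ∀ {W : C} (f : W ⟶ V) (hf : R f), IsRes f s1.1.down (F f hf).1.down := fun f hf =>
      (isoPsh_map_eq_iff h𝒳).1 (hs1 f hf)
    have h1 : s1.1.down.t = t := htu _ (fun W f hf => (hr f hf).ht)
    have h2 : natOf h𝒳 s1.1.down t h1.symm (s1.2.symm.trans h1) = natOf h𝒳 s0 t rfl rfl := by
      refine key t _ _ ?_
      intro W f hf
      rw [natOf_app h𝒳 _ t _ _ f _ (hr f hf), natOf_app h𝒳 _ t _ _ f _ (hs0 f hf)]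
    have h3 : s1.1.down = s0 := by
      have h4 := congrArg (fun k => k.toNatTrans.app (Over.mk (𝟙 V))) h2
      dsimp only at h4
      rw [natOf_app h𝒳 _ t _ _ (𝟙 V) _ (IsRes.id _), natOf_app h𝒳 _ t _ _ (𝟙 V) _ (IsRes.id _)] at h4
      exact Sec.ext_tr (t := 𝟙 V ≫ t) _ _ _ _ h4 h𝒳
    exact Subtype.ext (ULift.ext _ _ h3)

end

end K747.Sc
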