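import Groth.Agent.AlgSt.K747.CocLoc
import Groth.Agent.AlgSt.K747.IsoSheaf

set_option autoImplicit false
set_option linter.unusedVariables false
set_option backward.isDefEq.respectTransparency false
set_option backward.isDefEq.respectTransparency.types false

universe w v₃ u₃ v₂ u₂ v u

open CategoryTheory Functor K751.FG K751.Test K747.Sc Opposite

namespace K747.DD

variable {C : Type u} [Category.{v} C] {𝒳 : BasedCategory.{v₂, u₂} C} {T : C} {R : Sieve T}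
variable (D : Stk.sieveCat R ⥤ᵇ 𝒳) {U : C} (z : FibCat.overCat U ⥤ᵇ 𝒳)

/-- a section over `V` of "the fibre product of the descent datum `D` with `z`" -/
structure FSec (V : C) where
  t : V ⟶ T
  u : V ⟶ U
  c : Coc D t (z.obj (Over.mk u))

variable {D z}

/-- restriction of sections -/
structure FRes {V V' : C} (k : V' ⟶ V) (s : FSec D z V) (s' : FSec D z V') : Prop where
  ht : k ≫ s.t = s'.t
  hu : k ≫ s.u = s'.u
  hc : ∀ {W : C} (g : W ⟶ V') (a : W ⟶ T) (e : g ≫ s'.t = a) (ha : R a) (e' : (g ≫ k) ≫ s.t = a),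
    s'.c.ι g a e ha ≫ z.map (om k s.u s'.u hu) = s.c.ι (g ≫ k) a e' ha

theorem FRes.id {V : C} (s : FSec D z V) : FRes (𝟙 V) s s := by
  refine ⟨Category.id_comp _, Category.id_comp _, ?_⟩
  intro W g a e ha e'
  rw [map_om_id, Category.comp_id]
  exact s.c.congr (Category.comp_id g).symm

theorem FRes.comp {V V' V'' : C} {k : V' ⟶ V} {k' : V'' ⟶ V'} {s : FSec D z V} {s' : FSec D z V'} {s'' : FSec D z V''}
    (h : FRes k s s') (h' : FRes k' s' s'') : FRes (k' ≫ k) s s'' := by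
  have ht2 : (k' ≫ k) ≫ s.t = s''.t := by rw [Category.assoc, h.ht, h'.ht]
  have hu2 : (k' ≫ k) ≫ s.u = s''.u := by rw [Category.assoc, h.hu, h'.hu]
  refine ⟨ht2, hu2, ?_⟩
  intro W g a e ha e'
  have e1 : (g ≫ k') ≫ s'.t = a := by rw [Category.assoc, h'.ht, e]
  have h1 := h'.hc g a e ha e1
  have h2 := h.hc (g ≫ k') a e1 ha (by rw [Category.assoc, Category.assoc, h.ht, h'.ht, e])
  rw [← map_om_comp z h.hu h'.hu, ← Category.assoc, h1, h2]
  exact s.c.congr (Category.assoc _ _ _)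

theorem exists_fRes (h𝒳 : FibCat.IsFibGrpd 𝒳.p) {V V' : C} (k : V' ⟶ V) (s : FSec D z V) : ∃ s', FRes k s s' := by
  obtain ⟨c', hc'⟩ := s.c.exists_restr h𝒳 k (k ≫ s.t) rfl (z.map (om k s.u (k ≫ s.u) rfl)) (om_lift z k s.u _ rfl)
  exact ⟨⟨k ≫ s.t, k ≫ s.u, c'⟩, rfl, rfl, fun g a e ha e' => hc' g a e ha _ rfl e'⟩

theorem FRes.unique (h𝒳 : FibCat.IsFibGrpd 𝒳.p) {V V' : C} {k : V' ⟶ V} {s : FSec D z V} {s₁ s₂ : FSec D z V'}
    (h₁ : FRes k s s₁) (h₂ : FRes k s s₂) : s₁ = s₂ := by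
  obtain ⟨t₁, u₁, c₁⟩ := s₁
  obtain ⟨t₂, u₂, c₂⟩ := s₂
  obtain ⟨ht₁, hu₁, hc₁⟩ := h₁
  obtain ⟨ht₂, hu₂, hc₂⟩ := h₂
  dsimp only at ht₁ ht₂ hu₁ hu₂ hc₁ hc₂
  subst ht₁ hu₁ ht₂ hu₂
  have : c₁ = c₂ := Coc.ext' fun {W} g a e ha =>
    cancel' h𝒳 g (z.map (om k s.u _ rfl)) (c₁.lift g a e ha) (c₂.lift g a e ha)
      ((hc₁ g a e ha (by rw [Category.assoc, e])).trans (hc₂ g a e ha (by rw [Category.assoc, e])).symm)
  subst this
  rfl

/-- the restriction -/
noncomputable def fres (h𝒳 : FibCat.IsFibGrpd 𝒳.p) {V V' : C} (k : V' ⟶ V) (s : FSec D z V) : FSec D z V' :=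
  (exists_fRes h𝒳 k s).choose

theorem fRes_fres (h𝒳 : FibCat.IsFibGrpd 𝒳.p) {V V' : C} (k : V' ⟶ V) (s : FSec D z V) : FRes k s (fres h𝒳 k s) :=
  (exists_fRes h𝒳 k s).choose_spec

theorem fres_eq_iff (h𝒳 : FibCat.IsFibGrpd 𝒳.p) {V V' : C} {k : V' ⟶ V} {s : FSec D z V} {s' : FSec D z V'} :
    fres h𝒳 k s = s' ↔ FRes k s s' :=
  ⟨fun h => h ▸ fRes_fres h𝒳 k s, fun h => (fRes_fres h𝒳 k s).unique h𝒳 h⟩

/-- the presheaf of sections -/
noncomputable def fpsh (h𝒳 : FibCat.IsFibGrpd 𝒳.p) (D : Stk.sieveCat R ⥤ᵇ 𝒳) (z : FibCat.overCat U ⥤ᵇ 𝒳) :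
    Cᵒᵖ ⥤ Type (max w u v v₂) where
  obj V := ULift.{w} (FSec D z V.unop)
  map g := ↾fun s => ⟨fres h𝒳 g.unop s.down⟩
  map_id V := by
    ext s
    exact (fres_eq_iff h𝒳).2 (FRes.id _)
  map_comp g g' := by
    ext s
    exact (fres_eq_iff h𝒳).2 ((fRes_fres h𝒳 g.unop s.down).comp (fRes_fres h𝒳 g'.unop _))

theorem fpsh_map_eq_iff (h𝒳 : FibCat.IsFibGrpd 𝒳.p) {V V' : Cᵒᵖ} {g : V ⟶ V'}
    {s : (fpsh.{w} h𝒳 D z).obj V} {s' : (fpsh.{w} h𝒳 D z).obj V'} :
    (fpsh.{w} h𝒳 D z).map g s = s' ↔ FRes g.unop s.down s'.down := by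
  rw [← fres_eq_iff h𝒳]
  constructor
  · intro h; exact congrArg ULift.down h
  · intro h; exact ULift.ext _ _ h

/-- `F_D` is a sheaf -/
theorem isSheafFor_fpsh {J : GrothendieckTopology C} (hp : Stk.IsPrestack J 𝒳) {V : C} (Q : Sieve V) (hQ : Q ∈ J V)
    (hT : Presieve.IsSheafFor (yoneda.obj T) Q.arrows) (hU : Presieve.IsSheafFor (yoneda.obj U) Q.arrows) :
    Presieve.IsSheafFor (fpsh.{w} hp.1 D z) Q.arrows := by
  intro F hF
  rw [Presieve.compatible_iff_sieveCompatible] at hF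
  have hres : ∀ {W W' : C} (f : W ⟶ V) (hf : Q f) (g : W' ⟶ W), FRes g (F f hf).down (F (g ≫ f) (Q.downward_closed hf g)).down :=
    fun f hf g => (fpsh_map_eq_iff hp.1).1 (hF f g hf).symm
  obtain ⟨t, ht, htu⟩ := hT (fun W f hf => (F f hf).down.t) (by
    rw [Presieve.compatible_iff_sieveCompatible]
    intro W W' f g hf
    exact (hres f hf g).ht.symm)
  obtain ⟨u, hu, huu⟩ := hU (fun W f hf => (F f hf).down.u) (by
    rw [Presieve.compatible_iff_sieveCompatible]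
    intro W W' f g hf
    exact (hres f hf g).hu.symm)
  have ht' : ∀ {W : C} (f : W ⟶ V) (hf : Q f), f ≫ t = (F f hf).down.t := fun f hf => ht f hf
  have hu' : ∀ {W : C} (f : W ⟶ V) (hf : Q f), f ≫ u = (F f hf).down.u := fun f hf => hu f hf
  let κ : ∀ (W : C) (q : W ⟶ V) (hq : Q q) (b : W ⟶ T) (eb : q ≫ t = b) (hb : R b), D.obj (so R b hb) ⟶ z.obj (Over.mk u) :=
    fun W q hq b eb hb => (F q hq).down.c.ι (𝟙 W) b (by rw [Category.id_comp, ← ht' q hq, eb]) hb ≫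
      z.map (om q u _ (hu' q hq))
  have κl : ∀ (W : C) (q : W ⟶ V) (hq : Q q) (b : W ⟶ T) (eb : q ≫ t = b) (hb : R b),
      𝒳.p.IsHomLift q (κ W q hq b eb hb) := by
    intro W q hq b eb hb
    have h1 := (F q hq).down.c.lift (𝟙 W) b (by rw [Category.id_comp, ← ht' q hq, eb]) hb
    have h2 := om_lift z q u _ (hu' q hq)
    exact IsHomLift.comp_lift_id_left 𝒳.p _ _ _
  have κn : ∀ (W W' : C) (q : W ⟶ V) (hq : Q q) (b : W ⟶ T) (eb : q ≫ t = b) (hb : R b) (f : W' ⟶ W)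
      (q' : W' ⟶ V) (hq' : Q q') (b' : W' ⟶ T) (eb' : q' ≫ t = b') (hb' : R b') (wq : f ≫ q = q') (wb : f ≫ b = b'),
      D.map (sh b hb b' hb' f wb) ≫ κ W q hq b eb hb = κ W' q' hq' b' eb' hb' := by
    intro W W' q hq b eb hb f q' hq' b' eb' hb' wq wb
    subst wq
    have h1 := (F q hq).down.c.nat f (𝟙 W) b (by rw [Category.id_comp, ← ht' q hq, eb]) hb f b'
      (by rw [← ht' q hq, eb, wb]) hb' wb (Category.comp_id f)
    have h2 := (hres q hq f).hc (𝟙 W') b' (by rw [Category.id_comp, ← ht' _ hq', eb']) hb'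
      (by rw [Category.id_comp, ← ht' q hq, eb, wb])
    have h3 : (F q hq).down.c.ι (𝟙 W' ≫ f) b' (by rw [Category.id_comp, ← ht' q hq, eb, wb]) hb' =
      (F q hq).down.c.ι f b' (by rw [← ht' q hq, eb, wb]) hb' := (F q hq).down.c.congr (Category.id_comp f)
    have h4 := map_om_comp z (hu' q hq) (hres q hq f).hu
    change D.map (sh b hb b' hb' f wb) ≫ (F q hq).down.c.ι (𝟙 W) b _ hb ≫ z.map (om q u _ (hu' q hq)) =
      (F (f ≫ q) hq').down.c.ι (𝟙 W') b' _ hb' ≫ z.map (om (f ≫ q) u _ _)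
    rw [← Category.assoc, h1, ← h4]
    exact (congrArg (· ≫ z.map (om q u _ (hu' q hq))) (h2.trans h3).symm).trans (Category.assoc _ _ _)
  have key : ∀ (W : C) (g : W ⟶ V) (a : W ⟶ T) (e : g ≫ t = a) (ha : R a), ∃! ψ : D.obj (so R a ha) ⟶ z.obj (Over.mk u),
      𝒳.p.IsHomLift g ψ ∧ ∀ {W' : C} (h : W' ⟶ W) (hh : Q.pullback g h) (b : W' ⟶ T) (eb : h ≫ a = b) (hb : R b),
      D.map (sh a ha b hb h eb) ≫ ψ = κ W' (h ≫ g) hh b (by rw [Category.assoc, e, eb]) hb := by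
    intro W g a e ha
    refine existsUnique_from D hp a ha (Q.pullback g) (J.pullback_stable g hQ) g (p_obj z u)
      (fun {W'} h hh b eb hb => κ W' (h ≫ g) hh b (by rw [Category.assoc, e, eb]) hb) ?_ ?_
    · intro W' h hh b eb hb
      exact κl W' (h ≫ g) hh b (by rw [Category.assoc, e, eb]) hb
    · intro W' W'' f h hh b eb hb h' hh' b' eb' hb' wb wh
      exact κn W' W'' (h ≫ g) hh b (by rw [Category.assoc, e, eb]) hb f (h' ≫ g) hh' b' (by rw [Category.assoc, e, eb'])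
        hb' (by rw [← wh, Category.assoc]) wb
  choose lam hlam ulam using key
  let c0 : Coc D t (z.obj (Over.mk u)) :=
    { hy := p_obj z u
      ι := fun {W} g a e ha => lam W g a e ha
      lift := fun {W} g a e ha => (hlam W g a e ha).1
      nat := by
        intro W W' h g a e ha g' a' e' ha' w w'
        refine ulam W' g' a' e' ha' _ ⟨?_, ?_⟩
        · have h1 := (hlam W g a e ha).1
          have h2 := sh_lift D (a := a) (ha := ha) (a' := a') (ha' := ha') (h := h) (w := w)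
          exact isHomLift_congr (IsHomLift.comp 𝒳.p _ _ _ _) w'
        · intro W'' q hq b eb hb
          have w2 : (q ≫ h) ≫ g = q ≫ g' := by rw [Category.assoc, w']
          have h1 := (hlam W g a e ha).2 (q ≫ h) (by
            change Q ((q ≫ h) ≫ g)
            rw [w2]; exact hq) b (by rw [Category.assoc, w, eb]) hb
          rw [← Category.assoc, map_sh_comp D (h'' := q ≫ h) (w'' := by rw [Category.assoc, w, eb]) rfl, h1]
          have h3 : ∀ (q' : W'' ⟶ V) (hq' : Q q') (w3 : q' = q ≫ g') (e3 : q' ≫ t = b), κ W'' q' hq' b e3 hb =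
              κ W'' (q ≫ g') hq b (by rw [← w3]; exact e3) hb := by
            rintro _ _ rfl _; rfl
          exact h3 _ _ w2 (by rw [w2, Category.assoc, e', eb]) }
  let s0 : FSec D z V := ⟨t, u, c0⟩
  have hκ : ∀ (W : C) (q : W ⟶ V) (hq : Q q) (b : W ⟶ T) (eb : q ≫ t = b) (hb : R b),
      lam W q b eb hb = κ W q hq b eb hb := by
    intro W q hq b eb hb
    have h1 := (hlam W q b eb hb).2 (𝟙 W) (by
      change Q (𝟙 W ≫ q)
      rw [Category.id_comp]; exact hq) b (Category.id_comp b) hb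
    rw [map_sh_id, Category.id_comp] at h1
    rw [h1]
    have h3 : ∀ (q' : W ⟶ V) (hq' : Q q') (w3 : q' = q) (e3 : q' ≫ t = b), κ W q' hq' b e3 hb =
        κ W q hq b eb hb := by
      rintro _ _ rfl _; rfl
    exact h3 _ _ (Category.id_comp q) (by rw [Category.id_comp, eb])
  refine ⟨⟨s0⟩, ?_, ?_⟩
  · intro W f hf
    refine (fpsh_map_eq_iff hp.1).2 ⟨ht' f hf, hu' f hf, ?_⟩
    intro W' g a e ha e'
    have e'' : (g ≫ f) ≫ t = a := e'
    change (F f hf).down.c.ι g a e ha ≫ z.map (om f u _ _) = lam W' (g ≫ f) a e' ha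
    rw [hκ W' (g ≫ f) (Q.downward_closed hf g) a e' ha]
    have h2 := (hres f hf g).hc (𝟙 W') a (by rw [Category.id_comp, ← ht' _ _, e'']) ha
      (by rw [Category.id_comp, e])
    have h3 : (F f hf).down.c.ι (𝟙 W' ≫ g) a (by rw [Category.id_comp, e]) ha =
      (F f hf).down.c.ι g a e ha := (F f hf).down.c.congr (Category.id_comp g)
    have h4 := map_om_comp z (hu' f hf) (hres f hf g).hu
    change _ = (F (g ≫ f) _).down.c.ι (𝟙 W') a _ ha ≫ z.map (om (g ≫ f) u _ _)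
    rw [← h4]
    exact (congrArg (· ≫ z.map (om f u _ (hu' f hf))) (h2.trans h3).symm).trans (Category.assoc _ _ _)
  · rintro ⟨⟨t1, u1, c1⟩⟩ hs1
    have hr : ∀ {W : C} (f : W ⟶ V) (hf : Q f), FRes f (⟨t1, u1, c1⟩ : FSec D z V) (F f hf).down := fun f hf =>
      (fpsh_map_eq_iff hp.1).1 (hs1 f hf)
    apply ULift.ext
    change (⟨t1, u1, c1⟩ : FSec D z V) = s0
    have h1 : t1 = t := htu _ (fun W f hf => (hr f hf).ht)
    have h2 : u1 = u := huu _ (fun W f hf => (hr f hf).hu)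
    subst h1 h2
    have : c1 = c0 := by
      refine Coc.ext' fun {W} g a e ha => ?_
      refine ulam W g a e ha _ ⟨c1.lift g a e ha, ?_⟩
      intro W' h hh b eb hb
      have h3 := c1.nat h g a e ha (h ≫ g) b (by rw [Category.assoc, e, eb]) hb eb rfl
      have h4 := (hr (h ≫ g) hh).hc (𝟙 W') b (by
        rw [Category.id_comp, ← ht' _ _, Category.assoc, e, eb]) hb (by
        rw [Category.id_comp, Category.assoc, e, eb])
      dsimp only at h4
      rw [h3]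
      refine Eq.trans (c1.congr (Category.id_comp _).symm) h4.symm
    rw [this]

end K747.DD
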