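import Groth.Agent.AlgSt.K747.SecFp

set_option autoImplicit false
set_option backward.isDefEq.respectTransparency false
set_option backward.isDefEq.respectTransparency.types false
universe w v₃ u₃ v₂ u₂ v u

open CategoryTheory Opposite K734.Fib

namespace K747.Sc

variable {C : Type u} [Category.{v} C] {𝒳 : BasedCategory.{v₂, u₂} C}
variable {T : C}

theorem IsRes.diag {x x' : FibCat.overCat T ⥤ᵇ 𝒳} {V V' : C} {g : V' ⟶ V} {s : Sec x x' V} {s' : Sec x x' V'}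
    (h : IsRes g s s') (hs : s.t = s.u) : s'.t = s'.u := by rw [← h.ht, ← h.hu, hs]

/-- the presheaf of isomorphisms between two objects over `T`: sections over `V` are the `t : V ⟶ T` with a
vertical isomorphism `x(t) ⟶ x'(t)` -/
noncomputable def isoPsh (h𝒳 : FibCat.IsFibGrpd 𝒳.p) (x x' : FibCat.overCat T ⥤ᵇ 𝒳) :
    Cᵒᵖ ⥤ Type (max w v v₂) where
  obj V := {s : (psh.{w} h𝒳 x x').obj V // s.down.t = s.down.u}
  map g := ↾fun s => ⟨(psh.{w} h𝒳 x x').map g s.1, (isRes_res h𝒳 g.unop s.1.down).diag s.2⟩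
  map_id V := by
    ext s : 3
    apply Subtype.ext
    simp
  map_comp g g' := by
    ext s : 3
    apply Subtype.ext
    simp

/-- the inclusion into the presheaf of all sections -/
noncomputable def isoIncl (h𝒳 : FibCat.IsFibGrpd 𝒳.p) (x x' : FibCat.overCat T ⥤ᵇ 𝒳) :
    isoPsh.{w} h𝒳 x x' ⟶ psh.{w} h𝒳 x x' where
  app V := ↾fun s => s.1

theorem isoPsh_map_eq_iff (h𝒳 : FibCat.IsFibGrpd 𝒳.p) {x x' : FibCat.overCat T ⥤ᵇ 𝒳} {V V' : Cᵒᵖ} {g : V ⟶ V'}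
    {s : (isoPsh.{w} h𝒳 x x').obj V} {s' : (isoPsh.{w} h𝒳 x x').obj V'} :
    (isoPsh.{w} h𝒳 x x').map g s = s' ↔ IsRes g.unop s.1.down s'.1.down := by
  rw [← psh_map_eq_iff]
  exact Subtype.ext_iff

section diag

variable (h𝒳 : FibCat.IsFibGrpd 𝒳.p)
  (y : FibCat.overCat T ⥤ᵇ FibCat.fp (FibCat.toSelf 𝒳) (FibCat.toSelf 𝒳))

/-- first component -/
abbrev y1 : FibCat.overCat T ⥤ᵇ 𝒳 := BasedFunctor.comp y (FibCat.fpFst _ _)
/-- second component -/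
abbrev y2 : FibCat.overCat T ⥤ᵇ 𝒳 := BasedFunctor.comp y (FibCat.fpSnd _ _)

variable {y}

theorem self_iso_hom (a : (FibCat.fp (FibCat.toSelf 𝒳) (FibCat.toSelf 𝒳)).obj) :
    ∃ h, a.obj.iso.hom = eqToHom h := by
  obtain ⟨h, e⟩ := isVert_iff.1 (iso_vert a)
  refine ⟨h, ?_⟩
  exact e

/-- the isomorphism over the diagonal -/
noncomputable def diagIso {V : C} (t : V ⟶ T) (φ : (y1 y).obj (Over.mk t) ≅ (y2 y).obj (Over.mk t)) (hφ : IsVert 𝒳 φ.hom) :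
    y.obj (Over.mk t) ≅ (FibCat.diag (FibCat.toSelf 𝒳)).obj ((y2 y).obj (Over.mk t)) :=
  mkIsoFp φ (Iso.refl _) (by
    obtain ⟨h, e⟩ := self_iso_hom (y.obj (Over.mk t))
    obtain ⟨h', e'⟩ := self_iso_hom ((FibCat.diag (FibCat.toSelf 𝒳)).obj ((y2 y).obj (Over.mk t)))
    rw [e, e']
    change 𝒳.p.map φ.hom ≫ _ = _ ≫ 𝒳.p.map (𝟙 _)
    rw [hφ.map_eq, 𝒳.p.map_id, eqToHom_trans]
    exact (Category.comp_id _).symm)

@[simp] theorem diagIso_hom_fst {V : C} (t : V ⟶ T) (φ : (y1 y).obj (Over.mk t) ≅ (y2 y).obj (Over.mk t))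
    (hφ : IsVert 𝒳 φ.hom) : (diagIso t φ hφ).hom.hom.fst = φ.hom := rfl

@[simp] theorem diagIso_hom_snd {V : C} (t : V ⟶ T) (φ : (y1 y).obj (Over.mk t) ≅ (y2 y).obj (Over.mk t))
    (hφ : IsVert 𝒳 φ.hom) : (diagIso t φ hφ).hom.hom.snd = 𝟙 _ := rfl

/-- the isomorphism `x(t) ≅ x'(t)` of a section of `isoPsh` -/
noncomputable def Sec.dIso {x x' : FibCat.overCat T ⥤ᵇ 𝒳} (h𝒳 : FibCat.IsFibGrpd 𝒳.p) {V : C} (s : Sec x x' V)
    (h : s.t = s.u) : x.obj (Over.mk s.t) ≅ x'.obj (Over.mk s.t) :=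
  s.iso h𝒳 ≪≫ x'.mapIso (Over.isoMk (Iso.refl V) (by simp [h]))

theorem om_vert {x : FibCat.overCat T ⥤ᵇ 𝒳} {V : C} {t t' : V ⟶ T} (h : 𝟙 V ≫ t = t') :
    IsVert 𝒳 (x.map (om (𝟙 V) t t' h)) :=
  IsVert.of_lift (om_lift x (𝟙 V) t t' h)

theorem Sec.dIso_hom {x x' : FibCat.overCat T ⥤ᵇ 𝒳} (h𝒳 : FibCat.IsFibGrpd 𝒳.p) {V : C} (s : Sec x x' V)
    (h : s.t = s.u) : (s.dIso h𝒳 h).hom = s.φ ≫ x'.map (om (𝟙 V) s.t s.u (by simp [h])) := by
  change s.φ ≫ x'.map _ = _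
  congr 2

theorem Sec.dIso_vert {x x' : FibCat.overCat T ⥤ᵇ 𝒳} (h𝒳 : FibCat.IsFibGrpd 𝒳.p) {V : C} (s : Sec x x' V)
    (h : s.t = s.u) : IsVert 𝒳 (s.dIso h𝒳 h).hom := by
  rw [s.dIso_hom]
  exact s.vert.comp (om_vert _)

theorem dIso_isRes {x x' : FibCat.overCat T ⥤ᵇ 𝒳} (h𝒳 : FibCat.IsFibGrpd 𝒳.p) {V V' : C} {g : V' ⟶ V}
    {s : Sec x x' V} {s' : Sec x x' V'} (h : s.t = s.u) (h' : s'.t = s'.u) :
    IsRes g s s' ↔ ∃ ht : g ≫ s.t = s'.t,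
      (s'.dIso h𝒳 h').hom ≫ x'.map (om g s.t s'.t ht) = x.map (om g s.t s'.t ht) ≫ (s.dIso h𝒳 h).hom := by
  rw [Sec.dIso_hom, Sec.dIso_hom]
  constructor
  · intro hr
    refine ⟨hr.ht, ?_⟩
    have := hr.hφ
    rw [Category.assoc, ← x'.map_comp, ← Category.assoc, ← this, Category.assoc, ← x'.map_comp]
    congr 2
    refine Over.OverMorphism.ext ?_
    change 𝟙 V' ≫ g = g ≫ 𝟙 V
    simp
  · rintro ⟨ht, e⟩
    have hu : g ≫ s.u = s'.u := by rw [← h, ← h', ht]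
    refine ⟨ht, hu, ?_⟩
    have h2 : om g s.u s'.u hu = (om (𝟙 V') s'.t s'.u (by simp [h']) ≫ om g s.t s'.t ht) ≫ om (𝟙 V) s.u s.t (by simp [h]) :=
      Over.OverMorphism.ext (by simp)
    rw [h2, x'.map_comp, x'.map_comp, ← Category.assoc, ← Category.assoc, e, Category.assoc, Category.assoc,
      ← x'.map_comp]
    have h3 : om (𝟙 V) s.t s.u (by simp [h]) ≫ om (𝟙 V) s.u s.t (by simp [h]) = 𝟙 _ :=
      Over.OverMorphism.ext (by simp)
    rw [h3]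
    simp

theorem isRes_of_map' {x x' : FibCat.overCat T ⥤ᵇ 𝒳} {h𝒳 : FibCat.IsFibGrpd 𝒳.p} {a b : Stk.EltObj (isoPsh.{w} h𝒳 x x')}
    (f : a ⟶ b) : IsRes f.hom b.sec.1.down a.sec.1.down :=
  (isoPsh_map_eq_iff h𝒳).1 f.map_sec

variable (y) in
/-- the functor from the category of the presheaf of isomorphisms to the base change of the diagonal -/
noncomputable def toDiag : Stk.ofPsh (isoPsh.{w} h𝒳 (y1 y) (y2 y)) ⥤ᵇ FibCat.fp y (FibCat.diag (FibCat.toSelf 𝒳)) where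
  toFunctor :=
    { obj := fun a => mkObj (Over.mk a.sec.1.down.t) ((y2 y).obj (Over.mk a.sec.1.down.t))
        (diagIso _ (a.sec.1.down.dIso h𝒳 a.sec.2) (a.sec.1.down.dIso_vert h𝒳 a.sec.2))
        (by rw [vert_fp_iff_fst]; exact a.sec.1.down.dIso_vert h𝒳 a.sec.2)
      map := fun {a b} f => mkHomFp (om f.hom _ _ (isRes_of_map' f).ht) ((y2 y).map (om f.hom _ _ (isRes_of_map' f).ht)) (by
        refine homFp_ext ?_ ?_
        · change (y1 y).map _ ≫ (b.sec.1.down.dIso h𝒳 b.sec.2).hom = (a.sec.1.down.dIso h𝒳 a.sec.2).hom ≫ (y2 y).map _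
          exact ((dIso_isRes h𝒳 b.sec.2 a.sec.2).1 (isRes_of_map' f)).choose_spec.symm
        · change (y2 y).map _ ≫ 𝟙 _ = 𝟙 _ ≫ (y2 y).map _
          rw [Category.comp_id, Category.id_comp])
      map_id := fun a => homFp_ext (Over.OverMorphism.ext rfl) (by
        change (y2 y).map _ = 𝟙 _
        rw [← (y2 y).map_id]
        congr 1)
      map_comp := fun f g => homFp_ext (Over.OverMorphism.ext rfl) (by
        change (y2 y).map _ = (y2 y).map _ ≫ (y2 y).map _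
        rw [← (y2 y).map_comp]
        congr 1) }
  w := rfl

theorem homDiag_snd {a b : (FibCat.fp y (FibCat.diag (FibCat.toSelf 𝒳))).obj} (F : a ⟶ b) :
    (y1 y).map F.hom.fst ≫ b.obj.iso.hom.hom.fst = a.obj.iso.hom.hom.fst ≫ F.hom.snd ∧
      (y2 y).map F.hom.fst ≫ b.obj.iso.hom.hom.snd = a.obj.iso.hom.hom.snd ≫ F.hom.snd := by
  have h := homFp_w F
  exact ⟨congrArg (fun k => k.hom.fst) h, congrArg (fun k => k.hom.snd) h⟩

variable (y) in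
theorem toDiag_isEquivOver : FibCat.IsEquivOver (toDiag.{w} h𝒳 y) := by
  refine isEquivOver_of ⟨?_⟩ ⟨?_⟩ ?_
  · intro a b f
    obtain ⟨h1, h2⟩ := homDiag_snd f
    have h2' : (y2 y).map f.hom.fst = f.hom.snd := by
      have : (y2 y).map f.hom.fst ≫ 𝟙 _ = 𝟙 _ ≫ f.hom.snd := h2
      simpa using this
    have ht : f.hom.fst.left ≫ b.sec.1.down.t = a.sec.1.down.t := Over.w f.hom.fst
    have e1 : om f.hom.fst.left b.sec.1.down.t a.sec.1.down.t ht = f.hom.fst := by ext; rfl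
    refine ⟨⟨f.hom.fst.left, (isoPsh_map_eq_iff h𝒳).2 ((dIso_isRes h𝒳 b.sec.2 a.sec.2).2 ⟨ht, ?_⟩)⟩, ?_⟩
    · change (a.sec.1.down.dIso h𝒳 a.sec.2).hom ≫ (y2 y).map (om f.hom.fst.left b.sec.1.down.t a.sec.1.down.t ht) =
        (y1 y).map (om f.hom.fst.left b.sec.1.down.t a.sec.1.down.t ht) ≫ (b.sec.1.down.dIso h𝒳 b.sec.2).hom
      rw [e1, h2']
      exact h1.symm
    · refine homFp_ext e1 ?_
      change (y2 y).map (om f.hom.fst.left b.sec.1.down.t a.sec.1.down.t ht) = f.hom.snd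
      rw [e1, h2']
  · intro a b f g h
    have h1 : (om f.hom _ _ (isRes_of_map' f).ht) = (om g.hom _ _ (isRes_of_map' g).ht) :=
      congrArg (fun k => k.hom.fst) h
    exact Stk.EltObj.hom_ext (congrArg (fun k => k.left) h1)
  · intro a
    have hv := iso_vert a
    have ha : 𝒳.p.obj ((y1 y).obj a.obj.fst) = a.obj.fst.left := (y1 y).w_obj _
    let i := a.obj.iso
    let α : (y1 y).obj a.obj.fst ≅ a.obj.snd := (FibCat.fpFst _ _).mapIso i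
    let β : (y2 y).obj a.obj.fst ≅ a.obj.snd := (FibCat.fpSnd _ _).mapIso i
    have hα : IsVert 𝒳 α.hom := hv.map (FibCat.fpFst _ _)
    have hβ : IsVert 𝒳 β.hom := hv.map (FibCat.fpSnd _ _)
    let s : Sec (y1 y) (y2 y) a.obj.fst.left :=
      ⟨a.obj.fst.hom, a.obj.fst.hom, α.hom ≫ β.inv, (hα.comp hβ.inv).lift ha⟩
    have hs : (s.dIso h𝒳 rfl).hom = α.hom ≫ β.inv := by
      rw [Sec.dIso_hom]
      have h3 : (y2 y).map (om (𝟙 a.obj.fst.left) s.t s.u (by simp [s])) = 𝟙 _ :=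
        (congrArg (fun k => (y2 y).map k) (Over.OverMorphism.ext rfl)).trans ((y2 y).map_id _)
      rw [h3]
      exact Category.comp_id _
    refine ⟨⟨a.obj.fst.left, ⟨⟨s⟩, rfl⟩⟩, mkIsoFp (Iso.refl _) β ?_, ?_⟩
    · refine homFp_ext ?_ ?_
      · change (y1 y).map (𝟙 _) ≫ α.hom = (s.dIso h𝒳 rfl).hom ≫ β.hom
        rw [hs, (y1 y).map_id]
        simp
      · change (y2 y).map (𝟙 _) ≫ β.hom = 𝟙 _ ≫ β.hom
        rw [(y2 y).map_id]
    · rw [vert_fp_iff_fst]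
      exact IsVert.id _

end diag

end K747.Sc
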