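import Groth.Agent.AlgSt.K747.Mul
import Groth.Agent.AlgSt.K747.Inert

/-!
# Composition of sections of fibre products over a chart

`w : C/U ⥤ 𝒳`, `x : C/T ⥤ 𝒳`, `z : C/V ⥤ 𝒳`.
* `mulT`: `P(x,w) ×_U P(w,z) ⟶ P(x,z)`, and `isPullback_mulT`: it is the base change of `prT`.
* `bcU`: for `j : V ⟶ U`, `P(x, w ∘ j) ⟶ P(x, w)` is the base change of `h_V ⟶ h_U`.
* `unitU`: the section `h_V ⟶ P(w, w ∘ j)`.
-/

set_option autoImplicit false
set_option backward.isDefEq.respectTransparency false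
set_option backward.isDefEq.respectTransparency.types false
universe w v₂ u₂ v u

open CategoryTheory Opposite K734.Fib

namespace K747.Sc

section

variable {C : Type u} [Category.{v} C] {𝒳 : BasedCategory.{v₂, u₂} C}
variable {T T' U : C} {x : FibCat.overCat T ⥤ᵇ 𝒳} {y : FibCat.overCat T' ⥤ᵇ 𝒳} {z : FibCat.overCat U ⥤ᵇ 𝒳}

theorem Sec.symm_trans_trans (h𝒳 : FibCat.IsFibGrpd 𝒳.p) {V : C} (s : Sec x y V) (s' : Sec y z V) (h : s.u = s'.t)
    (k : (s.symm h𝒳).u = (s.trans s' h).t) : (s.symm h𝒳).trans (s.trans s' h) k = s' := by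
  obtain ⟨t, u, φ, o⟩ := s
  obtain ⟨t', u', φ', o'⟩ := s'
  dsimp only at h
  subst h
  refine Sec.mk_congr ?_
  change ((⟨t, u, φ, o⟩ : Sec x y V).iso h𝒳).inv ≫ x.map (om (𝟙 V) t t _) ≫ φ ≫ y.map (om (𝟙 V) u u _) ≫ φ' = φ'
  rw [map_om_id, map_om_id, Category.id_comp, Category.id_comp, ← Category.assoc]
  have : ((⟨t, u, φ, o⟩ : Sec x y V).iso h𝒳).inv ≫ φ = 𝟙 _ := ((⟨t, u, φ, o⟩ : Sec x y V).iso h𝒳).inv_hom_id
  rw [this, Category.id_comp]

theorem Sec.trans_symm_trans' (h𝒳 : FibCat.IsFibGrpd 𝒳.p) {V : C} (s : Sec x y V) (s' : Sec x z V) (h : s.t = s'.t)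
    (k : s.u = ((s.symm h𝒳).trans s' h).t) : s.trans ((s.symm h𝒳).trans s' h) k = s' := by
  obtain ⟨t, u, φ, o⟩ := s
  obtain ⟨t', u', φ', o'⟩ := s'
  dsimp only at h
  subst h
  refine Sec.mk_congr ?_
  change φ ≫ y.map (om (𝟙 V) u u _) ≫ ((⟨t, u, φ, o⟩ : Sec x y V).iso h𝒳).inv ≫ x.map (om (𝟙 V) t t _) ≫ φ' = φ'
  rw [map_om_id, map_om_id, Category.id_comp, Category.id_comp, ← Category.assoc]
  have : φ ≫ ((⟨t, u, φ, o⟩ : Sec x y V).iso h𝒳).inv = 𝟙 _ := ((⟨t, u, φ, o⟩ : Sec x y V).iso h𝒳).hom_inv_id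
  rw [this, Category.id_comp]

end

open AlgebraicGeometry Limits

variable {S : Scheme.{u}} {𝒳 : BasedCategory.{u, w} (Over S)} {h𝒳 : FibCat.IsFibGrpd 𝒳.p}
variable {T U V : Over S} {x : FibCat.overCat T ⥤ᵇ 𝒳} {y : FibCat.overCat U ⥤ᵇ 𝒳} {z : FibCat.overCat V ⥤ᵇ 𝒳}
variable {N : AlgSp.PSp S} {a : N ⟶ P h𝒳 x y} {b : N ⟶ P h𝒳 y z}

theorem mulT_cond (sq : IsPullback a b (prU h𝒳 x y) (prT h𝒳 y z)) {W : (Over S)ᵒᵖ} (n : N.obj W) :
    (a.app W n).down.u = (b.app W n).down.t :=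
  congrArg ULift.down (app_eq sq.w n)

/-- composition of sections -/
noncomputable def mulT (sq : IsPullback a b (prU h𝒳 x y) (prT h𝒳 y z)) : N ⟶ P h𝒳 x z where
  app W := ↾fun n => ⟨(a.app W n).down.trans (b.app W n).down (mulT_cond sq n)⟩
  naturality W W' g := by
    ext n
    refine Eq.symm ((psh_map_eq_iff.{u+1} h𝒳).2 ?_)
    exact IsRes.trans ((psh_map_eq_iff.{u+1} h𝒳).1 (NatTrans.naturality_apply a g n).symm)
      ((psh_map_eq_iff.{u+1} h𝒳).1 (NatTrans.naturality_apply b g n).symm) (mulT_cond sq n) (mulT_cond sq _)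

theorem mulT_app (sq : IsPullback a b (prU h𝒳 x y) (prT h𝒳 y z)) {W : (Over S)ᵒᵖ} (n : N.obj W) :
    (mulT sq).app W n = ⟨(a.app W n).down.trans (b.app W n).down (mulT_cond sq n)⟩ := rfl

theorem mulT_prT (sq : IsPullback a b (prU h𝒳 x y) (prT h𝒳 y z)) : mulT sq ≫ prT h𝒳 x z = a ≫ prT h𝒳 x y := rfl

theorem mulT_prU (sq : IsPullback a b (prU h𝒳 x y) (prT h𝒳 y z)) : mulT sq ≫ prU h𝒳 x z = b ≫ prU h𝒳 y z := rfl

theorem isPullback_mulT (sq : IsPullback a b (prU h𝒳 x y) (prT h𝒳 y z)) :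
    IsPullback (mulT sq) a (prT h𝒳 x z) (prT h𝒳 x y) := by
  refine K739.Diag.isPullback_psh _ _ _ _ ?_ ?_ ?_
  · intro W n
    rfl
  · intro W n n' h1 h2
    refine ext_of_isPullback sq n n' h2 ?_
    rw [mulT_app, mulT_app] at h1
    have h1' := congrArg ULift.down h1
    dsimp only at h1'
    have k1 := Sec.symm_trans_trans h𝒳 (a.app _ n).down (b.app _ n).down (mulT_cond sq n) rfl
    have k2 := Sec.symm_trans_trans h𝒳 (a.app _ n').down (b.app _ n').down (mulT_cond sq n') rfl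
    apply ULift.ext
    rw [← k1, ← k2]
    congr 1
    rw [h2]
  · intro W s s' e
    have e1 : s'.down.t = s.down.t := (congrArg ULift.down e).symm
    let r : Sec y z W := (s'.down.symm h𝒳).trans s.down e1
    obtain ⟨n, hn1, hn2⟩ := exists_of_isPullback sq (V := op W) s' (⟨r⟩ : (P h𝒳 y z).obj (op W)) rfl
    refine ⟨n, ?_, hn1⟩
    rw [mulT_app]
    apply ULift.ext
    have k := Sec.trans_symm_trans' h𝒳 s'.down s.down e1 rfl
    refine Eq.trans ?_ k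
    dsimp only
    congr 1
    · rw [hn1]
    · rw [hn2]

section bc

variable (x : FibCat.overCat T ⥤ᵇ 𝒳) (y : FibCat.overCat U ⥤ᵇ 𝒳) (j : V ⟶ U)

/-- a section of `P(x, y ∘ j)` is a section of `P(x, y)` -/
def secOf {W : Over S} (s : Sec x (BasedFunctor.comp (AlgSt.overMap j) y) W) : Sec x y W :=
  ⟨s.t, s.u ≫ j, s.φ, s.over⟩

variable (h𝒳)

/-- `P(x, y ∘ j) ⟶ P(x, y)` -/
noncomputable def bcU : P h𝒳 x (BasedFunctor.comp (AlgSt.overMap j) y) ⟶ P h𝒳 x y where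
  app W := ↾fun s => ⟨secOf x y j s.down⟩
  naturality W W' g := by
    ext s
    refine Eq.symm ((psh_map_eq_iff.{u+1} h𝒳).2 ?_)
    have h := isRes_res h𝒳 g.unop s.down
    have h1 : g.unop ≫ s.down.u ≫ j = (res h𝒳 g.unop s.down).u ≫ j := by
      rw [← Category.assoc, h.hu]
    exact ⟨h.ht, h1, h.hφ⟩

theorem bcU_prT : bcU h𝒳 x y j ≫ prT h𝒳 x y = prT h𝒳 x (BasedFunctor.comp (AlgSt.overMap j) y) := rfl

theorem isPullback_bcU : IsPullback (bcU h𝒳 x y j) (prU h𝒳 x (BasedFunctor.comp (AlgSt.overMap j) y))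
    (prU h𝒳 x y) ((AlgSp.pyon S).map j) := by
  refine K739.Diag.isPullback_psh _ _ _ _ ?_ ?_ ?_
  · intro W n
    rfl
  · rintro W ⟨t, u, φ, o⟩ ⟨t', u', φ', o'⟩ h1 h2
    obtain rfl : u = u' := congrArg ULift.down h2
    have h1' : (⟨t, u ≫ j, φ, o⟩ : Sec x y W) = ⟨t', u ≫ j, φ', o'⟩ := congrArg ULift.down h1
    injection h1' with e1 e2 e3
    subst e1
    obtain rfl := eq_of_heq e3
    rfl
  · rintro W ⟨t, u, φ, o⟩ ⟨v⟩ e
    obtain rfl : u = v ≫ j := congrArg ULift.down e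
    exact ⟨⟨⟨t, v, φ, o⟩⟩, rfl, rfl⟩

/-- the section `h_V ⟶ P(y ∘ j, y)` given by the identity, reversed: `h_V ⟶ P(y, y ∘ j)` -/
noncomputable def unitU : (AlgSp.pyon S).obj V ⟶ P h𝒳 y (BasedFunctor.comp (AlgSt.overMap j) y) where
  app W := ↾fun v => ⟨⟨v.down ≫ j, v.down, 𝟙 _, IsHomLift.id (p_obj y (v.down ≫ j))⟩⟩
  naturality W W' g := by
    ext v
    refine Eq.symm ((psh_map_eq_iff.{u+1} h𝒳).2 ⟨?_, ?_, ?_⟩)
    · exact (Category.assoc _ _ _).symm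
    · rfl
    · exact (Category.id_comp _).trans (Category.comp_id _).symm

theorem unitU_prU : unitU h𝒳 y j ≫ prU h𝒳 y (BasedFunctor.comp (AlgSt.overMap j) y) = 𝟙 _ := rfl

theorem unitU_prT : unitU h𝒳 y j ≫ prT h𝒳 y (BasedFunctor.comp (AlgSt.overMap j) y) = (AlgSp.pyon S).map j := rfl

end bc

section shift

variable {j : V ⟶ U} {N : AlgSp.PSp S} {a : N ⟶ P h𝒳 x y} {b : N ⟶ P h𝒳 y (BasedFunctor.comp (AlgSt.overMap j) y)}

/-- `ρ ↦ (ρ, 1)` -/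
noncomputable def shift (sq : IsPullback a b (prU h𝒳 x y) (prT h𝒳 y (BasedFunctor.comp (AlgSt.overMap j) y))) :
    P h𝒳 x (BasedFunctor.comp (AlgSt.overMap j) y) ⟶ N :=
  sq.lift (bcU h𝒳 x y j) (prU h𝒳 x (BasedFunctor.comp (AlgSt.overMap j) y) ≫ unitU h𝒳 y j) rfl

theorem shift_fst (sq : IsPullback a b (prU h𝒳 x y) (prT h𝒳 y (BasedFunctor.comp (AlgSt.overMap j) y))) :
    shift sq ≫ a = bcU h𝒳 x y j := sq.lift_fst _ _ _

theorem shift_snd (sq : IsPullback a b (prU h𝒳 x y) (prT h𝒳 y (BasedFunctor.comp (AlgSt.overMap j) y))) :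
    shift sq ≫ b = prU h𝒳 x (BasedFunctor.comp (AlgSt.overMap j) y) ≫ unitU h𝒳 y j := sq.lift_snd _ _ _

theorem shift_mulT (sq : IsPullback a b (prU h𝒳 x y) (prT h𝒳 y (BasedFunctor.comp (AlgSt.overMap j) y))) :
    shift sq ≫ mulT sq = 𝟙 _ := by
  ext W s
  have e1 : a.app W ((shift sq).app W s) = (bcU h𝒳 x y j).app W s :=
    ConcreteCategory.congr_hom (NatTrans.congr_app (shift_fst sq) W) s
  have e2 : b.app W ((shift sq).app W s) = (prU h𝒳 x (BasedFunctor.comp (AlgSt.overMap j) y) ≫ unitU h𝒳 y j).app W s :=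
    ConcreteCategory.congr_hom (NatTrans.congr_app (shift_snd sq) W) s
  change (mulT sq).app W ((shift sq).app W s) = s
  rw [mulT_app]
  apply ULift.ext
  have key : ∀ (r : Sec x y W.unop) (r' : Sec y (BasedFunctor.comp (AlgSt.overMap j) y) W.unop) (h : r.u = r'.t),
      r = secOf x y j s.down → r' = ⟨s.down.u ≫ j, s.down.u, 𝟙 _, IsHomLift.id (p_obj y (s.down.u ≫ j))⟩ →
      r.trans r' h = s.down := by
    rintro r r' h rfl rfl
    obtain ⟨⟨t, u, φ, o⟩⟩ := s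
    refine Sec.mk_congr ?_
    change φ ≫ y.map (om (𝟙 _) (u ≫ j) (u ≫ j) _) ≫ 𝟙 _ = φ
    rw [map_om_id]
    exact (congrArg (fun k => φ ≫ k) (Category.comp_id _)).trans (Category.comp_id _)
  exact key _ _ (mulT_cond sq _) (congrArg ULift.down e1) (congrArg ULift.down e2)

end shift

end K747.Sc
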