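import Groth.Agent.AlgSp.K609.GrpLocInst
import Groth.Agent.AlgSp.K616.Near
import Groth.Agent.S0115

/-!
# Etaleness near a point and smooth base change

* `near_etale_desc`: étaleness near a point descends along a smooth base change.
* `hasAtMor_of_bc`, `hasAtMor_bc_of_smooth`: the same for algebraic spaces.
-/

set_option autoImplicit false
set_option backward.isDefEq.respectTransparency false
set_option backward.isDefEq.respectTransparency.types false
universe u
open CategoryTheory CategoryTheory.Limits AlgebraicGeometry AlgSp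

namespace K747.NearEt

open K616.Near

theorem near_mono {P Q : MorphismProperty Scheme.{u}} (h : P ≤ Q) {U V : Scheme.{u}} {f : U ⟶ V} {u : ↥U}
    (H : Near P U V f u) : Near Q U V f u := by
  obtain ⟨W, hW, HW⟩ := H
  exact ⟨W, hW, h _ HW⟩

theorem near_etale_desc {U V U' V' : Scheme.{u}} {h : U ⟶ V} {h' : U' ⟶ V'} {p : U' ⟶ U} {q : V' ⟶ V}
    (sq : IsPullback p h' h q) [LocallyOfFiniteType h] [hq : Smooth q] (u : ↥U') (H : Near @Etale U' V' h' u) :
    Near @Etale U V h (p u) := by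
  have hun : Near (@LocallyOfFiniteType ⊓ @FormallyUnramified) U' V' h' u :=
    near_mono (fun _ _ f (_ : Etale f) => ⟨(inferInstance : LocallyOfFiniteType f), (inferInstance : FormallyUnramified f)⟩) H
  obtain ⟨W, hW, hW1, hW2⟩ := K609.GrpLoc.gLoc_unram.desc sq inferInstance u hun
  obtain ⟨W', hW', HW'⟩ := H
  have hp : Smooth p := MorphismProperty.of_isPullback (P := @Smooth) sq.flip hq
  -- the open of `U'`
  let O' : U'.Opens := W' ⊓ p ⁻¹ᵁ W
  have hO' : IsOpen (p '' (O' : Set ↥U')) := p.isOpenMap _ O'.isOpen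
  let O : U.Opens := ⟨p '' (O' : Set ↥U'), hO'⟩
  have hOW : O ≤ W := by
    rintro _ ⟨y, hy, rfl⟩
    exact hy.2
  refine ⟨O, ⟨u, ⟨hW', hW⟩, rfl⟩, ?_⟩
  have hr : Set.range (O'.ι ≫ p) ⊆ Set.range O.ι := by
    rw [Scheme.Opens.range_ι]
    rintro _ ⟨y, rfl⟩
    exact ⟨y.1, y.2, rfl⟩
  let e : O'.toScheme ⟶ O.toScheme := IsOpenImmersion.lift O.ι (O'.ι ≫ p) hr
  have he : e ≫ O.ι = O'.ι ≫ p := IsOpenImmersion.lift_fac _ _ _
  have hes : Smooth e := by
    have h0 : Smooth (e ≫ O.ι) := by rw [he]; infer_instance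
    exact MorphismProperty.of_postcomp (W := @Smooth) (W' := MorphismProperty.monomorphisms Scheme) e O.ι
      (inferInstanceAs (Mono O.ι)) h0
  have hesu : Surjective e := by
    constructor
    rintro ⟨_, x, hx, rfl⟩
    refine ⟨⟨x, hx⟩, O.ι.isOpenEmbedding.injective ?_⟩
    rw [← Scheme.Hom.comp_apply, he]
    rfl
  have hsm : Smooth (O.ι ≫ h) := by
    have h1 : e ≫ O.ι ≫ h = (O'.ι ≫ h') ≫ q := by
      rw [← Category.assoc, he, Category.assoc, sq.w, Category.assoc]
    have h2 : Etale (O'.ι ≫ h') := by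
      have h3 : O'.ι ≫ h' = U'.homOfLE inf_le_left ≫ W'.ι ≫ h' := by
        rw [← Category.assoc, Scheme.homOfLE_ι]
      rw [h3]
      have : Etale (W'.ι ≫ h') := HW'
      infer_instance
    have : Smooth (e ≫ O.ι ≫ h) := by
      rw [h1]
      infer_instance
    exact Groth.Agent.S0115.result e (O.ι ≫ h)
  have hun' : FormallyUnramified (O.ι ≫ h) := by
    have h3 : O.ι ≫ h = U.homOfLE hOW ≫ W.ι ≫ h := by
      rw [← Category.assoc, Scheme.homOfLE_ι]
    rw [h3]
    have h4 : FormallyUnramified (W.ι ≫ h) := hW2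
    exact MorphismProperty.comp_mem (W := @FormallyUnramified) _ _ inferInstance h4
  exact Etale.of_formallyUnramified_of_flat _

variable {S : Scheme.{u}}

/-- étaleness near a point is stable under base change -/
theorem hasAtMor_of_bc {X Y Y' X' : Sp S} (hX : IsAlgSpace X) (hY : IsAlgSpace Y)
    (hY' : IsAlgSpace Y') (hX' : IsAlgSpace X') {f : X ⟶ Y} {g : Y' ⟶ Y} {g' : X' ⟶ X} {f' : X' ⟶ Y'}
    (sq : IsPullback g' f' f g) (x' : Points X') (H : HasAtMor (Near @Etale) f (Points.map g' x')) :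
    HasAtMor (Near @Etale) f' x' := by
  obtain ⟨U, V, U', V', h, k, p, q, a, b, a', b', u', sq', ha, hb, ha', hb', w, w', h1, h2, hu', hu⟩ :=
    K616.BaseChange.exists_cartesian_diagram hX hY hY' hX' sq x'
  have H' := (K616.Inv.hasAtMor_iff (etInvOn_near K597.etLoc_etale) (K616.Inv.locP_top f) a b h ha hb w (p.left u')).1
    (by rw [hu]; exact H)
  exact ⟨U', V', a', b', q, u', ha', hb', h2, hu', near_of_isPullback (sq'.map (Over.forget S)) u' H'⟩

/-- étaleness near a point descends along smooth base change -/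
theorem hasAtMor_of_smooth_bc {X Y Y' X' : Sp S} (hX : IsAlgSpace X) (hY : IsAlgSpace Y)
    (hY' : IsAlgSpace Y') (hX' : IsAlgSpace X') {f : X ⟶ Y} {g : Y' ⟶ Y} {g' : X' ⟶ X} {f' : X' ⟶ Y'}
    (sq : IsPullback g' f' f g) (hf : LocP @LocallyOfFiniteType f) (hg : LocP @Smooth g) (x' : Points X')
    (H : HasAtMor (Near @Etale) f' x') :
    HasAtMor (Near @Etale) f (Points.map g' x') := by
  obtain ⟨U, V, U', V', h, k, p, q, a, b, a', b', u', sq', ha, hb, ha', hb', w, w', h1, h2, hu', hu⟩ :=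
    K616.BaseChange.exists_cartesian_diagram hX hY hY' hX' sq x'
  have H' := (K616.Inv.hasAtMor_iff (etInvOn_near K597.etLoc_etale) (K616.Inv.locP_top f') a' b' q ha' hb' h2 u').1
    (by rw [hu']; exact H)
  have hk : Smooth k.left := hg b' b k hb' hb w'
  have hh : LocallyOfFiniteType h.left := hf a b h ha hb w
  exact ⟨U, V, a, b, h, p.left u', ha, hb, w, hu, near_etale_desc (h := h.left) (q := k.left)
    (sq'.map (Over.forget S)) u' H'⟩

end K747.NearEt
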