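import Groth.Agent.AlgSt.K747.Mul
import Groth.Agent.AlgSt.K747.Inert

/-!
# `P(x, z)` as a presheaf of isomorphisms over the product

For `p₁ : W ⟶ T`, `p₂ : W ⟶ U` making `W` a product, `P(x, z)` is `Isom(x ∘ p₁, z ∘ p₂)` over `W`.
-/

set_option autoImplicit false
set_option backward.isDefEq.respectTransparency false
set_option backward.isDefEq.respectTransparency.types false
universe w v₂ u₂ v u

open CategoryTheory Opposite K734.Fib AlgebraicGeometry Limits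

namespace K747.Sc

variable {S : Scheme.{u}} {𝒳 : BasedCategory.{u, w} (Over S)} (h𝒳 : FibCat.IsFibGrpd 𝒳.p)
variable {T U W : Over S} (x : FibCat.overCat T ⥤ᵇ 𝒳) (z : FibCat.overCat U ⥤ᵇ 𝒳) (p₁ : W ⟶ T) (p₂ : W ⟶ U)

/-- the section of `P(x,z)` of an isomorphism over the product -/
def secOfI {V : Over S} (s : Sec (BasedFunctor.comp (AlgSt.overMap p₁) x) (BasedFunctor.comp (AlgSt.overMap p₂) z) V) :
    Sec x z V := ⟨s.t ≫ p₁, s.u ≫ p₂, s.φ, s.over⟩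

/-- `Isom(x ∘ p₁, z ∘ p₂) ⟶ P(x, z)` -/
noncomputable def ofI : I h𝒳 (BasedFunctor.comp (AlgSt.overMap p₁) x) (BasedFunctor.comp (AlgSt.overMap p₂) z) ⟶
    P h𝒳 x z where
  app V := ↾fun s => ⟨secOfI x z p₁ p₂ s.1.down⟩
  naturality V V' g := by
    ext s
    refine Eq.symm ((psh_map_eq_iff.{u+1} h𝒳).2 ?_)
    have h := isRes_res h𝒳 g.unop s.1.down
    have h1 : g.unop ≫ s.1.down.u ≫ p₂ = (res h𝒳 g.unop s.1.down).u ≫ p₂ := by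
      rw [← Category.assoc, h.hu]
    have h2 : g.unop ≫ s.1.down.t ≫ p₁ = (res h𝒳 g.unop s.1.down).t ≫ p₁ := by
      rw [← Category.assoc, h.ht]
    exact ⟨h2, h1, h.hφ⟩

theorem ofI_prT : ofI h𝒳 x z p₁ p₂ ≫ prT h𝒳 x z =
    prI h𝒳 (BasedFunctor.comp (AlgSt.overMap p₁) x) (BasedFunctor.comp (AlgSt.overMap p₂) z) ≫ (AlgSp.pyon S).map p₁ := rfl

theorem ofI_prU : ofI h𝒳 x z p₁ p₂ ≫ prU h𝒳 x z =
    prI h𝒳 (BasedFunctor.comp (AlgSt.overMap p₁) x) (BasedFunctor.comp (AlgSt.overMap p₂) z) ≫ (AlgSp.pyon S).map p₂ := by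
  ext V s
  obtain ⟨⟨⟨t, u, φ, o⟩⟩, h⟩ := s
  obtain rfl : t = u := h
  rfl

/-- the product condition -/
def IsProd : Prop := ∀ ⦃V : Over S⦄ (t : V ⟶ T) (u : V ⟶ U), ∃! l : V ⟶ W, l ≫ p₁ = t ∧ l ≫ p₂ = u

variable {p₁ p₂}

theorem isIso_ofI (h : IsProd p₁ p₂) : IsIso (ofI h𝒳 x z p₁ p₂) := by
  have key : ∀ V : (Over S)ᵒᵖ, IsIso ((ofI h𝒳 x z p₁ p₂).app V) := by
    intro V
    rw [isIso_iff_bijective]
    constructor
    · rintro ⟨⟨⟨t, u, φ, o⟩⟩, h1⟩ ⟨⟨⟨t', u', φ', o'⟩⟩, h1'⟩ e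
      obtain rfl : t = u := h1
      obtain rfl : t' = u' := h1'
      have e' : (⟨t ≫ p₁, t ≫ p₂, φ, o⟩ : Sec x z V.unop) = ⟨t' ≫ p₁, t' ≫ p₂, φ', o'⟩ := congrArg ULift.down e
      have e1 : t ≫ p₁ = t' ≫ p₁ := congrArg (fun k => k.t) e'
      have e2 : t ≫ p₂ = t' ≫ p₂ := congrArg (fun k => k.u) e'
      obtain rfl : t = t' := (h (t ≫ p₁) (t ≫ p₂)).unique ⟨rfl, rfl⟩ ⟨e1.symm, e2.symm⟩
      injection e' with _ _ e3
      obtain rfl := e3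
      rfl
    · rintro ⟨⟨t, u, φ, o⟩⟩
      obtain ⟨l, ⟨rfl, rfl⟩, -⟩ := h t u
      exact ⟨⟨⟨⟨l, l, φ, o⟩⟩, rfl⟩, rfl⟩
  exact NatIso.isIso_of_isIso_app _

end K747.Sc
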