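import Groth.Agent.AlgSt.K747.Trans
import Groth.Agent.AlgSt.K747.Rep
import Groth.Agent.AlgSt.K739.Diag
import Groth.Agent.AlgSp.K609.Points
import Groth.Agent.AlgSp.K597.EtLoc
import Groth.Agent.AlgSp.K597.LocP
import Groth.Agent.S9874

set_option autoImplicit false
set_option backward.isDefEq.respectTransparency false
set_option backward.isDefEq.respectTransparency.types false
universe w v₂ u₂ v u

open CategoryTheory Opposite K734.Fib AlgebraicGeometry Limits

namespace K747.Sc

variable {S : Scheme.{u}} {𝒳 : BasedCategory.{u, w} (Over S)} (h𝒳 : FibCat.IsFibGrpd 𝒳.p)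
variable {T U : Over S} (x : FibCat.overCat T ⥤ᵇ 𝒳) (z : FibCat.overCat U ⥤ᵇ 𝒳)

/-- the presheaf of sections of a fibre product, in the universe of algebraic spaces -/
noncomputable abbrev P : AlgSp.PSp S := psh.{u + 1} h𝒳 x z

/-- the presheaf of isomorphisms, in the universe of algebraic spaces -/
noncomputable abbrev I (x x' : FibCat.overCat T ⥤ᵇ 𝒳) : AlgSp.PSp S := isoPsh.{u + 1} h𝒳 x x'

/-- first projection -/
noncomputable def prT : P h𝒳 x z ⟶ (AlgSp.pyon S).obj T where
  app V := ↾fun s => ⟨s.down.t⟩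
  naturality V V' g := by
    ext s
    exact congrArg ULift.up (isRes_res h𝒳 g.unop s.down).ht.symm

/-- second projection -/
noncomputable def prU : P h𝒳 x z ⟶ (AlgSp.pyon S).obj U where
  app V := ↾fun s => ⟨s.down.u⟩
  naturality V V' g := by
    ext s
    exact congrArg ULift.up (isRes_res h𝒳 g.unop s.down).hu.symm

/-- projection of the presheaf of isomorphisms -/
noncomputable def prI (x x' : FibCat.overCat T ⥤ᵇ 𝒳) : I h𝒳 x x' ⟶ (AlgSp.pyon S).obj T where
  app V := ↾fun s => ⟨s.1.down.t⟩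
  naturality V V' g := by
    ext s
    exact congrArg ULift.up (isRes_res h𝒳 g.unop s.1.down).ht.symm

theorem pMap_toFp_fst : Rep.pMap (BasedFunctor.comp (toFp.{u + 1} h𝒳 x z) (FibCat.fpFst x z)) = prT h𝒳 x z := by
  ext V s
  refine congrArg ULift.up ?_
  change eqToHom _ ≫ s.down.t = s.down.t
  simp

theorem pMap_toFp_snd : Rep.pMap (BasedFunctor.comp (toFp.{u + 1} h𝒳 x z) (FibCat.fpSnd x z)) = prU h𝒳 x z := by
  ext V s
  refine congrArg ULift.up ?_
  change eqToHom _ ≫ s.down.u = s.down.u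
  simp

variable {x z} in
/-- `P` has a property of algebraic spaces over `h_T` -/
theorem repByAlgSpWith_psh (Q : MorphismProperty (AlgSp.Sp S)) [Q.RespectsIso] (hz : AlgSt.RepByAlgSpWith Q z) :
    ∃ h : Presheaf.IsSheaf (AlgSp.J S) (P h𝒳 x z), AlgSp.IsAlgSpace (⟨P h𝒳 x z, h⟩ : AlgSp.Sp S) ∧
      Q (ObjectProperty.homMk (prT h𝒳 x z) : (⟨P h𝒳 x z, h⟩ : AlgSp.Sp S) ⟶ (AlgSp.yon S).obj T) := by
  obtain ⟨h, h1, h2⟩ := (Rep.with_iff Q (FibCat.fpFst x z) (toFp_isEquivOver.{u + 1} h𝒳 x z)).1 (hz T x)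
  refine ⟨h, h1, ?_⟩
  rw [← pMap_toFp_fst]
  exact h2

instance respectsIso_locP (Q : MorphismProperty Scheme.{u}) : (AlgSp.LocP (S := S) Q).RespectsIso :=
  MorphismProperty.RespectsIso.mk _
    (fun e f hf U V a b h ha hb hw => hf (a ≫ e.hom) b h
      (MorphismProperty.RespectsIso.postcomp (AlgSp.RepWith @Etale) e.hom a ha) hb (by rw [← hw, Category.assoc]))
    (fun e f hf U V a b h ha hb hw => hf a (b ≫ e.inv) h ha
      (MorphismProperty.RespectsIso.postcomp (AlgSp.RepWith @Etale) e.inv b hb)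
      (by rw [← Category.assoc, ← hw, Category.assoc, Category.assoc, e.hom_inv_id, Category.comp_id]))

theorem points_map_comp {F G H : AlgSp.Sp S} (f : F ⟶ G) (g : G ⟶ H) :
    AlgSp.Points.map (f ≫ g) = AlgSp.Points.map g ∘ AlgSp.Points.map f :=
  funext fun _ => AlgSp.Points.map_comp _ _ _

theorem points_map_iso {F G : AlgSp.Sp S} (e : F ≅ G) : Function.Surjective (AlgSp.Points.map e.hom) := by
  intro a
  refine ⟨AlgSp.Points.map e.inv a, ?_⟩
  have h1 : AlgSp.Points.map (e.inv ≫ e.hom) a = a := by rw [e.inv_hom_id]; exact AlgSp.Points.map_id _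
  rw [points_map_comp] at h1
  exact h1

instance respectsIso_surj : (AlgSp.IsSurjectiveMor (S := S)).RespectsIso :=
  MorphismProperty.RespectsIso.mk _
    (fun e f hf => by
      change Function.Surjective _
      rw [points_map_comp]
      exact hf.comp (points_map_iso e))
    (fun e f hf => by
      change Function.Surjective _
      rw [points_map_comp]
      exact (points_map_iso e).comp hf)

end K747.Sc
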