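import Groth.Agent.S0412
import Mathlib.AlgebraicGeometry.Morphisms.UniversallyOpen
import Mathlib.AlgebraicGeometry.Geometrically.Basic

/-!
# Étale quasi-sections of smooth morphisms hitting a given open subset of a fibre
-/

set_option autoImplicit false
set_option backward.isDefEq.respectTransparency false
universe u
open CategoryTheory CategoryTheory.Limits AlgebraicGeometry

namespace K747.QuasiSec

theorem exists_quasi_section {A S U E P : Scheme.{u}} {f : A ⟶ S} [Smooth f] {g : U ⟶ S} {fst : P ⟶ A} {snd : P ⟶ U}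
    (sq : IsPullback fst snd f g) (q : E ⟶ P) [Etale q] (e : E) :
    ∃ (S' : Scheme.{u}) (c : S' ⟶ S) (h : S' ⟶ A) (s' : S') (e' : E), Etale c ∧ h ≫ f = c ∧
      snd (q e') = snd (q e) ∧ fst (q e') = h s' := by
  let u := snd (q e)
  let s := g u
  obtain ⟨m, hm, hmf⟩ : ∃ m : snd.fiber u ⟶ f.fiber s, IsPullback m (snd.fiberToSpecResidueField u)
      (f.fiberToSpecResidueField s) (Spec.map (g.residueFieldMap u)) ∧ m ≫ f.fiberι s = snd.fiberι u ≫ fst :=
    ⟨_, isPullback_fiberToSpecResidueField_of_isPullback sq u, pullback.lift_fst _ _ _⟩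
  have hmo : UniversallyOpen m := MorphismProperty.of_isPullback (P := @UniversallyOpen) hm.flip inferInstance
  let W : Set (snd.fiber u) := (snd.fiberι u) ⁻¹' (Set.range q)
  have hW : IsOpen W := (q.isOpenMap.isOpen_range).preimage (snd.fiberι u).continuous
  have hO : IsOpen (m '' W) := m.isOpenMap _ hW
  obtain ⟨O, hO1, hO2⟩ := (f.fiberι s).isEmbedding.isOpen_iff.1 hO
  obtain ⟨p', hp'⟩ : ∃ p', snd.fiberι u p' = q e := by
    have : q e ∈ Set.range (snd.fiberι u) := by
      rw [Scheme.Hom.range_fiberι]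
      rfl
    exact this
  have hp'W : p' ∈ W := ⟨e, hp'.symm⟩
  have ha0 : f.fiberι s (m p') ∈ O := by
    have : m p' ∈ (f.fiberι s) ⁻¹' O := by
      rw [hO2]
      exact ⟨p', hp'W, rfl⟩
    exact this
  let O' : A.Opens := ⟨O, hO1⟩
  have hs : s ∈ Set.range (O'.ι ≫ f) := by
    refine ⟨⟨f.fiberι s (m p'), ha0⟩, ?_⟩
    rw [Scheme.Hom.comp_apply]
    change f (f.fiberι s (m p')) = s
    have : f.fiberι s (m p') ∈ f ⁻¹' {s} := by
      rw [← Scheme.Hom.range_fiberι]
      exact ⟨_, rfl⟩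
    exact this
  obtain ⟨S', c, s', hc, hcs, h, hh⟩ := Groth.Agent.S0412.result (O'.ι ≫ f) s hs
  have ha' : (O'.ι (h s')) ∈ Set.range (f.fiberι s) := by
    rw [Scheme.Hom.range_fiberι]
    change f (O'.ι (h s')) = s
    rw [← Scheme.Hom.comp_apply, ← Scheme.Hom.comp_apply, hh, hcs]
  obtain ⟨a'', ha''⟩ := ha'
  have : a'' ∈ m '' W := by
    rw [← hO2]
    change f.fiberι s a'' ∈ O
    rw [ha'']
    exact (h s').2
  obtain ⟨p'', ⟨e', he'⟩, rfl⟩ := this
  refine ⟨S', c, h ≫ O'.ι, s', e', hc, by rw [Category.assoc, hh], ?_, ?_⟩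
  · rw [he']
    have : snd.fiberι u p'' ∈ snd ⁻¹' {u} := by
      rw [← Scheme.Hom.range_fiberι]
      exact ⟨_, rfl⟩
    exact this
  · rw [he', Scheme.Hom.comp_apply, ← ha'', ← Scheme.Hom.comp_apply, ← Scheme.Hom.comp_apply, hmf]

end K747.QuasiSec
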