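import Groth.Prelude.Def_AlgSt
import Groth.Prelude.Def_AlgSt3
import Groth.Agent.AlgSt.K747.Fib
import Groth.Agent.AlgSt.K734.FibFp

set_option autoImplicit false
universe w v₃ u₃ v₂ u₂ v u

open CategoryTheory Opposite

namespace K747.Sc

variable {C : Type u} [Category.{v} C] {𝒳 : BasedCategory.{v₂, u₂} C}

/-- the morphism `mk (g ≫ t) ⟶ mk t` of `C/T` -/
abbrev om {T V V' : C} (g : V' ⟶ V) (t : V ⟶ T) (t' : V' ⟶ T) (h : g ≫ t = t') : Over.mk t' ⟶ Over.mk t :=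
  Over.homMk g h

theorem om_lift {T V V' : C} (x : FibCat.overCat T ⥤ᵇ 𝒳) (g : V' ⟶ V) (t : V ⟶ T) (t' : V' ⟶ T) (h : g ≫ t = t') :
    𝒳.p.IsHomLift g (x.map (om g t t' h)) := by
  have : (FibCat.overCat T).p.IsHomLift g (om g t t' h) := IsHomLift.map (FibCat.overCat T).p (om g t t' h)
  exact inferInstance

theorem p_obj {T V : C} (x : FibCat.overCat T ⥤ᵇ 𝒳) (t : V ⟶ T) : 𝒳.p.obj (x.obj (Over.mk t)) = V :=
  x.w_obj (Over.mk t)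

variable {T U : C} (x : FibCat.overCat T ⥤ᵇ 𝒳) (z : FibCat.overCat U ⥤ᵇ 𝒳)

/-- a section over `V` of the fibre product of `x` and `z` -/
structure Sec (V : C) : Type (max v v₂) where
  t : V ⟶ T
  u : V ⟶ U
  φ : x.obj (Over.mk t) ⟶ z.obj (Over.mk u)
  over : 𝒳.p.IsHomLift (𝟙 V) φ

variable {x z}

/-- `s'` is the restriction of `s` along `g` -/
structure IsRes {V V' : C} (g : V' ⟶ V) (s : Sec x z V) (s' : Sec x z V') : Prop where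
  ht : g ≫ s.t = s'.t
  hu : g ≫ s.u = s'.u
  hφ : s'.φ ≫ z.map (om g s.u s'.u hu) = x.map (om g s.t s'.t ht) ≫ s.φ

theorem IsRes.id {V : C} (s : Sec x z V) : IsRes (𝟙 V) s s := by
  refine ⟨Category.id_comp _, Category.id_comp _, ?_⟩
  have h1 : om (𝟙 V) s.u s.u (Category.id_comp _) = 𝟙 _ := by ext; rfl
  have h2 : om (𝟙 V) s.t s.t (Category.id_comp _) = 𝟙 _ := by ext; rfl
  rw [h1, h2]
  erw [x.map_id, z.map_id]
  simp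

theorem IsRes.comp {V V' V'' : C} {g : V' ⟶ V} {g' : V'' ⟶ V'} {s : Sec x z V} {s' : Sec x z V'} {s'' : Sec x z V''}
    (h : IsRes g s s') (h' : IsRes g' s' s'') : IsRes (g' ≫ g) s s'' := by
  obtain ⟨ht, hu, hφ⟩ := h
  obtain ⟨ht', hu', hφ'⟩ := h'
  have ht2 : (g' ≫ g) ≫ s.t = s''.t := by rw [Category.assoc, ht, ht']
  have hu2 : (g' ≫ g) ≫ s.u = s''.u := by rw [Category.assoc, hu, hu']
  refine ⟨ht2, hu2, ?_⟩
  have h1 : om (g' ≫ g) s.u s''.u hu2 = om g' s'.u s''.u hu' ≫ om g s.u s'.u hu := by ext; rfl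
  have h2 : om (g' ≫ g) s.t s''.t ht2 = om g' s'.t s''.t ht' ≫ om g s.t s'.t ht := by ext; rfl
  rw [h1, h2]
  erw [x.map_comp, z.map_comp]
  rw [← Category.assoc]
  erw [hφ', Category.assoc, hφ, Category.assoc]

theorem exists_isRes (h𝒳 : FibCat.IsFibGrpd 𝒳.p) {V V' : C} (g : V' ⟶ V) (s : Sec x z V) : ∃ s', IsRes g s s' := by
  have hs := s.over
  have h1 : 𝒳.p.IsHomLift g (x.map (om g s.t _ rfl) ≫ s.φ) :=
    Fib.isHomLift_comp_id (om_lift x g s.t _ rfl) hs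
  obtain ⟨φ, ⟨hφ, e⟩, -⟩ := Fib.existsUnique_fac h𝒳 (om_lift z g s.u _ rfl) h1 (𝟙 V') (Category.id_comp _)
  exact ⟨⟨g ≫ s.t, g ≫ s.u, φ, hφ⟩, rfl, rfl, e⟩

theorem IsRes.unique (h𝒳 : FibCat.IsFibGrpd 𝒳.p) {V V' : C} {g : V' ⟶ V} {s : Sec x z V} {s₁ s₂ : Sec x z V'}
    (h₁ : IsRes g s s₁) (h₂ : IsRes g s s₂) : s₁ = s₂ := by
  obtain ⟨t₁, u₁, φ₁, o₁⟩ := s₁
  obtain ⟨t₂, u₂, φ₂, o₂⟩ := s₂
  obtain ⟨ht₁, hu₁, hφ₁⟩ := h₁
  obtain ⟨ht₂, hu₂, hφ₂⟩ := h₂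
  dsimp only at ht₁ ht₂ hu₁ hu₂
  subst ht₁ hu₁ ht₂ hu₂
  have : φ₁ = φ₂ := Fib.hom_ext h𝒳 (om_lift z g s.u _ rfl) o₁ o₂ (hφ₁.trans hφ₂.symm)
  subst this
  rfl

/-- the restriction -/
noncomputable def res (h𝒳 : FibCat.IsFibGrpd 𝒳.p) {V V' : C} (g : V' ⟶ V) (s : Sec x z V) : Sec x z V' :=
  (exists_isRes h𝒳 g s).choose

theorem isRes_res (h𝒳 : FibCat.IsFibGrpd 𝒳.p) {V V' : C} (g : V' ⟶ V) (s : Sec x z V) : IsRes g s (res h𝒳 g s) :=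
  (exists_isRes h𝒳 g s).choose_spec

theorem res_eq_iff (h𝒳 : FibCat.IsFibGrpd 𝒳.p) {V V' : C} {g : V' ⟶ V} {s : Sec x z V} {s' : Sec x z V'} :
    res h𝒳 g s = s' ↔ IsRes g s s' :=
  ⟨fun h => h ▸ isRes_res h𝒳 g s, fun h => (isRes_res h𝒳 g s).unique h𝒳 h⟩

/-- the presheaf of sections of the fibre product of `x` and `z` -/
noncomputable def psh (h𝒳 : FibCat.IsFibGrpd 𝒳.p) (x : FibCat.overCat T ⥤ᵇ 𝒳) (z : FibCat.overCat U ⥤ᵇ 𝒳) :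
    Cᵒᵖ ⥤ Type (max w v v₂) where
  obj V := ULift.{w} (Sec x z V.unop)
  map g := ↾fun s => ⟨res h𝒳 g.unop s.down⟩
  map_id V := by
    ext s
    exact (res_eq_iff h𝒳).2 (IsRes.id _)
  map_comp g g' := by
    ext s
    exact (res_eq_iff h𝒳).2 ((isRes_res h𝒳 g.unop s.down).comp (isRes_res h𝒳 g'.unop _))

theorem psh_map_eq_iff (h𝒳 : FibCat.IsFibGrpd 𝒳.p) {V V' : Cᵒᵖ} {g : V ⟶ V'}
    {s : (psh.{w} h𝒳 x z).obj V} {s' : (psh.{w} h𝒳 x z).obj V'} :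
    (psh.{w} h𝒳 x z).map g s = s' ↔ IsRes g.unop s.down s'.down := by
  rw [← res_eq_iff h𝒳]
  constructor
  · intro h; exact congrArg ULift.down h
  · intro h; exact ULift.ext _ _ h

end K747.Sc
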