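import Groth.Agent.AlgSt.K747.NearEt
import Groth.Agent.AlgSp.K613.Cover
import Groth.Agent.AlgSp.K606.Boot
import Groth.Agent.AlgSp.K597.EtLoc

/-!
# Étaleness at all points from étaleness along the unit section (sheaf level)
-/

set_option autoImplicit false
set_option backward.isDefEq.respectTransparency false
set_option backward.isDefEq.respectTransparency.types false
universe u
open CategoryTheory CategoryTheory.Limits AlgebraicGeometry AlgSp

namespace K747.SliceAbs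

open K616.Near K747.NearEt

variable {S : Scheme.{u}}

/-- étaleness near a point of the source may be tested after an étale map to the source -/
theorem hasAtMor_precomp_iff {X' X Y : Sp S} (hX' : IsAlgSpace X') (hY : IsAlgSpace Y) {i : X' ⟶ X}
    (hi : RepWith @Etale i) (f : X ⟶ Y) (x' : Points X') :
    HasAtMor (Near @Etale) (i ≫ f) x' ↔ HasAtMor (Near @Etale) f (Points.map i x') := by
  obtain ⟨U, V, a, b, h, u, ha, hb, w, rfl⟩ := K616.Inv.exists_diagram hX' hY (i ≫ f) x'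
  rw [K616.Inv.hasAtMor_iff (etInvOn_near K597.etLoc_etale) (K616.Inv.locP_top _) a b h ha hb w u]
  have h1 : Points.map i (Points.ofPt a u) = Points.ofPt (a ≫ i) u := by
    rw [Points.ofPt_eq_map_ofScheme, Points.ofPt_eq_map_ofScheme (a ≫ i), ← Points.map_comp]
  rw [h1, K616.Inv.hasAtMor_iff (etInvOn_near K597.etLoc_etale) (K616.Inv.locP_top _) (a ≫ i) b h (K597.etale_comp ha hi) hb
    (by rw [Category.assoc, w]) u]

/-- a pullback square stays a pullback after adding a factor -/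
theorem isPullback_prod {T A X₁ X₃ N : Sp S} {c : N ⟶ X₃} {a : N ⟶ X₁} {t₃ : X₃ ⟶ T} {t₁ : X₁ ⟶ T}
    (sq : IsPullback c a t₃ t₁) (δ : X₃ ⟶ A) :
    IsPullback c (prod.lift a (c ≫ δ)) (prod.lift t₃ δ) (prod.map t₁ (𝟙 A)) := by
  refine K613.Basic.isPullback_of_yon ?_ ?_
  · rw [prod.comp_lift, prod.lift_map, sq.w, Category.comp_id]
  · intro T' p q hpq
    have h1 : p ≫ t₃ = (q ≫ prod.fst) ≫ t₁ := by
      have := congrArg (fun k => k ≫ prod.fst) hpq
      simpa using this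
    have h2 : p ≫ δ = q ≫ prod.snd := by
      have := congrArg (fun k => k ≫ prod.snd) hpq
      simpa using this
    refine ⟨sq.lift p (q ≫ prod.fst) h1, ⟨sq.lift_fst _ _ _, ?_⟩, ?_⟩
    · apply Limits.prod.hom_ext
      · rw [Category.assoc, prod.lift_fst, sq.lift_snd]
      · rw [Category.assoc, prod.lift_snd, ← Category.assoc, sq.lift_fst, h2]
    · rintro n ⟨rfl, rfl⟩
      apply sq.hom_ext
      · rw [sq.lift_fst]
      · rw [sq.lift_snd, Category.assoc, prod.lift_fst]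

theorem isPullback_prodFst {T A X₁ : Sp S} (t₁ : X₁ ⟶ T) :
    IsPullback (prod.fst : X₁ ⨯ A ⟶ X₁) (prod.map t₁ (𝟙 A)) t₁ (prod.fst : T ⨯ A ⟶ T) := by
  refine K613.Basic.isPullback_of_yon (prod.map_fst _ _).symm ?_
  intro T' p q hpq
  refine ⟨prod.lift p (q ≫ prod.snd), ⟨prod.lift_fst _ _, ?_⟩, ?_⟩
  · apply Limits.prod.hom_ext
    · rw [Category.assoc, prod.map_fst, ← Category.assoc, prod.lift_fst, hpq]
    · rw [Category.assoc, prod.map_snd, ← Category.assoc, prod.lift_snd, Category.comp_id]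
  · rintro n ⟨rfl, rfl⟩
    apply Limits.prod.hom_ext
    · rw [prod.lift_fst]
    · rw [prod.lift_snd, Category.assoc, prod.map_snd, Category.comp_id]

theorem locP_lift {T A X : Sp S} (hT : IsAlgSpace T) (hA : IsAlgSpace A) (hX : IsAlgSpace X) {t : X ⟶ T} (δ : X ⟶ A)
    (h : LocP @LocallyOfFiniteType t) : LocP @LocallyOfFiniteType (prod.lift t δ) := by
  refine K597.locP_of_comp' K597.etLoc_lft (fun A B C u v h => ?_) hX.hasAtlas
    (K606.Boot.isAlgSpace_prod hT hA).hasAtlas hT.hasAtlas (g := prod.fst) (by rwa [prod.lift_fst])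
  have : LocallyOfFiniteType (u ≫ v) := h
  exact locallyOfFiniteType_of_comp u v

/-- the main formal step -/
theorem hasAt_of_unit {T U V A X₁ X₂ X₃ N : Sp S} (hT : IsAlgSpace T) (hU : IsAlgSpace U) (hA : IsAlgSpace A)
    (h₁ : IsAlgSpace X₁) (h₂ : IsAlgSpace X₂) (h₃ : IsAlgSpace X₃) (hN : IsAlgSpace N)
    {a : N ⟶ X₁} {b : N ⟶ X₂} {c : N ⟶ X₃} {t₁ : X₁ ⟶ T} {u₁ : X₁ ⟶ U} {t₂ : X₂ ⟶ U} {u₂ : X₂ ⟶ V} {t₃ : X₃ ⟶ T}
    {u₃ : X₃ ⟶ V} {e : V ⟶ X₂} {σ : X₃ ⟶ N} (γ : V ⟶ A)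
    (sq₁ : IsPullback a b u₁ t₂) (sq₂ : IsPullback c a t₃ t₁) (hcb : c ≫ u₃ = b ≫ u₂)
    (hσc : σ ≫ c = 𝟙 _) (hσb : σ ≫ b = u₃ ≫ e) (ht₁ : LocP @Smooth t₁) (ht₃ : LocP @LocallyOfFiniteType t₃)
    (ρ : Points X₃)
    (H : HasAtMor (Near @Etale) (prod.lift t₂ (u₂ ≫ γ)) (Points.map e (Points.map u₃ ρ))) :
    HasAtMor (Near @Etale) (prod.lift t₃ (u₃ ≫ γ)) ρ := by
  have hUA := K606.Boot.isAlgSpace_prod hU hA
  have hTA := K606.Boot.isAlgSpace_prod hT hA
  have hXA := K606.Boot.isAlgSpace_prod h₁ hA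
  -- the two squares
  have s1 := isPullback_prod sq₁.flip (u₂ ≫ γ)
  have s2 := isPullback_prod sq₂ (u₃ ≫ γ)
  have e1 : c ≫ u₃ ≫ γ = b ≫ u₂ ≫ γ := by rw [← Category.assoc, hcb, Category.assoc]
  have e2 : Points.map b (Points.map σ ρ) = Points.map e (Points.map u₃ ρ) := by
    rw [← Points.map_comp, ← Points.map_comp, hσb]
  have e3 : Points.map c (Points.map σ ρ) = ρ := by
    rw [← Points.map_comp, hσc, Points.map_id]
  rw [← e2] at H
  have H1 := hasAtMor_of_bc h₂ hUA hXA hN s1 _ H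
  rw [← e1] at H1
  have hsm : LocP @Smooth (prod.map t₁ (𝟙 A)) :=
    K597.locP_bc K597.etLoc_smooth (isPullback_prodFst t₁) h₁.hasAtlas hT.hasAtlas hTA.hasAtlas ht₁
  have H2 := hasAtMor_of_smooth_bc h₃ hTA hXA hN s2 (locP_lift hT hA h₃ _ ht₃) hsm _ H1
  rw [e3] at H2
  exact H2

end K747.SliceAbs
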