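import Groth.Agent.AlgSt.K747.SliceUnit
import Groth.Agent.AlgSt.K747.QuasiSec

/-!
# Étale slices
-/

set_option autoImplicit false
set_option backward.isDefEq.respectTransparency false
set_option backward.isDefEq.respectTransparency.types false
universe w v₂ u₂ v u

open CategoryTheory Opposite K734.Fib AlgebraicGeometry Limits

namespace K747.SliceSt

open K747.Sc AlgSp K616.Near

variable {S : Scheme.{u}} {𝒳 : BasedCategory.{u, w} (Over S)} (h𝒳 : FibCat.IsFibGrpd 𝒳.p)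
variable {U : Over S} {y : FibCat.overCat U ⥤ᵇ 𝒳} (hy : AlgSt.RepByAlgSpWith (AlgSp.LocP @Smooth) y)

section vi

variable {T V V' : Over S} (x : FibCat.overCat T ⥤ᵇ 𝒳) (j : V ⟶ U) (ι : V' ⟶ V)

/-- `P(x, y ∘ j ∘ ι) ⟶ P(x, y ∘ j)` -/
noncomputable def vi : PV h𝒳 hy x (ι ≫ j) ⟶ PV h𝒳 hy x j :=
  (isPullback_vw h𝒳 hy x j).lift (vw h𝒳 hy x (ι ≫ j)) (vV h𝒳 hy x (ι ≫ j) ≫ (yon S).map ι)
    (by rw [Category.assoc, ← Functor.map_comp]; exact (isPullback_vw h𝒳 hy x (ι ≫ j)).w)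

theorem vi_vw : vi h𝒳 hy x j ι ≫ vw h𝒳 hy x j = vw h𝒳 hy x (ι ≫ j) := (isPullback_vw h𝒳 hy x j).lift_fst _ _ _

theorem vi_vV : vi h𝒳 hy x j ι ≫ vV h𝒳 hy x j = vV h𝒳 hy x (ι ≫ j) ≫ (yon S).map ι :=
  (isPullback_vw h𝒳 hy x j).lift_snd _ _ _

theorem vi_vT : vi h𝒳 hy x j ι ≫ vT h𝒳 hy x j = vT h𝒳 hy x (ι ≫ j) := by
  rw [← vw_wT, ← vw_wT, ← Category.assoc, vi_vw]

theorem isPullback_vi : IsPullback (vi h𝒳 hy x j ι) (vV h𝒳 hy x (ι ≫ j)) (vV h𝒳 hy x j) ((yon S).map ι) := by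
  refine IsPullback.of_right (h₁₂ := vw h𝒳 hy x j) (h₂₂ := (yon S).map j) (v₁₃ := wU h𝒳 hy x) ?_ (vi_vV h𝒳 hy x j ι) (isPullback_vw h𝒳 hy x j)
  rw [vi_vw, ← Functor.map_comp]
  exact isPullback_vw h𝒳 hy x (ι ≫ j)

theorem unit_sec_eq {W : Over S} {a b : W ⟶ U} (h : a = b) :
    (⟨a, a, 𝟙 _, IsHomLift.id (p_obj y a)⟩ : Sec y y W) = ⟨b, b, 𝟙 _, IsHomLift.id (p_obj y b)⟩ := by
  subst h
  rfl

theorem un_vi : un h𝒳 hy (ι ≫ j) ≫ vi h𝒳 hy y j ι = (yon S).map ι ≫ un h𝒳 hy j := by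
  apply (isPullback_vw h𝒳 hy y j).hom_ext
  · rw [Category.assoc, vi_vw, Category.assoc]
    apply ObjectProperty.hom_ext
    ext W v
    refine ULift.ext _ _ ?_
    exact unit_sec_eq (Category.assoc _ _ _).symm
  · rw [Category.assoc, vi_vV, Category.assoc, un_vV, Category.comp_id]
    rfl

end vi

/-- étale coordinates: `P(x, y ∘ j) ⟶ h_T × h_A` is étale for all `x` -/
theorem exists_slice (hdm : AlgSt.IsDMOver 𝒳) (u : U.left) :
    ∃ (V A : Over S) (j : V ⟶ U) (γ : V ⟶ A) (v : V.left), IsOpenImmersion j.left ∧ Smooth A.hom ∧ j.left v = u ∧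
      ∀ (T : Over S) (x : FibCat.overCat T ⥤ᵇ 𝒳),
        LocP @Etale (prod.lift (vT h𝒳 hy x j) (vV h𝒳 hy x j ≫ (yon S).map γ)) := by
  obtain ⟨V, A, j, γ, v, hj, hA, hv, H⟩ := exists_coord_unit h𝒳 hy hdm u
  let Q : Set (Points (PV h𝒳 hy y j)) := {ρ | HasAtMor (Near @Etale) (prod.lift (vT h𝒳 hy y j) (vV h𝒳 hy y j ≫ (yon S).map γ)) ρ}
  have hQ : IsOpen Q := isOpen_near _ _
  have hc : Continuous (Points.ofPt (un h𝒳 hy j)) := Points.continuous_ofPt _
  let O : V.left.Opens := ⟨Points.ofPt (un h𝒳 hy j) ⁻¹' Q, hQ.preimage hc⟩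
  have hvO : v ∈ O := by
    change Points.ofPt (un h𝒳 hy j) v ∈ Q
    rw [Points.ofPt_eq_map_ofScheme]
    exact H
  let V0 : Over S := Over.mk (O.ι ≫ V.hom)
  let ι : V0 ⟶ V := Over.homMk O.ι rfl
  have hι : IsOpenImmersion ι.left := inferInstanceAs (IsOpenImmersion O.ι)
  have hj0 : IsOpenImmersion (ι ≫ j).left := by
    rw [Over.comp_left]
    infer_instance
  refine ⟨V0, A, ι ≫ j, ι ≫ γ, ⟨v, hvO⟩, hj0, hA, ?_, ?_⟩
  · rw [Over.comp_left, Scheme.Hom.comp_apply, ← hv]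
    rfl
  · have key : ∀ v0 : V0.left, HasAtMor (Near @Etale) (prod.lift (vT h𝒳 hy y (ι ≫ j)) (vV h𝒳 hy y (ι ≫ j) ≫ (yon S).map (ι ≫ γ)))
        (Points.map (un h𝒳 hy (ι ≫ j)) (Points.ofScheme V0 v0)) := by
      intro v0
      have e1 : prod.lift (vT h𝒳 hy y (ι ≫ j)) (vV h𝒳 hy y (ι ≫ j) ≫ (yon S).map (ι ≫ γ)) =
          vi h𝒳 hy y j ι ≫ prod.lift (vT h𝒳 hy y j) (vV h𝒳 hy y j ≫ (yon S).map γ) := by
        apply Limits.prod.hom_ext
        · rw [prod.lift_fst, Category.assoc, prod.lift_fst, vi_vT]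
        · rw [prod.lift_snd, Category.assoc, prod.lift_snd, ← Category.assoc, vi_vV, Category.assoc, Functor.map_comp]
      have hi : RepWith @Etale (vi h𝒳 hy y j ι) := K597.repWith_bc' _ (isPullback_vi h𝒳 hy y j ι)
        ((repWith_yon_map_iff _ _).2 inferInstance)
      rw [e1, K747.SliceAbs.hasAtMor_precomp_iff (isAlg_PV h𝒳 hy y (ι ≫ j))
        (K606.Boot.isAlgSpace_prod (IsAlgSpace.yon_obj U) (IsAlgSpace.yon_obj A)) hi, ← Points.map_comp, un_vi, Points.map_comp,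
        K609.Points.map_yon_map_ofScheme, ← Points.ofPt_eq_map_ofScheme]
      exact v0.2
    intro T x
    rw [locP_iff_near K597.etLoc_etale (isAlg_PV h𝒳 hy x (ι ≫ j))
      (K606.Boot.isAlgSpace_prod (IsAlgSpace.yon_obj T) (IsAlgSpace.yon_obj A))]
    intro ρ
    refine hasAt_of_unit h𝒳 hy x (ι ≫ j) (ι ≫ γ) inferInstance ρ ?_
    obtain ⟨v0, hv0⟩ := K609.Points.ofScheme_surjective V0 (Points.map (vV h𝒳 hy x (ι ≫ j)) ρ)
    rw [← hv0]
    exact key v0

theorem isPullback_prod' {T A X X' S' : Sp S} {c : X' ⟶ X} {b : X' ⟶ S'} {δ : X ⟶ A} {h : S' ⟶ A}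
    (sq : IsPullback c b δ h) (t : X ⟶ T) :
    IsPullback c (prod.lift (c ≫ t) b) (prod.lift t δ) (prod.map (𝟙 T) h) := by
  refine K613.Basic.isPullback_of_yon ?_ ?_
  · rw [prod.comp_lift, prod.lift_map, sq.w, Category.comp_id]
  · intro W p q hpq
    have h1 : p ≫ δ = (q ≫ prod.snd) ≫ h := by
      have := congrArg (fun k => k ≫ prod.snd) hpq
      simpa only [Category.assoc, prod.lift_snd, prod.map_snd] using this
    have h2 : p ≫ t = q ≫ prod.fst := by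
      have := congrArg (fun k => k ≫ prod.fst) hpq
      simpa only [Category.assoc, prod.lift_fst, prod.map_fst, Category.comp_id] using this
    refine ⟨sq.lift p (q ≫ prod.snd) h1, ⟨sq.lift_fst _ _ _, ?_⟩, ?_⟩
    · apply Limits.prod.hom_ext
      · rw [Category.assoc, prod.lift_fst, ← Category.assoc, sq.lift_fst, h2]
      · rw [Category.assoc, prod.lift_snd, sq.lift_snd]
    · rintro m ⟨hm1, hm2⟩
      apply sq.hom_ext
      · rw [sq.lift_fst, hm1]
      · rw [sq.lift_snd, ← hm2, Category.assoc, prod.lift_snd]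

theorem locP_fst_etale (T A : Over S) (hA : Etale A.hom) :
    LocP @Etale (prod.fst : (yon S).obj T ⨯ (yon S).obj A ⟶ (yon S).obj T) := by
  have h1 : RepWith @Etale ((yon S).map (pr1 T A)) := (repWith_yon_map_iff _ _).2 (by
    change Etale (pullback.fst T.hom A.hom)
    infer_instance)
  have h2 : (prod.fst : (yon S).obj T ⨯ (yon S).obj A ⟶ (yon S).obj T) = inv (prY T A) ≫ (yon S).map (pr1 T A) := by
    rw [IsIso.eq_inv_comp, prY, prod.lift_fst]
  rw [h2]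
  exact K597.locP_of_repWith K597.etLoc_etale.precomp (K597.etale_comp (K598.RepKit.repWith_of_isIso _) h1)

/-- étale charts through (the class of) every point -/
theorem exists_etale_slice (hdm : AlgSt.IsDMOver 𝒳) (u : U.left) :
    ∃ (V : Over S) (j : V ⟶ U), (∀ (T : Over S) (x : FibCat.overCat T ⥤ᵇ 𝒳), LocP @Etale (vT h𝒳 hy x j)) ∧
      ∃ r : Points (PV h𝒳 hy y j), Points.map (vT h𝒳 hy y j) r = Points.ofScheme U u := by
  obtain ⟨V, A, j, γ, v, hj, hA, hv, H⟩ := exists_slice h𝒳 hy hdm u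
  obtain ⟨E, ε, hε, hεs⟩ := (isAlg_PV h𝒳 hy y j).hasAtlas
  obtain ⟨e, he⟩ := K609.Points.surjective_ofPt_of_repWith_surjective hεs (Points.map (un h𝒳 hy j) (Points.ofScheme V v))
  obtain ⟨q, hq⟩ := (yon S).map_surjective (ε ≫ prod.lift (vT h𝒳 hy y j) (vV h𝒳 hy y j ≫ (yon S).map γ) ≫ inv (prY U A))
  have hqe : Etale q.left := H U y ε (prY U A) q hε (repWith_prY _ _ _) (by
    rw [hq, Category.assoc, Category.assoc, IsIso.inv_hom_id, Category.comp_id])
  have hq1 : q ≫ pr1 U A = (yon S).preimage (ε ≫ vT h𝒳 hy y j) := by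
    apply (yon S).map_injective
    rw [(yon S).map_preimage, Functor.map_comp, hq]
    have : (yon S).map (pr1 U A) = prY U A ≫ prod.fst := by rw [prY, prod.lift_fst]
    rw [this, Category.assoc, Category.assoc, IsIso.inv_hom_id_assoc, prod.lift_fst]
  have hq2 : q ≫ pr2 U A = (yon S).preimage (ε ≫ vV h𝒳 hy y j ≫ (yon S).map γ) := by
    apply (yon S).map_injective
    rw [(yon S).map_preimage, Functor.map_comp, hq]
    have : (yon S).map (pr2 U A) = prY U A ≫ prod.snd := by rw [prY, prod.lift_snd]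
    rw [this, Category.assoc, Category.assoc, IsIso.inv_hom_id_assoc, prod.lift_snd]
  have hsq : IsPullback (pullback.snd U.hom A.hom) (pullback.fst U.hom A.hom) A.hom U.hom :=
    (IsPullback.of_hasPullback U.hom A.hom).flip
  obtain ⟨S', c, h, s', e', hc, hh, h1, h2⟩ := QuasiSec.exists_quasi_section hsq q.left e
  let S1 : Over S := Over.mk c
  let h' : S1 ⟶ A := Over.homMk h hh
  have sqV := (IsPullback.of_hasPullback γ h').map (yon S)
  have sq1 : ∀ (T : Over S) (x : FibCat.overCat T ⥤ᵇ 𝒳), IsPullback (vi h𝒳 hy x j (pullback.fst γ h'))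
      (vV h𝒳 hy x (pullback.fst γ h' ≫ j) ≫ (yon S).map (pullback.snd γ h')) (vV h𝒳 hy x j ≫ (yon S).map γ) ((yon S).map h') :=
    fun T x => (isPullback_vi h𝒳 hy x j (pullback.fst γ h')).paste_vert sqV
  refine ⟨pullback γ h', pullback.fst γ h' ≫ j, ?_, ?_⟩
  · intro T x
    have sq2 := isPullback_prod' (sq1 T x) (vT h𝒳 hy x j)
    have hTA := K606.Boot.isAlgSpace_prod (IsAlgSpace.yon_obj (S := S) T) (IsAlgSpace.yon_obj A)
    have hTS := K606.Boot.isAlgSpace_prod (IsAlgSpace.yon_obj (S := S) T) (IsAlgSpace.yon_obj S1)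
    have h3 := K597.locP_bc K597.etLoc_etale sq2 (isAlg_PV h𝒳 hy x j).hasAtlas hTA.hasAtlas hTS.hasAtlas (H T x)
    rw [← vi_vT, show vi h𝒳 hy x j (pullback.fst γ h') ≫ vT h𝒳 hy x j = prod.lift (vi h𝒳 hy x j (pullback.fst γ h') ≫ vT h𝒳 hy x j)
      (vV h𝒳 hy x (pullback.fst γ h' ≫ j) ≫ (yon S).map (pullback.snd γ h')) ≫ prod.fst from (prod.lift_fst _ _).symm]
    exact K597.locP_postcomp K597.etLoc_etale (isAlg_PV h𝒳 hy x _).hasAtlas hTS.hasAtlas (IsAlgSpace.yon_obj T).hasAtlas h3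
      (locP_fst_etale T S1 hc)
  · obtain ⟨r, hr1, hr2⟩ := K609.Points.exists_of_isPullback (sq1 U y) (Points.ofPt ε e') (Points.ofScheme S1 s') (by
      rw [Points.map_ofPt, K609.Points.map_yon_map_ofScheme]
      have : ε ≫ vV h𝒳 hy y j ≫ (yon S).map γ = (yon S).map (q ≫ pr2 U A) := by rw [hq2, (yon S).map_preimage]
      rw [this, K609.Points.ofPt_yon_map]
      congr 1)
    refine ⟨r, ?_⟩
    rw [← vi_vT, Points.map_comp, hr1, Points.map_ofPt]
    have : ε ≫ vT h𝒳 hy y j = (yon S).map (q ≫ pr1 U A) := by rw [hq1, (yon S).map_preimage]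
    rw [this, K609.Points.ofPt_yon_map]
    have k1 : (q ≫ pr1 U A).left e' = (q ≫ pr1 U A).left e := h1
    rw [k1, ← K609.Points.ofPt_yon_map, ← this, ← Points.map_ofPt, he, ← Points.map_comp, un_vT, K609.Points.map_yon_map_ofScheme, hv]

end K747.SliceSt
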