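import Groth.Agent.AlgSt.K747.MulT
import Groth.Agent.AlgSt.K747.PairI
import Groth.Agent.AlgSt.K747.DiagRep
import Groth.Agent.AlgSt.K747.SliceAbs
import Groth.Agent.AlgSt.K747.EtCoord

/-!
# Étale slices of a smooth chart of a stack with unramified diagonal
-/

set_option autoImplicit false
set_option backward.isDefEq.respectTransparency false
set_option backward.isDefEq.respectTransparency.types false
universe w v₂ u₂ v u

open CategoryTheory Opposite K734.Fib AlgebraicGeometry Limits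

namespace K747.SliceSt

open K747.Sc AlgSp K616.Near

variable {S : Scheme.{u}} {𝒳 : BasedCategory.{u, w} (Over S)} (h𝒳 : FibCat.IsFibGrpd 𝒳.p)
variable {U : Over S} {y : FibCat.overCat U ⥤ᵇ 𝒳} (hy : AlgSt.RepByAlgSpWith (AlgSp.LocP @Smooth) y)
variable {T V : Over S} (x : FibCat.overCat T ⥤ᵇ 𝒳) (j : V ⟶ U)

include hy in
theorem algP : AlgSp.IsAlgSpaceP (P h𝒳 x y) := by
  obtain ⟨h, h1, -⟩ := repByAlgSpWith_psh (x := x) h𝒳 _ hy
  exact ⟨h, h1⟩

include hy in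
theorem algPj : AlgSp.IsAlgSpaceP (P h𝒳 x (BasedFunctor.comp (AlgSt.overMap j) y)) :=
  isAlgSpaceP_of_isPullback (isPullback_bcU h𝒳 x y j) (algP h𝒳 hy x)
    ⟨((AlgSp.yon S).obj V).property, AlgSp.IsAlgSpace.yon_obj V⟩

/-- the algebraic space `P(x, y)` -/
noncomputable def PW : Sp S := ⟨P h𝒳 x y, (algP h𝒳 hy x).1⟩

/-- the algebraic space `P(x, y ∘ j)` -/
noncomputable def PV : Sp S := ⟨P h𝒳 x (BasedFunctor.comp (AlgSt.overMap j) y), (algPj h𝒳 hy x j).1⟩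

theorem isAlg_PW : IsAlgSpace (PW h𝒳 hy x) := (algP h𝒳 hy x).2
theorem isAlg_PV : IsAlgSpace (PV h𝒳 hy x j) := (algPj h𝒳 hy x j).2

noncomputable def wT : PW h𝒳 hy x ⟶ (yon S).obj T := ObjectProperty.homMk (prT h𝒳 x y)
noncomputable def wU : PW h𝒳 hy x ⟶ (yon S).obj U := ObjectProperty.homMk (prU h𝒳 x y)
noncomputable def vT : PV h𝒳 hy x j ⟶ (yon S).obj T := ObjectProperty.homMk (prT h𝒳 x (BasedFunctor.comp (AlgSt.overMap j) y))
noncomputable def vV : PV h𝒳 hy x j ⟶ (yon S).obj V := ObjectProperty.homMk (prU h𝒳 x (BasedFunctor.comp (AlgSt.overMap j) y))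
noncomputable def vw : PV h𝒳 hy x j ⟶ PW h𝒳 hy x := ObjectProperty.homMk (bcU h𝒳 x y j)
/-- the unit section -/
noncomputable def un : (yon S).obj V ⟶ PV h𝒳 hy y j := ObjectProperty.homMk (unitU h𝒳 y j)

theorem un_vV : un h𝒳 hy j ≫ vV h𝒳 hy y j = 𝟙 _ := rfl
theorem un_vT : un h𝒳 hy j ≫ vT h𝒳 hy y j = (yon S).map j := rfl
theorem vw_wT : vw h𝒳 hy x j ≫ wT h𝒳 hy x = vT h𝒳 hy x j := rfl

theorem isPullback_vw : IsPullback (vw h𝒳 hy x j) (vV h𝒳 hy x j) (wU h𝒳 hy x) ((yon S).map j) :=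
  IsPullback.of_map_of_faithful (sheafToPresheaf (AlgSp.J S) (Type (u + 1))) (isPullback_bcU h𝒳 x y j)

theorem smooth_wT : LocP @Smooth (wT h𝒳 hy x) := by
  obtain ⟨h, h1, h2⟩ := repByAlgSpWith_psh (x := x) h𝒳 _ hy
  exact h2

theorem lft_of_smooth {F G : Sp S} {f : F ⟶ G} (h : LocP @Smooth f) : LocP @LocallyOfFiniteType f :=
  K597.locP_mono (fun _ _ f (_ : Smooth f) => (inferInstance : LocallyOfFiniteType f)) h

/-- étale at one point of the unit section implies étale at all points above -/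
theorem hasAt_of_unit {A : Over S} (γ : V ⟶ A) (hj : Etale j.left) (ρ : Points (PV h𝒳 hy x j))
    (H : HasAtMor (Near @Etale) (prod.lift (vT h𝒳 hy y j) (vV h𝒳 hy y j ≫ (yon S).map γ))
      (Points.map (un h𝒳 hy j) (Points.map (vV h𝒳 hy x j) ρ))) :
    HasAtMor (Near @Etale) (prod.lift (vT h𝒳 hy x j) (vV h𝒳 hy x j ≫ (yon S).map γ)) ρ := by
  have sq := IsPullback.of_hasPullback (prU h𝒳 x y) (prT h𝒳 y (BasedFunctor.comp (AlgSt.overMap j) y))
  have hN := isAlgSpaceP_of_isPullback sq (algP h𝒳 hy x) (algPj h𝒳 hy y j)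
  let N : Sp S := ⟨_, hN.1⟩
  let a : N ⟶ PW h𝒳 hy x := ObjectProperty.homMk (pullback.fst (prU h𝒳 x y) (prT h𝒳 y (BasedFunctor.comp (AlgSt.overMap j) y)))
  let b : N ⟶ PV h𝒳 hy y j := ObjectProperty.homMk (pullback.snd (prU h𝒳 x y) (prT h𝒳 y (BasedFunctor.comp (AlgSt.overMap j) y)))
  let c : N ⟶ PV h𝒳 hy x j := ObjectProperty.homMk (mulT sq)
  let σ : PV h𝒳 hy x j ⟶ N := ObjectProperty.homMk (shift sq)
  have hje : RepWith @Etale ((yon S).map j) := (repWith_yon_map_iff _ _).2 hj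
  have hvw : RepWith @Etale (vw h𝒳 hy x j) := K597.repWith_bc' _ (isPullback_vw h𝒳 hy x j) hje
  refine K747.SliceAbs.hasAt_of_unit (N := N) (a := a) (b := b) (c := c) (σ := σ) (t₁ := wT h𝒳 hy x) (u₁ := wU h𝒳 hy x)
    (AlgSp.IsAlgSpace.yon_obj T) (AlgSp.IsAlgSpace.yon_obj U) (AlgSp.IsAlgSpace.yon_obj A) (isAlg_PW h𝒳 hy x)
    (isAlg_PV h𝒳 hy y j) (isAlg_PV h𝒳 hy x j) hN.2 ((yon S).map γ) ?_ ?_ ?_ ?_ ?_ (smooth_wT h𝒳 hy x) ?_ ρ H
  · exact IsPullback.of_map_of_faithful (sheafToPresheaf (AlgSp.J S) (Type (u + 1))) sq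
  · exact IsPullback.of_map_of_faithful (sheafToPresheaf (AlgSp.J S) (Type (u + 1))) (isPullback_mulT sq)
  · rfl
  · apply ObjectProperty.hom_ext
    exact shift_mulT sq
  · apply ObjectProperty.hom_ext
    exact shift_snd sq
  · rw [← vw_wT]
    exact K597.locP_precomp hvw (lft_of_smooth (smooth_wT h𝒳 hy x))

end K747.SliceSt
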