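import Groth.Agent.AlgSt.K747.SliceSt
import Groth.Agent.AlgSp.K620.Dec
import Groth.Agent.AlgSp.K598.RepKit

/-!
# Étale coordinates near the unit section
-/

set_option autoImplicit false
set_option backward.isDefEq.respectTransparency false
set_option backward.isDefEq.respectTransparency.types false
universe w v₂ u₂ v u

open CategoryTheory Opposite K734.Fib AlgebraicGeometry Limits

namespace K747.SliceSt

open K747.Sc AlgSp K616.Near

variable {S : Scheme.{u}}

theorem repWith_of_comp_mono {P : MorphismProperty Scheme.{u}} {F G H : Sp S} {a : F ⟶ G} {m : G ⟶ H} [Mono m]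
    (h : RepWith P (a ≫ m)) : RepWith P a := by
  have sq : IsPullback (𝟙 F) a (a ≫ m) m := by
    refine IsPullback.of_isLimit' ⟨Category.id_comp _⟩ (PullbackCone.IsLimit.mk _ (fun s => s.fst) ?_ ?_ ?_)
    · intro s
      exact Category.comp_id _
    · intro s
      rw [← cancel_mono m, Category.assoc]
      exact s.condition
    · intro s m' h1 _
      rw [← h1, Category.comp_id]
  exact (RepWith P).of_isPullback sq h

/-- the product of two schemes over `S` -/
noncomputable def pr (T A : Over S) : Over S := Over.mk (pullback.fst T.hom A.hom ≫ T.hom)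

noncomputable def pr1 (T A : Over S) : pr T A ⟶ T := Over.homMk (pullback.fst T.hom A.hom) rfl
noncomputable def pr2 (T A : Over S) : pr T A ⟶ A := Over.homMk (pullback.snd T.hom A.hom) pullback.condition.symm

theorem isProd_pr (T A : Over S) : IsProd (pr1 T A) (pr2 T A) := by
  intro V t a
  refine ⟨Over.homMk (pullback.lift t.left a.left (by rw [Over.w, Over.w])) ?_, ⟨?_, ?_⟩, ?_⟩
  · change pullback.lift _ _ _ ≫ pullback.fst _ _ ≫ T.hom = _
    rw [pullback.lift_fst_assoc, Over.w]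
  · ext
    exact pullback.lift_fst _ _ _
  · ext
    exact pullback.lift_snd _ _ _
  · rintro l ⟨rfl, rfl⟩
    ext
    apply pullback.hom_ext
    · change l.left ≫ pullback.fst _ _ = pullback.lift _ _ _ ≫ pullback.fst _ _
      rw [pullback.lift_fst]
      rfl
    · change l.left ≫ pullback.snd _ _ = pullback.lift _ _ _ ≫ pullback.snd _ _
      rw [pullback.lift_snd]
      rfl

/-- `h_{T × A} ≅ h_T × h_A` -/
noncomputable def prY (T A : Over S) : (yon S).obj (pr T A) ⟶ (yon S).obj T ⨯ (yon S).obj A :=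
  prod.lift ((yon S).map (pr1 T A)) ((yon S).map (pr2 T A))

instance (T A : Over S) : IsIso (prY T A) := by
  have sq : IsPullback (prY T A) (prY T A) (𝟙 _) (𝟙 _) := by
    refine K613.Basic.isPullback_of_yon rfl ?_
    intro V p q hpq
    rw [Category.comp_id, Category.comp_id] at hpq
    subst hpq
    obtain ⟨t, ht⟩ : ∃ t : V ⟶ T, (yon S).map t = p ≫ prod.fst := (yon S).map_surjective _
    obtain ⟨a, ha⟩ : ∃ a : V ⟶ A, (yon S).map a = p ≫ prod.snd := (yon S).map_surjective _
    obtain ⟨l, ⟨h1, h2⟩, hl⟩ := isProd_pr T A t a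
    have hl0 : (yon S).map l ≫ prY T A = p := by
      apply Limits.prod.hom_ext
      · rw [Category.assoc, prY, prod.lift_fst, ← Functor.map_comp, h1, ht]
      · rw [Category.assoc, prY, prod.lift_snd, ← Functor.map_comp, h2, ha]
    refine ⟨(yon S).map l, ⟨hl0, hl0⟩, ?_⟩
    rintro m ⟨hm1, -⟩
    obtain ⟨m, rfl⟩ := (yon S).map_surjective m
    congr 1
    refine hl m ⟨(yon S).map_injective ?_, (yon S).map_injective ?_⟩
    · rw [Functor.map_comp, ht, ← hm1, Category.assoc, prY, prod.lift_fst]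
    · rw [Functor.map_comp, ha, ← hm1, Category.assoc, prY, prod.lift_snd]
  exact sq.isIso_fst_of_isIso

theorem repWith_prY (P : MorphismProperty Scheme.{u}) [P.IsStableUnderBaseChange] [P.IsMultiplicative] (T A : Over S) :
    RepWith P (prY T A) := K598.RepKit.repWith_of_isIso _

section unit

variable {𝒳 : BasedCategory.{u, w} (Over S)} (h𝒳 : FibCat.IsFibGrpd 𝒳.p)
variable {U : Over S} {y : FibCat.overCat U ⥤ᵇ 𝒳} (hy : AlgSt.RepByAlgSpWith (AlgSp.LocP @Smooth) y)

theorem unram_pair (hdm : AlgSt.IsDMOver 𝒳) {E : Over S} (ε : (yon S).obj E ⟶ PW h𝒳 hy y) (hε : RepWith @Etale ε)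
    (s t : E ⟶ U) (hs : ε ≫ wT h𝒳 hy y = (yon S).map s) (ht : ε ≫ wU h𝒳 hy y = (yon S).map t)
    (w : s.left ≫ U.hom = t.left ≫ U.hom) :
    FormallyUnramified (pullback.lift s.left t.left w) := by
  obtain ⟨h, h1, h2⟩ := diag_with h𝒳 _ hdm (BasedFunctor.comp (AlgSt.overMap (pr1 U U)) y)
    (BasedFunctor.comp (AlgSt.overMap (pr2 U U)) y)
  let i : (⟨I h𝒳 (BasedFunctor.comp (AlgSt.overMap (pr1 U U)) y) (BasedFunctor.comp (AlgSt.overMap (pr2 U U)) y), h⟩ : Sp S) ⟶
    PW h𝒳 hy y := ObjectProperty.homMk (ofI h𝒳 y y (pr1 U U) (pr2 U U))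
  have hi : IsIso i := by
    have : IsIso ((sheafToPresheaf (AlgSp.J S) (Type (u + 1))).map i) := isIso_ofI h𝒳 y y (isProd_pr U U)
    exact isIso_of_reflects_iso i (sheafToPresheaf (AlgSp.J S) (Type (u + 1)))
  have e1 : i ≫ wT h𝒳 hy y = prI' h𝒳 _ _ h ≫ (yon S).map (pr1 U U) := rfl
  have e2 : i ≫ wU h𝒳 hy y = prI' h𝒳 _ _ h ≫ (yon S).map (pr2 U U) := by
    apply ObjectProperty.hom_ext
    exact ofI_prU h𝒳 y y (pr1 U U) (pr2 U U)
  have hε' : RepWith @Etale (ε ≫ inv i) := K597.etale_comp hε (K598.RepKit.repWith_of_isIso _)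
  obtain ⟨q, hq⟩ := (yon S).map_surjective ((ε ≫ inv i) ≫ prI' h𝒳 _ _ h)
  have h3 := h2 (ε ≫ inv i) (𝟙 _) q hε' (repWith_id _ _) (by rw [Category.comp_id, hq])
  have h4 : q.left = pullback.lift s.left t.left w := by
    have k1 : q ≫ pr1 U U = s := (yon S).map_injective (by
      rw [Functor.map_comp, hq, Category.assoc, Category.assoc, ← e1, IsIso.inv_hom_id_assoc, hs])
    have k2 : q ≫ pr2 U U = t := (yon S).map_injective (by
      rw [Functor.map_comp, hq, Category.assoc, Category.assoc, ← e2, IsIso.inv_hom_id_assoc, ht])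
    apply pullback.hom_ext
    · rw [pullback.lift_fst, ← k1]
      rfl
    · rw [pullback.lift_snd, ← k2]
      rfl
  rw [← h4]
  exact h3.2

/-- étale coordinates near a point of the unit section -/
theorem exists_coord_unit (hdm : AlgSt.IsDMOver 𝒳) (u : U.left) :
    ∃ (V A : Over S) (j : V ⟶ U) (γ : V ⟶ A) (v : V.left), IsOpenImmersion j.left ∧ Smooth A.hom ∧ j.left v = u ∧
      HasAtMor (Near @Etale) (prod.lift (vT h𝒳 hy y j) (vV h𝒳 hy y j ≫ (yon S).map γ))
        (Points.map (un h𝒳 hy j) (Points.ofScheme V v)) := by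
  obtain ⟨E, ε, hε, hεs⟩ := (isAlg_PW h𝒳 hy y).hasAtlas
  let e0 : (yon S).obj U ⟶ PW h𝒳 hy y := un h𝒳 hy (𝟙 U) ≫ vw h𝒳 hy y (𝟙 U)
  obtain ⟨e, he⟩ := K609.Points.surjective_ofPt_of_repWith_surjective hεs (Points.map e0 (Points.ofScheme U u))
  obtain ⟨s, hs⟩ := (yon S).map_surjective (ε ≫ wT h𝒳 hy y)
  obtain ⟨t, ht⟩ := (yon S).map_surjective (ε ≫ wU h𝒳 hy y)
  have w : s.left ≫ U.hom = t.left ≫ U.hom := by rw [Over.w, Over.w]
  have hss : Smooth s.left := smooth_wT h𝒳 hy y ε (𝟙 _) s hε (repWith_id _ _) (by rw [Category.comp_id, hs])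
  have hun := unram_pair h𝒳 hy hdm ε hε s t hs.symm ht.symm w
  obtain ⟨V, E1, A, j, ι, l, γ, e1, w', hj, hι, hι1, hl, hA, het⟩ := EtCoord.exists_coord s t w hun e
  have he0 : e0 ≫ wU h𝒳 hy y = 𝟙 _ := rfl
  have hjv : j.left (l.left e1) = u := by
    have k1 : j.left (l.left e1) = t.left e := by
      rw [← Scheme.Hom.comp_apply, ← Over.comp_left, hl, Over.comp_left, Scheme.Hom.comp_apply, hι1]
    rw [k1]
    apply K609.Points.ofScheme_injective
    rw [← K609.Points.ofPt_yon_map, ht, Points.ofPt_eq_map_ofScheme, Points.map_comp, ← Points.ofPt_eq_map_ofScheme, he,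
      ← Points.map_comp, he0, Points.map_id]
  refine ⟨V, A, j, γ, l.left e1, hj, hA, hjv, ?_⟩
  have sq := isPullback_vw h𝒳 hy y j
  let a : (yon S).obj E1 ⟶ PV h𝒳 hy y j := sq.lift ((yon S).map ι ≫ ε) ((yon S).map l) (by
    rw [Category.assoc, ← ht, ← Functor.map_comp, ← Functor.map_comp, hl])
  have ha1 : a ≫ vw h𝒳 hy y j = (yon S).map ι ≫ ε := sq.lift_fst _ _ _
  have ha2 : a ≫ vV h𝒳 hy y j = (yon S).map l := sq.lift_snd _ _ _
  have hjm : Mono ((yon S).map j) := by
    have : Mono j.left := inferInstance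
    have : Mono j := (Over.forget S).mono_of_mono_map (by exact this)
    infer_instance
  have hvm : Mono (vw h𝒳 hy y j) := by
    exact sq.flip.mono_snd_of_mono
  have ha : RepWith @Etale a := by
    refine repWith_of_comp_mono (m := vw h𝒳 hy y j) ?_
    rw [ha1]
    exact K597.etale_comp ((repWith_yon_map_iff _ _).2 inferInstance) hε
  refine ⟨E1, pr U A, a, prY U A, Over.homMk (pullback.lift (ι ≫ s).left (l ≫ γ).left w') ?_, e1, ha, repWith_prY _ _ _, ?_, ?_, ?_⟩
  · change pullback.lift _ _ _ ≫ pullback.fst _ _ ≫ U.hom = _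
    rw [pullback.lift_fst_assoc, Over.w]
  · apply Limits.prod.hom_ext
    · rw [Category.assoc, Category.assoc, prY, prod.lift_fst, prod.lift_fst, ← vw_wT, reassoc_of% ha1, ← hs, ← Functor.map_comp, ← Functor.map_comp]
      congr 1
      ext
      exact (pullback.lift_fst _ _ _).symm
    · rw [Category.assoc, Category.assoc, prY, prod.lift_snd, prod.lift_snd, reassoc_of% ha2, ← Functor.map_comp, ← Functor.map_comp]
      congr 1
      ext
      exact (pullback.lift_snd _ _ _).symm
  · refine K620.Dec.injective_map_of_mono (vw h𝒳 hy y j) hvm ?_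
    rw [Points.map_ofPt, ha1, K609.Points.ofPt_yon_map_comp, hι1, he, ← Points.map_comp, ← hjv,
      ← K609.Points.map_yon_map_ofScheme, ← Points.map_comp]
    rfl
  · exact ⟨⊤, trivial, by
      have : Etale (pullback.lift (ι ≫ s).left (l ≫ γ).left w') := het
      change Etale (Scheme.Opens.ι ⊤ ≫ pullback.lift (ι ≫ s).left (l ≫ γ).left w')
      infer_instance⟩

end unit

end K747.SliceSt
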