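import Groth.Agent.AlgSt.K747.IsoSheaf
import Groth.Prelude.Def_AlgSpRep

set_option autoImplicit false
set_option backward.isDefEq.respectTransparency false
set_option backward.isDefEq.respectTransparency.types false
universe w v₃ u₃ v₂ u₂ v u

open CategoryTheory Opposite K734.Fib

namespace K747.Sc

variable {C : Type u} [Category.{v} C] {𝒳 : BasedCategory.{v₂, u₂} C}
variable {T T' U : C} {x : FibCat.overCat T ⥤ᵇ 𝒳} {y : FibCat.overCat T' ⥤ᵇ 𝒳} {z : FibCat.overCat U ⥤ᵇ 𝒳}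

/-- composition of sections -/
def Sec.trans {V : C} (s : Sec x y V) (s' : Sec y z V) (h : s.u = s'.t) : Sec x z V where
  t := s.t
  u := s'.u
  φ := s.φ ≫ y.map (om (𝟙 V) s'.t s.u (by simp [h])) ≫ s'.φ
  over := (s.vert.comp ((om_vert _).comp s'.vert)).lift (p_obj x s.t)

/-- inverse of a section -/
noncomputable def Sec.symm (h𝒳 : FibCat.IsFibGrpd 𝒳.p) {V : C} (s : Sec x y V) : Sec y x V where
  t := s.u
  u := s.t
  φ := (s.iso h𝒳).inv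
  over := (IsVert.inv (e := s.iso h𝒳) s.vert).lift (p_obj y s.u)

theorem IsRes.trans {V V' : C} {g : V' ⟶ V} {s : Sec x y V} {s' : Sec y z V} {r : Sec x y V'} {r' : Sec y z V'}
    (h₁ : IsRes g s r) (h₂ : IsRes g s' r') (h : s.u = s'.t) (h' : r.u = r'.t) :
    IsRes g (s.trans s' h) (r.trans r' h') := by
  refine ⟨h₁.ht, h₂.hu, ?_⟩
  change (r.φ ≫ y.map _ ≫ r'.φ) ≫ z.map (om g s'.u r'.u h₂.hu) = x.map (om g s.t r.t h₁.ht) ≫ (s.φ ≫ y.map _ ≫ s'.φ)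
  rw [Category.assoc, Category.assoc, h₂.hφ, ← Category.assoc (x.map _), ← h₁.hφ, Category.assoc, ← Category.assoc (y.map _),
    map_om_comp, ← Category.assoc (y.map _), map_om_comp]
  congr 3
  exact Over.OverMorphism.ext (by simp)

theorem IsRes.symm (h𝒳 : FibCat.IsFibGrpd 𝒳.p) {V V' : C} {g : V' ⟶ V} {s : Sec x y V} {r : Sec x y V'}
    (h₁ : IsRes g s r) : IsRes g (s.symm h𝒳) (r.symm h𝒳) := by
  refine ⟨h₁.hu, h₁.ht, ?_⟩
  change (r.iso h𝒳).inv ≫ x.map (om g s.t r.t h₁.ht) = y.map (om g s.u r.u h₁.hu) ≫ (s.iso h𝒳).inv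
  rw [Iso.inv_comp_eq, ← Category.assoc, Iso.eq_comp_inv]
  exact h₁.hφ.symm

theorem Sec.mk_congr {V : C} {t : V ⟶ T} {u : V ⟶ U} {φ φ' : x.obj (Over.mk t) ⟶ z.obj (Over.mk u)} {o o'}
    (h : φ = φ') : (⟨t, u, φ, o⟩ : Sec x z V) = ⟨t, u, φ', o'⟩ := by
  subst h
  rfl

theorem Sec.trans_trans_symm (h𝒳 : FibCat.IsFibGrpd 𝒳.p) {V : C} (s : Sec x y V) (s' : Sec y z V) (h : s.u = s'.t)
    (k : (s.trans s' h).u = (s'.symm h𝒳).t) : (s.trans s' h).trans (s'.symm h𝒳) k = s := by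
  obtain ⟨t, u, φ, o⟩ := s
  obtain ⟨t', u', φ', o'⟩ := s'
  dsimp only at h
  subst h
  refine Sec.mk_congr ?_
  change (φ ≫ y.map (om (𝟙 V) u u _) ≫ φ') ≫ z.map (om (𝟙 V) u' u' _) ≫ ((⟨u, u', φ', o'⟩ : Sec y z V).iso h𝒳).inv = φ
  rw [map_om_id, map_om_id, Category.id_comp, Category.id_comp, Category.assoc]
  have : φ' ≫ ((⟨u, u', φ', o'⟩ : Sec y z V).iso h𝒳).inv = 𝟙 _ := ((⟨u, u', φ', o'⟩ : Sec y z V).iso h𝒳).hom_inv_id
  rw [this, Category.comp_id]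

theorem Sec.trans_symm_trans (h𝒳 : FibCat.IsFibGrpd 𝒳.p) {V : C} (s : Sec x z V) (s' : Sec y z V) (h : s.u = s'.u)
    (k : (s.trans (s'.symm h𝒳) h).u = s'.t) : (s.trans (s'.symm h𝒳) h).trans s' k = s := by
  obtain ⟨t, u, φ, o⟩ := s
  obtain ⟨t', u', φ', o'⟩ := s'
  dsimp only at h
  subst h
  refine Sec.mk_congr ?_
  change (φ ≫ z.map (om (𝟙 V) u u _) ≫ ((⟨t', u, φ', o'⟩ : Sec y z V).iso h𝒳).inv) ≫ y.map (om (𝟙 V) t' t' _) ≫ φ' = φ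
  rw [map_om_id, map_om_id, Category.id_comp, Category.id_comp, Category.assoc]
  have : ((⟨t', u, φ', o'⟩ : Sec y z V).iso h𝒳).inv ≫ φ' = 𝟙 _ := ((⟨t', u, φ', o'⟩ : Sec y z V).iso h𝒳).inv_hom_id
  rw [this, Category.comp_id]

end K747.Sc
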